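import Groth.Prelude.Def_CohTop
import Mathlib.CategoryTheory.Sites.LocallyBijective
import Mathlib.Topology.Sheaves.LocallySurjective
import Mathlib.CategoryTheory.Sites.Limits
import Mathlib.CategoryTheory.Limits.Preserves.Basic
import Mathlib.CategoryTheory.Limits.Types.Limits
import Mathlib.CategoryTheory.Limits.Shapes.ConcreteCategory
import Mathlib.Algebra.Category.Grp.Limits

/-!
# Sheafifications of towers of presheaves which are sheaves on a basis
-/

set_option autoImplicit false
set_option linter.style.haveILetI false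
universe u

open CategoryTheory CategoryTheory.Limits Opposite TopologicalSpace

noncomputable section

namespace GrothLib.FCoh7

variable {X : TopCat.{u}} {B : Set (Opens X)} (hB : Opens.IsBasis B)

include hB in
theorem locallyBijective_of_basis {P Q : (Opens X)ᵒᵖ ⥤ AddCommGrpCat.{u}} (θ : P ⟶ Q)
    (hinj : ∀ V ∈ B, Function.Injective (θ.app (op V))) (hsur : ∀ V ∈ B, Function.Surjective (θ.app (op V))) :
    Presheaf.IsLocallyInjective (Opens.grothendieckTopology X) θ ∧
      Presheaf.IsLocallySurjective (Opens.grothendieckTopology X) θ := by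
  refine ⟨⟨fun {U} x y h p hp => ?_⟩, ⟨fun {U} s p hp => ?_⟩⟩
  · obtain ⟨V, hV, hpV, hVU⟩ := Opens.isBasis_iff_nbhd.1 hB hp
    refine ⟨V, homOfLE hVU, hinj V hV ?_, hpV⟩
    refine (ConcreteCategory.congr_hom (θ.naturality (homOfLE hVU).op) x).trans
      (Eq.trans ?_ (ConcreteCategory.congr_hom (θ.naturality (homOfLE hVU).op) y).symm)
    exact congrArg (Q.map (homOfLE hVU).op) h
  · obtain ⟨V, hV, hpV, hVU⟩ := Opens.isBasis_iff_nbhd.1 hB hp
    obtain ⟨t, ht⟩ := hsur V hV (Q.map (homOfLE hVU).op s)
    exact ⟨V, homOfLE hVU, ⟨t, ht⟩, hpV⟩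

/-- A locally bijective map to a sheaf exhibits the sheafification. -/
theorem isIso_desc_of_locallyBijective {P : (Opens X)ᵒᵖ ⥤ AddCommGrpCat.{u}} {S : CohTop.Ab X} (θ : P ⟶ S.obj)
    [hi : Presheaf.IsLocallyInjective (Opens.grothendieckTopology X) θ]
    [hs : Presheaf.IsLocallySurjective (Opens.grothendieckTopology X) θ] :
    IsIso (((sheafificationAdjunction (Opens.grothendieckTopology X) AddCommGrpCat.{u}).homEquiv P S).symm θ) := by
  haveI : IsIso ((presheafToSheaf (Opens.grothendieckTopology X) AddCommGrpCat.{u}).map θ) :=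
    (GrothendieckTopology.W_iff _ _).1 (GrothendieckTopology.W_of_isLocallyBijective _ _)
  rw [Adjunction.homEquiv_counit]
  infer_instance

/-- Sheafification does not change sections where some map to a sheaf is bijective. -/
theorem toSheafify_app_bijective {P : (Opens X)ᵒᵖ ⥤ AddCommGrpCat.{u}} {S : CohTop.Ab X} (θ : P ⟶ S.obj)
    [Presheaf.IsLocallyInjective (Opens.grothendieckTopology X) θ]
    [Presheaf.IsLocallySurjective (Opens.grothendieckTopology X) θ] (V : Opens X)
    (hV : Function.Bijective (θ.app (op V))) :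
    Function.Bijective ((toSheafify (Opens.grothendieckTopology X) P).app (op V)) := by
  haveI := isIso_desc_of_locallyBijective θ
  let c := ((sheafificationAdjunction (Opens.grothendieckTopology X) AddCommGrpCat.{u}).homEquiv P S).symm θ
  have e : θ = toSheafify (Opens.grothendieckTopology X) P ≫ c.hom :=
    ((sheafificationAdjunction (Opens.grothendieckTopology X) AddCommGrpCat.{u}).homEquiv P S).apply_symm_apply θ
      |>.symm.trans (Adjunction.homEquiv_unit _ _ _ _)
  haveI : IsIso c.hom := inferInstanceAs (IsIso ((sheafToPresheaf _ _).map c))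
  have hc : Function.Bijective (c.hom.app (op V)) :=
    ConcreteCategory.bijective_of_isIso (c.hom.app (op V))
  rw [e] at hV
  exact (Function.Bijective.of_comp_iff' hc _).1 hV

include hB in
/-- A cone that is a limit on a basis becomes a limit after sheafification. -/
theorem isIso_of_basis_limit (P : (Opens X)ᵒᵖ ⥤ AddCommGrpCat.{u}) (S : ℕᵒᵖ ⥤ CohTop.Ab X)
    (θ : ∀ k, P ⟶ (S.obj (op k)).obj)
    (hinj : ∀ V ∈ B, ∀ x : P.obj (op V), (∀ k, (θ k).app (op V) x = 0) → x = 0)
    (hsur : ∀ V ∈ B, ∀ s : ∀ k, (S.obj (op k)).obj.obj (op V),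
      (∀ k, (S.map (homOfLE (Nat.le_succ k)).op).hom.app (op V) (s (k + 1)) = s k) →
        ∃ x, ∀ k, (θ k).app (op V) x = s k)
    (c : (presheafToSheaf (Opens.grothendieckTopology X) AddCommGrpCat.{u}).obj P ⟶ limit S)
    (hc : ∀ k, toSheafify (Opens.grothendieckTopology X) P ≫ (c ≫ limit.π S (op k)).hom = θ k) :
    IsIso c := by
  let d : P ⟶ (limit S).obj := toSheafify (Opens.grothendieckTopology X) P ≫ c.hom
  have hd : ∀ k (V : (Opens X)ᵒᵖ) (x : P.obj V), (limit.π S (op k)).hom.app V (d.app V x) = (θ k).app V x :=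
    fun k V x => (ConcreteCategory.congr_hom (NatTrans.congr_app (hc k) V) x)
  have hlim : ∀ V : (Opens X)ᵒᵖ, ∀ a b : (limit S).obj.obj V,
      (∀ k : ℕ, (limit.π S (op k)).hom.app V a = (limit.π S (op k)).hom.app V b) → a = b := fun V a b hab =>
    Concrete.isLimit_ext _ (isLimitOfPreserves (sheafToPresheaf (Opens.grothendieckTopology X) AddCommGrpCat.{u} ⋙
      (evaluation _ _).obj V) (limit.isLimit S)) a b fun k => hab k.unop
  have hb := locallyBijective_of_basis hB d (fun V hV => (injective_iff_map_eq_zero _).2 fun x hx =>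
      hinj V hV x fun k => ((hd k (op V) x).symm.trans (congrArg ((limit.π S (op k)).hom.app (op V)) hx)).trans
        (map_zero _))
    (fun V hV s => by
      obtain ⟨x, hx⟩ := hsur V hV (fun k => (limit.π S (op k)).hom.app (op V) s) fun k =>
        ConcreteCategory.congr_hom (NatTrans.congr_app
          (congrArg (fun φ : limit S ⟶ _ => φ.hom) (limit.w S (homOfLE (Nat.le_succ k)).op)) (op V)) s
      exact ⟨x, hlim (op V) _ _ fun k => (hd k (op V) x).trans (hx k)⟩)
  haveI := hb.1
  haveI := hb.2
  have h := isIso_desc_of_locallyBijective d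
  have e : ((sheafificationAdjunction (Opens.grothendieckTopology X) AddCommGrpCat.{u}).homEquiv P (limit S)).symm d =
      c := by
    rw [Equiv.symm_apply_eq, Adjunction.homEquiv_unit]
    rfl
  rwa [e] at h

end GrothLib.FCoh7
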