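import Groth.Agent.Lib.Cohom.RpushSections
import Groth.Agent.Lib.SheafCoh.Leray
import Groth.Agent.Lib.FCoh7.SheafTower

/-!
# The cohomology presheaf of a level is a sheaf on affine opens
-/

set_option autoImplicit false
set_option linter.style.haveILetI false
set_option backward.isDefEq.respectTransparency false
universe u

open CategoryTheory CategoryTheory.Limits AlgebraicGeometry Opposite TopologicalSpace

noncomputable section

namespace GrothLib.FCoh7

/-- Opens with affine preimage under a homeomorphism form a basis. -/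
theorem isBasis_affine_preimage {Y : Scheme.{u}} {T : TopCat.{u}} (gY : Y.toTopCat ⟶ T) (hgY : IsHomeomorph gY) :
    Opens.IsBasis {W : Opens T | IsAffineOpen ((Opens.map gY).obj W)} := by
  refine Opens.isBasis_iff_nbhd.2 fun {U} x hx => ?_
  obtain ⟨y, rfl⟩ := hgY.surjective x
  obtain ⟨A, hA, hyA, hAU⟩ := Opens.isBasis_iff_nbhd.1 Y.isBasis_affineOpens (U := (Opens.map gY).obj U) hx
  let W : Opens T := ⟨gY '' (A : Set Y), hgY.isOpenMap _ A.isOpen⟩
  have e : (Opens.map gY).obj W = A := by
    ext1
    exact Set.preimage_image_eq _ hgY.injective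
  refine ⟨W, ?_, ⟨y, hyA, rfl⟩, ?_⟩
  · show IsAffineOpen _
    rw [e]
    exact hA
  · rintro _ ⟨a, ha, rfl⟩
    exact hAU ha

/-- On opens with affine preimage, sheafifying the cohomology presheaf of a level changes nothing. -/
theorem bijective_toSheafify_level {Z Y : Scheme.{u}} (fk : Z ⟶ Y) [QuasiCompact fk] [QuasiSeparated fk]
    {T T' : TopCat.{u}} (gZ : Z.toTopCat ⟶ T) (gY : Y.toTopCat ⟶ T') (f0 : T ⟶ T')
    (hgZ : IsHomeomorph gZ) (hgY : IsHomeomorph gY) (hcomm : fk.base ≫ gY = gZ ≫ f0)
    (G : Z.Modules) [G.IsQuasicoherent] (q : ℕ) (W : Opens T') (hW : IsAffineOpen ((Opens.map gY).obj W)) :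
    Function.Bijective ((toSheafify (Opens.grothendieckTopology T') ((Opens.map f0).op ⋙
      Sheaf.cohomologyPresheaf.{u} ((CohTop.push gZ).obj (Coh.toAb G)) q)).app (op W)) := by
  obtain ⟨I⟩ := Cohom.nonempty_flRes' G
  have : PreservesFiniteLimits (CohSite.push (Opens.grothendieckTopology Z.toTopCat)
      (Opens.grothendieckTopology T) (Opens.map gZ)) :=
    have := (TopCat.Sheaf.pullbackPushforwardAdjunction AddCommGrpCat.{u} gZ).rightAdjoint_preservesLimits
      (F := CohTop.pull gZ) (G := CohTop.push gZ)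
    inferInstanceAs (PreservesFiniteLimits (CohTop.push gZ))
  let e : Sheaf.cohomologyPresheaf.{u} ((CohTop.push gZ).obj (Coh.toAb G)) q ≅
      (Opens.map gZ).op ⋙ Sheaf.cohomologyPresheaf.{u} (Coh.toAb G) q :=
    SheafCoh.cohomologyPresheafPushIso (J := Opens.grothendieckTopology Z.toTopCat)
      (Opens.grothendieckTopology T) (Opens.map gZ) (fun J _ => SheafCoh.injective_push gZ J) (Coh.toAb G)
      (fun i => SheafCoh.isZero_Rpush_of_isClosedEmbedding gZ hgZ.isClosedEmbedding (Coh.toAb G) i) q
  have hV : ∀ V : Opens T', (Opens.map gZ).obj ((Opens.map f0).obj V) =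
      (Opens.map fk.base).obj ((Opens.map gY).obj V) := fun V =>
    congrArg (fun g : Z.toTopCat ⟶ T' => (Opens.map g).obj V) hcomm.symm
  let t : (Opens.map f0).op ⋙ (Opens.map gZ).op ≅ (Opens.map gY).op ⋙ (Opens.map fk.base).op :=
    NatIso.ofComponents (fun V => eqToIso (congrArg op (hV V.unop))) fun _ =>
      Quiver.Hom.unop_inj (Subsingleton.elim _ _)
  let S : CohTop.Ab T' := (CohTop.push gY).obj (Coh.toAb ((Cohom.pushCx fk I.cocomplex).homology q))
  let η : (Opens.map f0).op ⋙ Sheaf.cohomologyPresheaf.{u} ((CohTop.push gZ).obj (Coh.toAb G)) q ⟶ S.obj :=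
    Functor.whiskerLeft (Opens.map f0).op e.hom ≫
      Functor.whiskerRight t.hom (Sheaf.cohomologyPresheaf.{u} (Coh.toAb G) q) ≫
      Functor.whiskerLeft (Opens.map gY).op (Cohom.presheafToHomology fk I q)
  have hbij : ∀ V : Opens T', IsAffineOpen ((Opens.map gY).obj V) → Function.Bijective (η.app (op V)) := by
    intro V hV'
    let a := e.app (op ((Opens.map f0).obj V)) ≪≫
      (Sheaf.cohomologyPresheaf.{u} (Coh.toAb G) q).mapIso (t.app (op V))
    exact (Cohom.classToSection_bijective fk I q hV').comp (ConcreteCategory.bijective_of_isIso a.hom)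
  have hl := locallyBijective_of_basis (isBasis_affine_preimage gY hgY) η
    (fun V hV' => (hbij V hV').1) (fun V hV' => (hbij V hV').2)
  haveI := hl.1
  haveI := hl.2
  exact toSheafify_app_bijective η W (hbij W hW)

end GrothLib.FCoh7
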