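import Groth.Agent.Lib.FMod7.Ring
import Groth.Agent.Lib.FSchSys.Open
import Groth.Agent.Lib.UnifVanish7.Levels
import Groth.Agent.Lib.FFormal7.Sections
import Groth.Prelude.Def_FSch4

/-!
# A proper morphism over an affine open of the base gives an adic system over the ring of sections
-/

set_option autoImplicit false
set_option linter.style.haveILetI false
universe u

open CategoryTheory CategoryTheory.Limits AlgebraicGeometry Opposite TopologicalSpace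

noncomputable section

namespace GrothLib.FCoh7

theorem resLE_toSpecΓ {X Y : Scheme.{u}} (f : X ⟶ Y) (U : Y.Opens) (V : X.Opens) (e : V ≤ f ⁻¹ᵁ U) :
    f.resLE U V e ≫ U.toSpecΓ = V.toSpecΓ ≫ Spec.map (f.appLE U V e) := by
  rw [Scheme.Hom.appLE, Spec.map_comp, Scheme.Opens.toSpecΓ_SpecMap_presheaf_map_assoc,
    Scheme.Opens.toSpecΓ_naturality]
  rfl

variable {𝔜 : FSch.Sys.{u}} {h𝔜 : 𝔜.IsFormal} (hN : 𝔜.IsLocNoethFormal) {W : (𝔜.X 0).Opens} (hW : IsAffineOpen W)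

include hN hW in
/-- The levels over an affine open are the spectra of the quotients of the ring of sections. -/
theorem exists_chart : ∃ c : ∀ k, (𝔜.restrictOpen h𝔜 W).X k ≅
      Spec (CommRingCat.of (FMod7.Sec 𝔜 h𝔜 W ⧸ FMod7.secIdeal 𝔜 h𝔜 W ^ (k + 1))),
    (∀ k, (c k).hom ≫ CohB1.specQuot (FMod7.secIdeal 𝔜 h𝔜 W) k =
      (𝔜.lvU h𝔜 k W).toSpecΓ ≫ Spec.map (CommRingCat.ofHom (FMod7.proj 𝔜 h𝔜 W k))) ∧
    ∀ k, (𝔜.restrictOpen h𝔜 W).ι k ≫ (c (k + 1)).hom =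
      (c k).hom ≫ CohB1.specQuotTrans (FMod7.secIdeal 𝔜 h𝔜 W) k := by
  let B := FMod7.Sec 𝔜 h𝔜 W
  let J := FMod7.secIdeal 𝔜 h𝔜 W
  let π : ∀ k, B ⧸ J ^ (k + 1) ≃+* FMod7.LSec 𝔜 h𝔜 W k := fun k =>
    (Ideal.quotEquivOfEq (FMod7.ker_proj (h := h𝔜) hN hW k).symm).trans
      (RingHom.quotientKerEquivOfSurjective (FMod7.proj_surjective (h := h𝔜) hN hW k))
  let c : ∀ k, (𝔜.restrictOpen h𝔜 W).X k ≅ Spec (CommRingCat.of (B ⧸ J ^ (k + 1))) := fun k =>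
    (FFormal7.isAffineOpen_lvU 𝔜 h𝔜 hW k).isoSpec ≪≫ Scheme.Spec.mapIso (π k).toCommRingCatIso.op
  have hc : ∀ k, (c k).hom ≫ CohB1.specQuot J k =
      (𝔜.lvU h𝔜 k W).toSpecΓ ≫ Spec.map (CommRingCat.ofHom (FMod7.proj 𝔜 h𝔜 W k)) := fun k => by
    have e : CommRingCat.ofHom (Ideal.Quotient.mk (J ^ (k + 1))) ≫ (π k).toCommRingCatIso.hom =
        CommRingCat.ofHom (FMod7.proj 𝔜 h𝔜 W k) := by
      ext x
      rfl
    show ((FFormal7.isAffineOpen_lvU 𝔜 h𝔜 hW k).isoSpec.hom ≫ Spec.map (π k).toCommRingCatIso.hom) ≫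
      Spec.map (CommRingCat.ofHom (Ideal.Quotient.mk (J ^ (k + 1)))) = _
    rw [IsAffineOpen.isoSpec_hom, Category.assoc, ← Spec.map_comp, e]
  refine ⟨c, hc, fun k => ?_⟩
  haveI := FormalExist7.isClosedImmersion_specQuot J (k + 1)
  rw [← cancel_mono (CohB1.specQuot J (k + 1))]
  simp only [Category.assoc]
  rw [UnifVanish7.specQuotTrans_specQuot, hc, hc]
  refine ((Category.assoc _ _ _).symm.trans (congrArg (· ≫ _) (resLE_toSpecΓ (𝔜.ι k) _ _ (𝔜.lvU_le h𝔜 k W)))).trans ?_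
  rw [Category.assoc, ← Spec.map_comp]
  refine congrArg (fun φ => (𝔜.lvU h𝔜 k W).toSpecΓ ≫ Spec.map φ) ?_
  ext x
  exact FMod7.trans_proj 𝔜 h𝔜 W k x

variable {𝔛 : FSch.Sys.{u}} (h𝔛 : 𝔛.IsFormal) (f : 𝔛 ⟶ 𝔜) (hf : FSch.IsProperHom f)

include hN hW hf in
/-- The levels over an affine open of the base form an adic system over the ring of sections, proper at the bottom. -/
theorem exists_adicSys :
    ∃ (inst : ∀ k, (((𝔛.restrictOpen h𝔛 ((f : FSch.Hom 𝔛 𝔜).app 0 ⁻¹ᵁ W)).X k).Over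
        (Spec (CommRingCat.of (FMod7.Sec 𝔜 h𝔜 W)))))
      (p : ∀ k, (𝔛.restrictOpen h𝔛 ((f : FSch.Hom 𝔛 𝔜).app 0 ⁻¹ᵁ W)).X k ⟶
        Spec (CommRingCat.of (FMod7.Sec 𝔜 h𝔜 W ⧸ FMod7.secIdeal 𝔜 h𝔜 W ^ (k + 1)))),
      UnifVanish7.IsAdicSys (hX := inst) (FMod7.secIdeal 𝔜 h𝔜 W)
        (𝔛.restrictOpen h𝔛 ((f : FSch.Hom 𝔛 𝔜).app 0 ⁻¹ᵁ W)).ι p ∧
      IsProper (p 0) ∧
      ∀ k, p k ≫ CohB1.specQuot (FMod7.secIdeal 𝔜 h𝔜 W) k =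
        (FSch.Hom.restrictOpen f h𝔛 h𝔜 W : FSch.Hom _ _).app k ≫ (𝔜.lvU h𝔜 k W).toSpecΓ ≫
          Spec.map (CommRingCat.ofHom (FMod7.proj 𝔜 h𝔜 W k)) := by
  obtain ⟨c, hc, hc'⟩ := exists_chart (h𝔜 := h𝔜) hN hW
  let V := (f : FSch.Hom 𝔛 𝔜).app 0 ⁻¹ᵁ W
  let r := (FSch.Hom.restrictOpen f h𝔛 h𝔜 W : FSch.Hom _ _)
  let p : ∀ k, (𝔛.restrictOpen h𝔛 V).X k ⟶ _ := fun k => r.app k ≫ (c k).hom
  letI : ∀ k, ((𝔛.restrictOpen h𝔛 V).X k).Over (Spec (CommRingCat.of (FMod7.Sec 𝔜 h𝔜 W))) :=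
    fun k => ⟨p k ≫ CohB1.specQuot _ k⟩
  refine ⟨inferInstance, p, ⟨fun k => ?_, fun k => rfl⟩, ?_, fun k => (Category.assoc _ _ _).trans (congrArg (r.app k ≫ ·) (hc k))⟩
  · exact (FSchSys.isAdicHom_restrictOpen f hf.1 h𝔛 h𝔜 W k).paste_vert
      (IsPullback.of_vert_isIso ⟨hc' k⟩)
  · haveI := hf.2
    have hr : IsProper (r.app 0) := MorphismProperty.of_isPullback (P := @IsProper)
      (FSchSys.isPullback_resLE_of_eq ((f : FSch.Hom 𝔛 𝔜).app 0) (𝔜.lvU h𝔜 0 W) (𝔛.lvU h𝔛 0 V)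
        (FSch.Hom.lvU_preimage f h𝔛 h𝔜 0 W).ge (FSch.Hom.lvU_preimage f h𝔛 h𝔜 0 W).symm).flip ‹_›
    exact MorphismProperty.comp_mem @IsProper _ _ hr inferInstance

end GrothLib.FCoh7
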