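import Groth.Agent.Lib.FormalFn.Main
import Groth.Agent.Lib.FormalFn.Push
import Groth.Agent.Lib.FormalLim7.Milnor
import Groth.Agent.Lib.FormalLim7.LimQuot
import Groth.Agent.Lib.AdicLim.Tower
import Groth.Agent.Lib.ProjCoh.Generic

/-!
# Cohomology of the limit of the quotients of a coherent module on a proper scheme
-/

set_option autoImplicit false
set_option linter.style.haveILetI false
set_option linter.unusedSectionVars false
set_option maxHeartbeats 800000
universe u

open CategoryTheory CategoryTheory.Limits AlgebraicGeometry Opposite TopologicalSpace Abelian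

noncomputable section

namespace GrothLib.FCoh7

open GrothLib.FormalLim7 GrothLib.FormalFn

section Ideal

variable {A : Type u} [CommRing A] [IsNoetherianRing A] (I : Ideal A) {X : Scheme.{u}}
  [X.Over (Spec (CommRingCat.of A))] [IsProper (X ↘ Spec (CommRingCat.of A))] (F : X.Modules)

theorem modPowLE_trans {m n : ℕ} (h : n + 1 ≤ m) (h' : n ≤ m) :
    Formal2.modPowLE I (Nat.succ_le_succ h) F ≫ Formal.modPowTrans I (n + 1) F =
      Formal2.modPowLE I (Nat.succ_le_succ h') F := by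
  haveI := FormalFun.epi_modPowπ I (m + 1) F
  refine (cancel_epi (Formal.modPowπ I (m + 1) F)).1 ?_
  refine (Category.assoc _ _ _).symm.trans ((congrArg (· ≫ Formal.modPowTrans I (n + 1) F)
    (Formal2.modPowπ_modPowLE I (Nat.succ_le_succ h) F)).trans ?_)
  exact (Formal.modPowπ_trans I (n + 1) F).trans (Formal2.modPowπ_modPowLE I (Nat.succ_le_succ h') F).symm

theorem towerImage_le (p a : ℕ) : ∀ (n m : ℕ) (_ : n + a = m) (h : n ≤ m),
    AdicLim.towerImage (Formal.HHmodPowTrans I F p) a n ≤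
    (Sheaf.H.map ((SheafOfModules.toSheaf X.ringCatSheaf).map
      (Formal2.modPowLE I (Nat.succ_le_succ h) F)) p).range := by
  induction a with
  | zero =>
    rintro n m rfl h x -
    refine ⟨x, ?_⟩
    have e : Formal2.modPowLE I (Nat.succ_le_succ h) F = 𝟙 (Formal.modPow I (n + 1) F) := by
      haveI := FormalFun.epi_modPowπ I (n + 1) F
      refine (cancel_epi (Formal.modPowπ I (n + 1) F)).1 ?_
      exact (Formal2.modPowπ_modPowLE I (Nat.succ_le_succ h) F).trans (Category.comp_id _).symm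
    refine (congrArg (fun φ : Formal.modPow I (n + 1) F ⟶ Formal.modPow I (n + 1) F =>
      Sheaf.H.map ((SheafOfModules.toSheaf X.ringCatSheaf).map φ) p x) e).trans ?_
    exact (congrArg (fun t => Sheaf.H.map t p x) ((SheafOfModules.toSheaf X.ringCatSheaf).map_id _)).trans
      (Sheaf.H.map_id_apply _)
  | succ a ih =>
    rintro n m hm h _ ⟨w, hw, rfl⟩
    obtain ⟨z, rfl⟩ := ih (n + 1) m (by omega) (by omega) hw
    exact ⟨z, (hmap_factor (modPowLE_trans I F (show n + 1 ≤ m by omega) h) p z).symm⟩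

/-- `lim¹` of the cohomology of the quotients vanishes. -/
theorem towerDiff_surjective (hF : Coh.IsCoh F) (p : ℕ) :
    Function.Surjective (Formal2.towerDiff (Formal.HHmodPow I F p) (Formal.HHmodPowTrans I F p)) := by
  obtain ⟨c, hc⟩ := mittag_leffler I F hF p
  refine AdicLim.towerDiff_surjective _ (fun n => (Formal.toHHmodPow I F p n).range) (fun n => ⟨c, ?_⟩) fun n => ?_
  · intro v hv
    obtain ⟨z, hz⟩ := towerImage_le I F p c n (n + c) rfl (Nat.le_add_right n c) hv
    have h := hc n (n + c) (Nat.le_add_right n c) le_rfl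
    rw [range_completion_map I F p (Nat.le_add_right n c)] at h
    obtain ⟨y, hy⟩ := h.le ⟨z, rfl⟩
    exact ⟨y, hy.trans hz⟩
  · rintro _ ⟨x, rfl⟩
    exact ⟨Formal.toHHmodPow I F p (n + 1) x, ⟨x, rfl⟩, (Formal.toHHlim I F p x).2 n⟩

end Ideal

section Abstract

variable {T : TopCat.{u}} (S : ℕᵒᵖ ⥤ Cohom.AbSheaf T) {L : Cohom.AbSheaf T} (q : ∀ k, L ⟶ S.obj (op k))
  (hq : ∀ k, q (k + 1) ≫ S.map (homOfLE (Nat.le_succ k)).op = q k)

/-- The transition maps in cohomology. -/
def hT (p k : ℕ) : Sheaf.H (S.obj (op (k + 1))) p →+ Sheaf.H (S.obj (op k)) p :=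
  Sheaf.H.map (S.map (homOfLE (Nat.le_succ k)).op) p

/-- The compatible families of classes. -/
def hLim (p : ℕ) : AddSubgroup (∀ k, Sheaf.H (S.obj (op k)) p) where
  carrier := {x | ∀ k, hT S p k (x (k + 1)) = x k}
  zero_mem' := fun k => map_zero _
  add_mem' := fun {x y} hx hy k => (map_add (hT S p k) _ _).trans (congrArg₂ (· + ·) (hx k) (hy k))
  neg_mem' := fun {x} hx k => (map_neg (hT S p k) _).trans (congrArg Neg.neg (hx k))

/-- The classes of the levels of a class of the limit. -/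
def toHLim (p : ℕ) : Sheaf.H L p →+ hLim S p :=
  AddMonoidHom.mk' (fun x => ⟨fun k => Sheaf.H.map (q k) p x, fun k => by
      show Sheaf.H.map (S.map (homOfLE (Nat.le_succ k)).op) p (Sheaf.H.map (q (k + 1)) p x) = Sheaf.H.map (q k) p x
      rw [← hq k, Sheaf.H.map_comp_apply]⟩)
    fun x y => Subtype.ext (funext fun _ => map_add _ x y)

theorem toHLim_apply (p : ℕ) (x : Sheaf.H L p) (k : ℕ) : (toHLim S q hq p x).1 k = Sheaf.H.map (q k) p x := rfl

theorem toHLim_bijective_succ (p : ℕ)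
    (htower : (∀ ξ : ∀ n : ℕ, extLev.{u} S (Cohom.freeFun.obj (⊤ : Opens T)) (p + 1) n,
        (∀ n, extMap S (Cohom.freeFun.obj (⊤ : Opens T)) (p + 1) n (ξ (n + 1)) = ξ n) →
        ∃ η : Ext.{u} (Cohom.freeFun.obj (⊤ : Opens T)) L (p + 1),
          ∀ n, η.comp (Ext.mk₀ (q n)) (add_zero (p + 1)) = ξ n) ∧
      ∃ α : Formal2.limOne (extLev.{u} S (Cohom.freeFun.obj (⊤ : Opens T)) p)
          (extMap S (Cohom.freeFun.obj (⊤ : Opens T)) p) →+ Ext.{u} (Cohom.freeFun.obj (⊤ : Opens T)) L (p + 1),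
        Function.Injective α ∧ ∀ η, η ∈ α.range ↔ ∀ n, η.comp (Ext.mk₀ (q n)) (add_zero (p + 1)) = 0)
    (hml : Function.Surjective (Formal2.towerDiff (fun k => Sheaf.H (S.obj (op k)) p) (hT S p))) :
    Function.Bijective (toHLim S q hq (p + 1)) := by
  let P := Cohom.freeFun.obj (⊤ : Opens T)
  obtain ⟨hlift, α, -, hr⟩ := htower
  let E : ∀ r k, Sheaf.H (S.obj (op k)) r ≃+ extLev.{u} S P r k := fun r k => Cohom.HEquivTop _ r
  have hE : ∀ r k x, extMap S P r k (E r (k + 1) x) = E r k (hT S r k x) := fun r k x =>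
    (HEquivTop_map (S.map (homOfLE (Nat.le_succ k)).op) r x).symm
  have hπ : ∀ (k : ℕ) (η : Sheaf.H L (p + 1)),
      (Cohom.HEquivTop _ (p + 1) η).comp (Ext.mk₀ (q k)) (add_zero _) = E (p + 1) k ((toHLim S q hq (p + 1) η).1 k) :=
    fun k η => (HEquivTop_map (q k) (p + 1) η).symm
  have hlim : ∀ x : Formal2.limOne (extLev.{u} S P p) (extMap S P p), x = 0 := fun x => by
    obtain ⟨y, rfl⟩ := QuotientAddGroup.mk_surjective x
    refine (QuotientAddGroup.eq_zero_iff y).2 ?_
    obtain ⟨a, ha⟩ := hml fun k => (E p k).symm (y k)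
    refine ⟨fun k => E p k (a k), funext fun k => ?_⟩
    show E p k (a k) - extMap S P p k (E p (k + 1) (a (k + 1))) = y k
    rw [hE, ← map_sub]
    exact (congrArg (E p k) (congrFun ha k)).trans ((E p k).apply_symm_apply _)
  refine ⟨(injective_iff_map_eq_zero _).2 fun η hη => ?_, fun y => ?_⟩
  · have h0 : ∀ k, (Cohom.HEquivTop _ (p + 1) η).comp (Ext.mk₀ (q k)) (add_zero _) = 0 := fun k => by
      rw [hπ, show (toHLim S q hq (p + 1) η).1 k = 0 from congrFun (congrArg Subtype.val hη) k, map_zero]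
    obtain ⟨x, hx⟩ := (hr _).2 h0
    rw [hlim x, map_zero] at hx
    exact (Cohom.HEquivTop _ (p + 1)).injective (hx.symm.trans (map_zero _).symm)
  · obtain ⟨ξ, hξ⟩ := hlift (fun k => E (p + 1) k (y.1 k)) fun k =>
      (hE (p + 1) k _).trans (congrArg (E (p + 1) k) (y.2 k))
    obtain ⟨η, rfl⟩ := (Cohom.HEquivTop _ (p + 1)).surjective ξ
    exact ⟨η, Subtype.ext (funext fun k => (E (p + 1) k).injective ((hπ k η).symm.trans (hξ k)))⟩

theorem toHLim_bijective_zero
    (hext : ∀ x y : L.obj.obj (op ⊤), (∀ k, (q k).hom.app (op ⊤) x = (q k).hom.app (op ⊤) y) → x = y)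
    (hlift : ∀ s : ∀ k, (S.obj (op k)).obj.obj (op ⊤),
      (∀ k, (S.map (homOfLE (Nat.le_succ k)).op).hom.app (op ⊤) (s (k + 1)) = s k) →
        ∃ x, ∀ k, (q k).hom.app (op ⊤) x = s k) :
    Function.Bijective (toHLim S q hq 0) := by
  let H0 : ∀ F : Cohom.AbSheaf T, Sheaf.H F 0 ≃+ F.obj.obj (op ⊤) := fun F =>
    (Cohom.HEquivTop F 0).trans (Cohom.H0Equiv F ⊤)
  have hnat : ∀ {F F' : Cohom.AbSheaf T} (φ : F ⟶ F') (x : Sheaf.H F 0),
      H0 F' (Sheaf.H.map φ 0 x) = φ.hom.app (op ⊤) (H0 F x) := fun φ x => ProjCoh.H0Equiv_HEquivTop_map φ x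
  refine ⟨fun x y hxy => (H0 _).injective (hext _ _ fun k => ?_), fun y => ?_⟩
  · exact (hnat _ x).symm.trans ((congrArg (H0 _) (congrFun (congrArg Subtype.val hxy) k)).trans (hnat _ y))
  · obtain ⟨s, hs⟩ := hlift (fun k => H0 _ (y.1 k)) fun k =>
      (hnat (S.map (homOfLE (Nat.le_succ k)).op) (y.1 (k + 1))).symm.trans (congrArg (H0 _) (y.2 k))
    refine ⟨(H0 _).symm s, Subtype.ext (funext fun k => (H0 _).injective ?_)⟩
    refine (hnat _ _).trans ?_
    rw [AddEquiv.apply_symm_apply]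
    exact hs k

/-- An isomorphism on cohomology. -/
def hIso {F F' : Cohom.AbSheaf T} (e : F ≅ F') (p : ℕ) : Sheaf.H F p ≃+ Sheaf.H F' p :=
  { Sheaf.H.map e.hom p with
    invFun := Sheaf.H.map e.inv p
    left_inv := fun x => by
      show Sheaf.H.map e.inv p (Sheaf.H.map e.hom p x) = x
      rw [← Sheaf.H.map_comp_apply, e.hom_inv_id, Sheaf.H.map_id_apply]
    right_inv := fun x => by
      show Sheaf.H.map e.hom p (Sheaf.H.map e.inv p x) = x
      rw [← Sheaf.H.map_comp_apply, e.inv_hom_id, Sheaf.H.map_id_apply] }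

/-- Isomorphic towers with vanishing `lim¹`. -/
theorem towerDiff_surjective_of_iso {S' : ℕᵒᵖ ⥤ Cohom.AbSheaf T} (j : ∀ k, S'.obj (op k) ≅ S.obj (op k))
    (hj : ∀ k, (j (k + 1)).hom ≫ S.map (homOfLE (Nat.le_succ k)).op = S'.map (homOfLE (Nat.le_succ k)).op ≫ (j k).hom)
    (p : ℕ) (h : Function.Surjective (Formal2.towerDiff (fun k => Sheaf.H (S'.obj (op k)) p) (hT S' p))) :
    Function.Surjective (Formal2.towerDiff (fun k => Sheaf.H (S.obj (op k)) p) (hT S p)) := by
  intro y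
  obtain ⟨a, ha⟩ := h fun k => (hIso (j k) p).symm (y k)
  refine ⟨fun k => hIso (j k) p (a k), funext fun k => ?_⟩
  show hIso (j k) p (a k) - hT S p k (hIso (j (k + 1)) p (a (k + 1))) = y k
  have hc : hT S p k (hIso (j (k + 1)) p (a (k + 1))) = hIso (j k) p (hT S' p k (a (k + 1))) := by
    show Sheaf.H.map _ p (Sheaf.H.map _ p _) = Sheaf.H.map _ p (Sheaf.H.map _ p _)
    rw [← Sheaf.H.map_comp_apply, ← Sheaf.H.map_comp_apply, hj]
  rw [hc, ← map_sub]
  exact (congrArg (hIso (j k) p) (congrFun ha k)).trans ((hIso (j k) p).apply_symm_apply _)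

/-- Isomorphic towers have the same compatible families. -/
theorem nonempty_hLim_equiv {S' : ℕᵒᵖ ⥤ Cohom.AbSheaf T} (j : ∀ k, S'.obj (op k) ≅ S.obj (op k))
    (hj : ∀ k, (j (k + 1)).hom ≫ S.map (homOfLE (Nat.le_succ k)).op = S'.map (homOfLE (Nat.le_succ k)).op ≫ (j k).hom)
    (p : ℕ) : Nonempty (hLim S' p ≃+ hLim S p) :=
  exists_limit_equiv (hT S' p) (hT S p) (fun k => hIso (j k) p) (fun k x => by
    show Sheaf.H.map _ p (Sheaf.H.map _ p x) = Sheaf.H.map _ p (Sheaf.H.map _ p x)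
    rw [← Sheaf.H.map_comp_apply, ← Sheaf.H.map_comp_apply, hj]) (hLim S' p) (hLim S p) (fun _ => Iff.rfl)
    fun _ => Iff.rfl

end Abstract

section Ideal

variable {A : Type u} [CommRing A] [IsNoetherianRing A] (I : Ideal A) {X : Scheme.{u}}
  [X.Over (Spec (CommRingCat.of A))] [IsProper (X ↘ Spec (CommRingCat.of A))] (F : X.Modules)

/-- Cohomology of the limit of a system of quotients. -/
theorem nonempty_H_limit_equiv (hF : Coh.IsCoh F) (G : ℕᵒᵖ ⥤ X.Modules)
    (hqc : ∀ k, (G.obj (op k)).IsQuasicoherent) (hs : SurjOnAffines G)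
    (j : ∀ k, Formal.modPow I (k + 1) F ≅ G.obj (op k))
    (hj : ∀ k, (j (k + 1)).hom ≫ G.map (homOfLE (Nat.le_succ k)).op = Formal.modPowTrans I (k + 1) F ≫ (j k).hom)
    (n : ℕ) :
    Nonempty (Coh.HH X (limit G) n ≃+ Formal.HHlim I F n) := by
  let Q : ℕᵒᵖ ⥤ Cohom.AbSheaf X.toTopCat :=
    abSys (Functor.ofOpSequence (X := fun k => Formal.modPow I (k + 1) F) fun k => Formal.modPowTrans I (k + 1) F)
  let J : ∀ k, Q.obj (op k) ≅ (abSys G).obj (op k) := fun k => (SheafOfModules.toSheaf X.ringCatSheaf).mapIso (j k)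
  have hQ : ∀ k, Q.map (homOfLE (Nat.le_succ k)).op =
      (SheafOfModules.toSheaf X.ringCatSheaf).map (Formal.modPowTrans I (k + 1) F) := fun k =>
    congrArg (SheafOfModules.toSheaf X.ringCatSheaf).map
      (Functor.ofOpSequence_map_homOfLE_succ (X := fun k => Formal.modPow I (k + 1) F)
        (fun k => Formal.modPowTrans I (k + 1) F) k)
  have hJ : ∀ k, (J (k + 1)).hom ≫ (abSys G).map (homOfLE (Nat.le_succ k)).op =
      Q.map (homOfLE (Nat.le_succ k)).op ≫ (J k).hom := fun k => by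
    rw [hQ]
    exact ((SheafOfModules.toSheaf X.ringCatSheaf).map_comp _ _).symm.trans
      ((congrArg (SheafOfModules.toSheaf X.ringCatSheaf).map (hj k)).trans ((SheafOfModules.toSheaf X.ringCatSheaf).map_comp _ _))
  have hTQ : ∀ p k x, hT Q p k x = Formal.HHmodPowTrans I F p k x := fun p k x =>
    congrArg (fun t => Sheaf.H.map t p x) (hQ k)
  have hml : ∀ p, Function.Surjective (Formal2.towerDiff (fun k => Sheaf.H ((abSys G).obj (op k)) p) (hT (abSys G) p)) :=
    fun p => towerDiff_surjective_of_iso (abSys G) J hJ p fun y => by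
      obtain ⟨a, ha⟩ := towerDiff_surjective I F hF p y
      exact ⟨a, funext fun k => (congrArg (fun z => a k - z) (hTQ p k (a (k + 1)))).trans (congrFun ha k)⟩
  have hπ : ∀ k, limπ G (k + 1) ≫ (abSys G).map (homOfLE (Nat.le_succ k)).op = limπ G k := fun k =>
    ((SheafOfModules.toSheaf X.ringCatSheaf).map_comp _ _).symm.trans
      (congrArg (SheafOfModules.toSheaf X.ringCatSheaf).map (limit.w G (homOfLE (Nat.le_succ k)).op))
  have hb : Function.Bijective (toHLim (abSys G) (limπ G) hπ n) := by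
    cases n with
    | zero => exact toHLim_bijective_zero (abSys G) (limπ G) hπ (limit_app_ext (G := G) ⊤) (limit_app_lift (G := G) ⊤)
    | succ p =>
      exact toHLim_bijective_succ (abSys G) (limπ G) hπ p
        (tower G hqc hs (Cohom.freeFun.obj (⊤ : Opens X.toTopCat)) (p + 1) p rfl) (hml p)
  obtain ⟨L⟩ := nonempty_hLim_equiv (abSys G) J hJ n
  let E : ∀ k, Sheaf.H (Q.obj (op k)) n ≃+ Formal.HHmodPow I F n k := fun _ => AddEquiv.refl _
  obtain ⟨L'⟩ := exists_limit_equiv (G := fun k => Sheaf.H (Q.obj (op k)) n) (hT Q n) (Formal.HHmodPowTrans I F n) E (hTQ n)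
    (hLim Q n) (Formal.HHlim I F n) (fun _ => Iff.rfl) (fun _ => Iff.rfl)
  exact ⟨(AddEquiv.ofBijective _ hb).trans (L.symm.trans L')⟩

end Ideal

end GrothLib.FCoh7
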