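import Groth.Agent.Lib.FCoh7.AdicML
import Groth.Agent.Lib.FMod7.Pulls
import Groth.Agent.Lib.FMod7.PullIso
import Groth.Agent.Lib.ARSys.FamilyCriterion
import Groth.Prelude.Def_FSch4

/-!
# Mittag-Leffler on a formal scheme proper over a formal spectrum
-/

set_option autoImplicit false
set_option linter.style.haveILetI false
set_option linter.unusedSectionVars false
universe u

open CategoryTheory CategoryTheory.Limits AlgebraicGeometry Opposite TopologicalSpace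

noncomputable section

namespace GrothLib.FCoh7

open GrothLib.UnifVanish7

/-- The isomorphism on the common space is the restriction between equal opens. -/
theorem spacePushIso_app {T : TopCat.{u}} {Z X : Scheme.{u}} (e : Z ⟶ X) (gX : X.toTopCat ⟶ T) (gZ : Z.toTopCat ⟶ T)
    (h : e.base ≫ gX = gZ) (M : Z.Modules) (U : Opens T)
    (le : (Opens.map gZ).obj U ≤ e ⁻¹ᵁ ((Opens.map gX).obj U)) (x : Γ(M, e ⁻¹ᵁ ((Opens.map gX).obj U))) :
    ((spacePushIso e gX gZ h).hom.app M).hom.app (op U) x = M.presheaf.map (homOfLE le).op x := by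
  subst h
  exact (ConcreteCategory.congr_hom (M.presheaf.map_id _) x).symm

section Seq

variable {T : TopCat.{u}} {S : ℕ → Cohom.AbSheaf T} (t : ∀ k, S (k + 1) ⟶ S k) (q : ℕ)

/-- The system of cohomology groups. -/
abbrev hSys : ℕᵒᵖ ⥤ AddCommGrpCat.{u} :=
  Functor.ofOpSequence (X := fun k => AddCommGrpCat.of (Sheaf.H (S k) q)) fun k => AddCommGrpCat.ofHom (Sheaf.H.map (t k) q)

theorem hSys_map {k m : ℕ} (hkm : k ≤ m) (y : Sheaf.H (S m) q) :
    ((hSys t q).map (homOfLE hkm).op).hom y = Sheaf.H.map ((Functor.ofOpSequence t).map (homOfLE hkm).op) q y := by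
  induction hkm with
  | refl =>
    rw [show (homOfLE (le_refl k)).op = 𝟙 (op k) from rfl, CategoryTheory.Functor.map_id, CategoryTheory.Functor.map_id]
    exact (Sheaf.H.map_id_apply y).symm
  | @step m hkm ih =>
    have e : (homOfLE (Nat.le.step hkm : k ≤ m + 1)).op = (homOfLE (Nat.le_succ m)).op ≫ (homOfLE hkm).op := rfl
    refine (congrArg (fun φ => (AddCommGrpCat.Hom.hom φ) y)
      (((congrArg (hSys t q).map e).trans ((hSys t q).map_comp _ _)).trans
        (congrArg (· ≫ (hSys t q).map (homOfLE hkm).op) (Functor.ofOpSequence_map_homOfLE_succ _ m)))).trans ?_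
    refine (ih (Sheaf.H.map (t m) q y)).trans ((Sheaf.H.map_comp_apply _ _ y).symm.trans
      (congrArg (fun φ => Sheaf.H.map φ q y) ?_))
    exact (((congrArg (Functor.ofOpSequence t).map e).trans ((Functor.ofOpSequence t).map_comp _ _)).trans
      (congrArg (· ≫ (Functor.ofOpSequence t).map (homOfLE hkm).op) (Functor.ofOpSequence_map_homOfLE_succ _ m))).symm

/-- Stationary images give the Mittag-Leffler condition. -/
theorem isML_of_uniform (hu : ∃ s₀ : ℕ, ∀ {k m : ℕ} (hkm : k ≤ m), k + s₀ ≤ m → ∀ y : Sheaf.H (S m) q,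
      ∃ w : Sheaf.H (S (m + 1)) q, Sheaf.H.map ((Functor.ofOpSequence t).map (homOfLE (Nat.le_succ_of_le hkm)).op) q w =
        Sheaf.H.map ((Functor.ofOpSequence t).map (homOfLE hkm).op) q y) :
    ARSys.IsML (hSys t q) := by
  obtain ⟨s₀, hs₀⟩ := hu
  intro k
  refine ⟨s₀, fun s hs => GrothLib.ARSys.imageSubobject_eq_of_comp_zero _ _
    (ARSys.tr (hSys t q) (show k + s₀ ≤ k + s by omega))
    (GrothLib.ARSys.tr_tr (hSys t q) _ _) ?_⟩
  ext y
  have hy : ∀ (d m : ℕ), m = k + s₀ + d → ∀ hd : k ≤ m, ∃ w, ((hSys t q).map (homOfLE hd).op).hom w =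
      ((hSys t q).map (homOfLE (Nat.le_add_right k s₀)).op).hom y := by
    intro d
    induction d with
    | zero => rintro _ rfl _; exact ⟨y, rfl⟩
    | succ d ih =>
      rintro _ rfl hd
      obtain ⟨w, hw⟩ := ih (k + s₀ + d) rfl (by omega)
      obtain ⟨w', hw'⟩ := hs₀ (k := k) (m := k + s₀ + d) (by omega) (by omega) w
      exact ⟨w', (hSys_map t q hd w').trans (hw'.trans ((hSys_map t q _ w).symm.trans hw))⟩
  obtain ⟨w, hw⟩ := hy (s - s₀) (k + s) (by omega) (by omega)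
  refine (congrArg (AddCommGrpCat.Hom.hom (cokernel.π (ARSys.shiftMap (hSys t q) s k))) hw.symm).trans ?_
  exact ConcreteCategory.congr_hom (cokernel.condition (ARSys.shiftMap (hSys t q) s k)) w

end Seq

variable {A : Type u} [CommRing A] [IsNoetherianRing A] {J : Ideal A} {𝔛 : FSch.Sys.{u}} (h : 𝔛.IsFormal)
  (f : 𝔛 ⟶ FSch.spf A J)

theorem gInv_zero : 𝔛.gInv h 0 = 𝟙 _ :=
  (Category.comp_id _).symm.trans (𝔛.gInv_toX_base h 0)

theorem isHomeomorph_gInv (k : ℕ) : IsHomeomorph (𝔛.gInv h k) :=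
  (TopCat.homeoOfIso (asIso (𝔛.gInv h k))).isHomeomorph

theorem levelTrans_eq (𝔉 : FSch.ModF 𝔛 h) (k : ℕ) :
    FSch.levelTrans 𝔛 h 𝔉 k = (FSch.levelMor 𝔛 h (k + 1)).push.map (rho (FMod7.pullSys h 𝔉).e k) ≫
      (FSch.pushCompare 𝔛 h k).app ((FMod7.pullSys h 𝔉).F k) := by
  refine congrArg (fun z => (FSch.levelMor 𝔛 h (k + 1)).push.map z ≫ _) ?_
  refine (Equiv.symm_apply_eq _).2 (Eq.trans ?_ (Adjunction.homEquiv_unit _ _ _ _).symm)
  have e : rho (FMod7.pullSys h 𝔉).e k = (FMod7.pullSys h 𝔉).toPush k :=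
    (Adjunction.homEquiv_unit _ _ _ _).symm
  rw [e]
  have h2 := congrArg (· ≫ (FSch.pushCompareInv 𝔛 h k).app ((FMod7.pullSys h 𝔉).F k)) (FMod7.unit_toPush h 𝔉 k)
  simp only [Category.assoc] at h2
  rw [FSch.pushCompare_pushCompareInv] at h2
  exact h2.symm.trans (congrArg (_ ≫ ·) (Category.comp_id _))

theorem toAb_levelTrans (𝔉 : FSch.ModF 𝔛 h) (k : ℕ) :
    (SheafOfModules.toSheaf _).map (FSch.levelTrans 𝔛 h 𝔉 k) =
      levTr (𝔛.gInv h) (𝔛.ι_base_gInv h) (FMod7.pullSys h 𝔉).e k := by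
  rw [levelTrans_eq]
  refine Sheaf.hom_ext (NatTrans.ext (funext fun U => ?_))
  ext m
  exact (spacePushIso_app (𝔛.ι k) (𝔛.gInv h (k + 1)) (𝔛.gInv h k) (𝔛.ι_base_gInv h k) _ U.unop
    (𝔛.lvU_le h k U.unop) ((rho (FMod7.pullSys h 𝔉).e k).app (𝔛.lvU h (k + 1) U.unop) m)).symm

/-- The images of the levels in cohomology are stationary, with a uniform bound. -/
theorem uniform_levels (hf : FSch.IsProperHom f) (𝔉 : FSch.ModF 𝔛 h) [FSch.IsCohF 𝔛 h 𝔉] (q : ℕ) :
    ∀ (S : ℕ → Cohom.AbSheaf (𝔛.X 0).toTopCat) (t : ∀ k, S (k + 1) ⟶ S k)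
      (hS : S = fun k => ModSite.toAb ((FSch.levelMor 𝔛 h k).push.obj ((FSch.levelMor 𝔛 h k).pull.obj 𝔉))),
      HEq t (fun k => (SheafOfModules.toSheaf _).map (FSch.levelTrans 𝔛 h 𝔉 k)) →
      ∃ s₀ : ℕ, ∀ {k m : ℕ} (hkm : k ≤ m), k + s₀ ≤ m → ∀ y : Sheaf.H (S m) q,
        ∃ w : Sheaf.H (S (m + 1)) q,
          Sheaf.H.map ((Functor.ofOpSequence t).map (homOfLE (Nat.le_succ_of_le hkm)).op) q w =
            Sheaf.H.map ((Functor.ofOpSequence t).map (homOfLE hkm).op) q y := by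
  intro S t hS ht
  subst hS
  obtain rfl := eq_of_heq ht
  letI : ∀ k, (𝔛.X k).Over (Spec (CommRingCat.of A)) := fun k => ⟨(f : FSch.Hom _ _).app k ≫ CohB1.specQuot J k⟩
  have had : IsAdicSys J 𝔛.ι (fun k => (f : FSch.Hom _ _).app k) := ⟨fun k => hf.1 k, fun k => rfl⟩
  have ht : (fun k => (SheafOfModules.toSheaf _).map (FSch.levelTrans 𝔛 h 𝔉 k)) =
      levTr (𝔛.gInv h) (𝔛.ι_base_gInv h) (FMod7.pullSys h 𝔉).e := funext (toAb_levelTrans h 𝔉)
  rw [ht]
  exact exists_uniform_range (𝔛.gInv h) (𝔛.ι_base_gInv h) (gInv_zero h)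
    (FMod7.pullSys h 𝔉).e had hf.2 FMod7.isCoh_pullSys (isHomeomorph_gInv h) q

/-- The cohomology of the levels satisfies the Mittag-Leffler condition. -/
theorem isML_levels (hf : FSch.IsProperHom f) (𝔉 : FSch.ModF 𝔛 h) [FSch.IsCohF 𝔛 h 𝔉] (q : ℕ) :
    ARSys.IsML (hSys (S := fun k => ModSite.toAb ((FSch.levelMor 𝔛 h k).push.obj ((FSch.levelMor 𝔛 h k).pull.obj 𝔉)))
      (fun k => (SheafOfModules.toSheaf _).map (FSch.levelTrans 𝔛 h 𝔉 k)) q) :=
  isML_of_uniform _ q (uniform_levels h f hf 𝔉 q _ _ rfl HEq.rfl)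

end GrothLib.FCoh7
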