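import Groth.Agent.Lib.FCoh7.LevelTower
import Groth.Agent.Lib.FCoh7.SpfML
import Groth.Agent.Lib.FCoh7.HLim

/-!
# Cohomology of a coherent module on a formal scheme proper over a formal spectrum is the limit of the levels
-/

set_option autoImplicit false
set_option linter.style.haveILetI false
set_option linter.unusedSectionVars false
universe u

open CategoryTheory CategoryTheory.Limits AlgebraicGeometry Opposite TopologicalSpace

noncomputable section

namespace GrothLib.FCoh7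

/-- Stationary images kill `lim¹`. -/
theorem towerDiff_surjective_of_uniform {T : TopCat.{u}} {S : ℕ → Cohom.AbSheaf T} (t : ∀ k, S (k + 1) ⟶ S k) (q : ℕ)
    (hu : ∃ s₀ : ℕ, ∀ {k m : ℕ} (hkm : k ≤ m), k + s₀ ≤ m → ∀ y : Sheaf.H (S m) q,
      ∃ w : Sheaf.H (S (m + 1)) q, Sheaf.H.map ((Functor.ofOpSequence t).map (homOfLE (Nat.le_succ_of_le hkm)).op) q w =
        Sheaf.H.map ((Functor.ofOpSequence t).map (homOfLE hkm).op) q y) :
    Function.Surjective (Formal2.towerDiff (fun k => Sheaf.H (S k) q) (fun k => Sheaf.H.map (t k) q)) := by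
  obtain ⟨s₀, hs₀⟩ := hu
  let F := Functor.ofOpSequence t
  let Tm : ∀ {m n : ℕ}, n ≤ m → Sheaf.H (S m) q →+ Sheaf.H (S n) q := fun h =>
    Sheaf.H.map (F.map (homOfLE h).op) q
  have hc : ∀ (n m : ℕ) (h : n + 1 ≤ m) (x : Sheaf.H (S m) q),
      Sheaf.H.map (t n) q (Tm h x) = Tm (show n ≤ m by omega) x := fun n m h x => by
    have e : F.map (homOfLE (show n ≤ m by omega)).op = F.map (homOfLE h).op ≫ t n := by
      rw [show (homOfLE (show n ≤ m by omega)).op = (homOfLE h).op ≫ (homOfLE (Nat.le_succ n)).op from rfl,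
        Functor.map_comp]
      exact congrArg (F.map (homOfLE h).op ≫ ·) (Functor.ofOpSequence_map_homOfLE_succ t n)
    refine (Sheaf.H.map_comp_apply _ _ x).symm.trans ?_
    exact congrArg (fun φ => Sheaf.H.map φ q x) e.symm
  have him : ∀ (a n m : ℕ) (e : n + a = m) (h : n ≤ m),
      AdicLim.towerImage (G := fun k => Sheaf.H (S k) q) (fun k => Sheaf.H.map (t k) q) a n ≤ (Tm h).range := by
    intro a
    induction a with
    | zero =>
      rintro n m rfl h x -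
      exact ⟨x, (congrArg (fun φ => Sheaf.H.map φ q x) (F.map_id (op n))).trans (Sheaf.H.map_id_apply x)⟩
    | succ a ih =>
      rintro n m e h _ ⟨w, hw, rfl⟩
      obtain ⟨z, rfl⟩ := ih (n + 1) m (by omega) (by omega) hw
      exact ⟨z, (hc n m _ z).symm⟩
  refine AdicLim.towerDiff_surjective _ (fun n => (Tm (Nat.le_add_right n s₀)).range)
    (fun n => ⟨s₀, him s₀ n (n + s₀) rfl _⟩) fun n => ?_
  rintro _ ⟨y, rfl⟩
  have key : ∀ (m : ℕ), m = n + s₀ + 1 → ∀ (h : n ≤ m),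
      ∃ w, Tm h w = Tm (Nat.le_add_right n s₀) y := by
    rintro _ rfl h
    exact hs₀ (Nat.le_add_right n s₀) le_rfl y
  obtain ⟨w, hw⟩ := key (n + 1 + s₀) (by omega) (by omega)
  exact ⟨Tm (Nat.le_add_right (n + 1) s₀) w, ⟨w, rfl⟩, (hc n _ _ w).trans hw⟩

variable {A : Type u} [CommRing A] [IsNoetherianRing A] {J : Ideal A} {𝔛 : FSch.Sys.{u}} (h : 𝔛.IsFormal)
  (f : 𝔛 ⟶ FSch.spf A J) (𝔉 : FSch.ModF 𝔛 h)

theorem lvTower_map_succ (k : ℕ) :
    (lvTower h 𝔉).map (homOfLE (Nat.le_succ k)).op = (SheafOfModules.toSheaf _).map (FSch.levelTrans 𝔛 h 𝔉 k) := by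
  refine congrArg (SheafOfModules.toSheaf _).map ?_
  rw [levelTrans_eq]
  refine (FSch.levelSysOf_map_succ 𝔛 h _ _ k).trans ?_
  rw [show UnifVanish7.rho (FMod7.pullSys h 𝔉).e k = (FMod7.pullSys h 𝔉).toPush k from
    (Adjunction.homEquiv_unit _ _ _ _).symm]

theorem bijective_toHLim (hN : 𝔛.IsLocNoethFormal) (hf : FSch.IsProperHom f) [FSch.IsCohF 𝔛 h 𝔉] (n : ℕ) :
    Function.Bijective (toHLim (lvTower h 𝔉) (lvUnit h 𝔉) (lvUnit_map h 𝔉) n) := by
  cases n with
  | zero =>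
    haveI := FMod7.isIso_toReal (F := 𝔉) hN
    let M := (FMod7.pullSys h 𝔉).F
    let t := (FMod7.pullSys h 𝔉).toPush
    have hpr : ∀ k (x : (ModSite.toAb 𝔉).obj.obj (op ⊤)), (lvUnit h 𝔉 k).hom.app (op ⊤) x =
        FMod7.sProj h ⊤ M t k ((FMod7.toReal h 𝔉).val.app (op ⊤) x) := fun k x =>
      (congrArg (fun φ : 𝔉 ⟶ (FSch.levelMor 𝔛 h k).push.obj (M k) => φ.val.app (op ⊤) x)
        (FMod7.toReal_realProj h 𝔉 k)).symm
    refine toHLim_bijective_zero _ _ _ (fun x y hxy => ?_) fun s hs => ?_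
    · have e := FMod7.section_ext h ⊤ M t _ _ fun k => (hpr k x).symm.trans ((hxy k).trans (hpr k y))
      have e' := congrArg (fun z => (inv (FMod7.toReal h 𝔉)).val.app (op ⊤) z) e
      have hid : ∀ z, (inv (FMod7.toReal h 𝔉)).val.app (op ⊤) ((FMod7.toReal h 𝔉).val.app (op ⊤) z) = z := fun z =>
        congrArg (fun φ : 𝔉 ⟶ 𝔉 => φ.val.app (op ⊤) z) (IsIso.hom_inv_id (FMod7.toReal h 𝔉))
      exact (hid x).symm.trans (e'.trans (hid y))
    · obtain ⟨z, hz⟩ := FMod7.exists_section h ⊤ M t s fun k =>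
        (FMod7.levelSysOf_map_app h ⊤ M t k (s (k + 1))).symm.trans (hs k)
      refine ⟨(inv (FMod7.toReal h 𝔉)).val.app (op ⊤) z, fun k => (hpr k _).trans (Eq.trans ?_ (hz k))⟩
      exact congrArg (FMod7.sProj h ⊤ M t k)
        (congrArg (fun φ : (FMod7.pullSys h 𝔉).realMod h ⟶ (FMod7.pullSys h 𝔉).realMod h => φ.val.app (op ⊤) z)
          (IsIso.inv_hom_id (FMod7.toReal h 𝔉)))
  | succ q =>
    refine toHLim_bijective_succ _ _ _ q (lv_tower h 𝔉 hN _ (q + 1) q rfl) ?_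
    have e : (fun k => hT (lvTower h 𝔉) q k) =
        fun k => Sheaf.H.map ((SheafOfModules.toSheaf _).map (FSch.levelTrans 𝔛 h 𝔉 k)) q :=
      funext fun k => congrArg (fun φ => Sheaf.H.map φ q) (lvTower_map_succ h 𝔉 k)
    rw [show hT (lvTower h 𝔉) q = _ from e]
    exact towerDiff_surjective_of_uniform
      (S := fun k => ModSite.toAb ((FSch.levelMor 𝔛 h k).push.obj ((FSch.levelMor 𝔛 h k).pull.obj 𝔉))) _ q
      (uniform_levels h f hf 𝔉 q _ _ rfl HEq.rfl)

end GrothLib.FCoh7
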