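import Groth.Agent.Lib.FCoh7.RestrTower
import Groth.Agent.Lib.FCoh7.Chart
import Groth.Agent.Lib.FCoh7.SpfBij
import Groth.Agent.Lib.FormalExist7.OpenPush

/-!
# Stationary images of the cohomology of the levels over an affine open of the base
-/

set_option autoImplicit false
set_option linter.style.haveILetI false
set_option linter.unusedSectionVars false
set_option backward.isDefEq.respectTransparency false
universe u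

open CategoryTheory CategoryTheory.Limits AlgebraicGeometry Opposite TopologicalSpace Abelian

noncomputable section

namespace GrothLib.FCoh7

/-- Transport of stationary images along a comparison of cohomology groups. -/
theorem uniform_transport {T T' : TopCat.{u}} (G : Cohom.AbSheaf T ⥤ Cohom.AbSheaf T') {A : Cohom.AbSheaf T}
    {B : Cohom.AbSheaf T'} (q : ℕ) (c : DimShift.Comparison.{u} G A B (fun _ => True) q)
    (eB : Cohom.freeFun.obj (⊤ : Opens T') ≅ B)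
    (S : ℕᵒᵖ ⥤ Cohom.AbSheaf T) (S' : ℕᵒᵖ ⥤ Cohom.AbSheaf T') (α : ∀ k, G.obj (S.obj (op k)) ≅ S'.obj (op k))
    (hα : ∀ k, G.map (S.map (homOfLE (Nat.le_succ k)).op) ≫ (α k).hom =
      (α (k + 1)).hom ≫ S'.map (homOfLE (Nat.le_succ k)).op)
    (hu : ∃ s₀ : ℕ, ∀ {k m : ℕ} (hkm : k ≤ m), k + s₀ ≤ m → ∀ y : Sheaf.H (S'.obj (op m)) q,
      ∃ w : Sheaf.H (S'.obj (op (m + 1))) q, Sheaf.H.map (S'.map (homOfLE (Nat.le_succ_of_le hkm)).op) q w =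
        Sheaf.H.map (S'.map (homOfLE hkm).op) q y) :
    ∃ s₀ : ℕ, ∀ {k m : ℕ} (hkm : k ≤ m), k + s₀ ≤ m → ∀ y : Ext.{u} A (S.obj (op m)) q,
      ∃ w : Ext.{u} A (S.obj (op (m + 1))) q,
        w.comp (Ext.mk₀ (S.map (homOfLE (Nat.le_succ_of_le hkm)).op)) (add_zero q) =
          y.comp (Ext.mk₀ (S.map (homOfLE hkm).op)) (add_zero q) := by
  let E : ∀ k, Ext.{u} A (S.obj (op k)) q ≃+ Sheaf.H (S'.obj (op k)) q := fun k =>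
    (c.equiv _ trivial).trans ((Cohom.extPrecompIso eB _ q).trans ((Cohom.HEquivTop _ q).symm.trans (hIso (α k) q)))
  let τ : S ⋙ G ⟶ S' := NatTrans.ofOpSequence (fun k => (α k).hom) hα
  have hE : ∀ {k m : ℕ} (h : k ≤ m) (y : Ext.{u} A (S.obj (op m)) q),
      E k (y.comp (Ext.mk₀ (S.map (homOfLE h).op)) (add_zero q)) = Sheaf.H.map (S'.map (homOfLE h).op) q (E m y) := by
    intro k m h y
    have h1 : ∀ (F F' : Cohom.AbSheaf T') (φ : F ⟶ F') (z : Ext.{u} B F q),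
        (Cohom.HEquivTop F' q).symm (Cohom.extPrecompIso eB F' q (z.comp (Ext.mk₀ φ) (add_zero q))) =
          Sheaf.H.map φ q ((Cohom.HEquivTop F q).symm (Cohom.extPrecompIso eB F q z)) := fun F F' φ z =>
      (congrArg (fun w => (Ext.mk₀ _).comp w (zero_add q))
        (Ext.comp_assoc_of_third_deg_zero (Ext.mk₀ eB.hom) z (Ext.mk₀ φ) (zero_add q)).symm).trans
        (Ext.comp_assoc_of_third_deg_zero _ _ _ (zero_add q)).symm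
    show Sheaf.H.map (α k).hom q ((Cohom.HEquivTop _ q).symm (Cohom.extPrecompIso eB _ q
      (c.equiv _ trivial (y.comp (Ext.mk₀ (S.map (homOfLE h).op)) (add_zero q))))) = _
    rw [c.naturality _ trivial trivial, h1, ← Sheaf.H.map_comp_apply]
    refine Eq.trans ?_ (Sheaf.H.map_comp_apply (α m).hom (S'.map (homOfLE h).op) _)
    exact congrArg (fun φ => Sheaf.H.map φ q _) (τ.naturality (homOfLE h).op)
  obtain ⟨s₀, hs⟩ := hu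
  refine ⟨s₀, fun {k m} hkm hs' y => ?_⟩
  obtain ⟨w, hw⟩ := hs hkm hs' (E m y)
  refine ⟨(E (m + 1)).symm w, (E k).injective ?_⟩
  rw [hE, hE, AddEquiv.apply_symm_apply]
  exact hw

variable {𝔛 𝔜 : FSch.Sys.{u}} (h𝔛 : 𝔛.IsFormal) (hN : 𝔜.IsLocNoethFormal)
  (f : 𝔛 ⟶ 𝔜) (hf : FSch.IsProperHom f) (𝔉 : FSch.ModF 𝔛 h𝔛) [FSch.IsCohF 𝔛 h𝔛 𝔉]

include hN hf in
/-- Over an affine open of the base, the images of the levels in cohomology are stationary with a uniform bound. -/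
theorem uniform_levels_open {W : (𝔜.X 0).Opens} (hW : IsAffineOpen W) (q : ℕ) :
    ∃ s₀ : ℕ, ∀ {k m : ℕ} (hkm : k ≤ m), k + s₀ ≤ m →
      ∀ y : Ext.{u} (Cohom.freeFun.obj ((f : FSch.Hom 𝔛 𝔜).app 0 ⁻¹ᵁ W)) ((lvTower h𝔛 𝔉).obj (op m)) q,
      ∃ w : Ext.{u} (Cohom.freeFun.obj ((f : FSch.Hom 𝔛 𝔜).app 0 ⁻¹ᵁ W)) ((lvTower h𝔛 𝔉).obj (op (m + 1))) q,
        w.comp (Ext.mk₀ ((lvTower h𝔛 𝔉).map (homOfLE (Nat.le_succ_of_le hkm)).op)) (add_zero q) =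
          y.comp (Ext.mk₀ ((lvTower h𝔛 𝔉).map (homOfLE hkm).op)) (add_zero q) := by
  let V := (f : FSch.Hom 𝔛 𝔜).app 0 ⁻¹ᵁ W
  obtain ⟨inst, p, had, hp, -⟩ := exists_adicSys (h𝔜 := hN.1) hN hW h𝔛 f hf
  haveI := FMod7.isNoetherianRing_Sec (h := hN.1) hN hW
  let 𝔛' := 𝔛.restrictOpen h𝔛 V
  have h' : 𝔛'.IsFormal := FSchSys.isFormal_restrictOpen h𝔛 V
  let ι := 𝔛.restrictOpenι h𝔛 V
  let ψ := (FMod7.pullSys h𝔛 𝔉).e
  let F' : ∀ k, (𝔛'.X k).Modules := fun k =>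
    (Scheme.Modules.pullback (𝔛.lvU h𝔛 k V).ι).obj ((FMod7.pullSys h𝔛 𝔉).F k)
  have hsq : ∀ k, 𝔛'.ι k ≫ (𝔛.lvU h𝔛 (k + 1) V).ι = (𝔛.lvU h𝔛 k V).ι ≫ 𝔛.ι k :=
    fun k => Scheme.Hom.resLE_comp_ι _ _
  let ψ' : ∀ k, (Scheme.Modules.pullback (𝔛'.ι k)).obj (F' (k + 1)) ≅ F' k := fun k => sqIso (hsq k) (ψ k)
  have hj : ∀ k, (𝔛.lvU h𝔛 k V).ι.base ≫ 𝔛.gInv h𝔛 k = 𝔛'.gInv h' k ≫ (𝔛.lvU h𝔛 0 V).ι.base :=
    fun k => FSch.Hom.base_gInv ι h' h𝔛 k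
  have hu := exists_uniform_range (𝔛'.gInv h') (𝔛'.ι_base_gInv h') (gInv_zero h') ψ' had hp
    (fun k => FormalExist7.isCoh_pullbackMod _ (FMod7.isCoh_pullSys k)) (isHomeomorph_gInv h') q
  have hι : Topology.IsOpenEmbedding (𝔛.lvU h𝔛 0 V).ι.base := (𝔛.lvU h𝔛 0 V).ι.isOpenEmbedding
  obtain ⟨c⟩ := Cohom.nonempty_comparison_restrFun hι (⊤ : Opens (𝔛'.X 0).toTopCat) q
  have e : hι.isOpenMap.functor.obj (⊤ : Opens (𝔛'.X 0).toTopCat) = V := by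
    have : (Opens.map (𝔛.gInv h𝔛 0)).obj V = V := by rw [gInv_zero]; rfl
    refine Eq.trans ?_ this
    ext z
    exact ⟨fun ⟨t, _, ht⟩ => ht ▸ t.2, fun hz => ⟨⟨z, hz⟩, trivial, rfl⟩⟩
  rw [show (f : FSch.Hom 𝔛 𝔜).app 0 ⁻¹ᵁ W = hι.isOpenMap.functor.obj (⊤ : Opens (𝔛'.X 0).toTopCat) from e.symm]
  let α : ∀ k, (Cohom.restrFun hι).obj ((lvTower h𝔛 𝔉).obj (op k)) ≅ levSh (𝔛'.gInv h') (F := F') k := fun k =>
    haveI := isIso_restrLev (𝔛.lvU h𝔛 0 V).ι.base hι (𝔛.lvU h𝔛 k V).ι (𝔛.gInv h𝔛 k) (𝔛'.gInv h' k)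
      (isHomeomorph_gInv h𝔛 k).injective (isHomeomorph_gInv h' k).surjective (hj k) ((FMod7.pullSys h𝔛 𝔉).F k)
    asIso (restrLev (𝔛.lvU h𝔛 0 V).ι.base hι (𝔛.lvU h𝔛 k V).ι (𝔛.gInv h𝔛 k) (𝔛'.gInv h' k) (hj k)
      ((FMod7.pullSys h𝔛 𝔉).F k))
  refine uniform_transport (Cohom.restrFun hι) q c (Iso.refl _) (lvTower h𝔛 𝔉)
    (towerSh (𝔛'.gInv h') (𝔛'.ι_base_gInv h') ψ') α (fun k => ?_) hu
  have e1 : (lvTower h𝔛 𝔉).map (homOfLE (Nat.le_succ k)).op = levTr (𝔛.gInv h𝔛) (𝔛.ι_base_gInv h𝔛) ψ k :=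
    (lvTower_map_succ h𝔛 𝔉 k).trans (toAb_levelTrans h𝔛 𝔉 k)
  have e2 : (towerSh (𝔛'.gInv h') (𝔛'.ι_base_gInv h') ψ').map (homOfLE (Nat.le_succ k)).op =
      levTr (𝔛'.gInv h') (𝔛'.ι_base_gInv h') ψ' k := Functor.ofOpSequence_map_homOfLE_succ _ k
  rw [e1, e2]
  exact restrLev_levTr (𝔛.lvU h𝔛 0 V).ι.base hι (fun k => (𝔛.lvU h𝔛 k V).ι) hsq (𝔛.gInv h𝔛)
    (𝔛.ι_base_gInv h𝔛) (𝔛'.gInv h') (𝔛'.ι_base_gInv h') hj ψ k

end GrothLib.FCoh7
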