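import Groth.Agent.Lib.FCoh7.ModRpush
import Groth.Agent.Lib.FCoh7.LevPresheaf
import Groth.Agent.Lib.FCoh7.UniformOpen

/-!
# Higher direct images of a coherent module on a proper formal scheme: the limit of the levels
-/

set_option autoImplicit false
set_option linter.style.haveILetI false
set_option linter.unusedSectionVars false
set_option backward.isDefEq.respectTransparency false
universe u

open CategoryTheory CategoryTheory.Limits AlgebraicGeometry Opposite TopologicalSpace Abelian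

noncomputable section

namespace GrothLib.FCoh7

open GrothLib.FormalLim7 GrothLib.SheafCoh

/-- Stationary images of a tower of groups kill `lim¹`. -/
theorem towerDiff_surjective_of_stationary {G : ℕ → Type u} [∀ n, AddCommGroup (G n)]
    (t : ∀ n, G (n + 1) →+ G n) (T : ∀ {n m : ℕ}, n ≤ m → G m →+ G n) (hrefl : ∀ n x, T (le_refl n) x = x)
    (hT : ∀ (n m : ℕ) (h : n + 1 ≤ m) (x : G m), t n (T h x) = T (show n ≤ m by omega) x)
    (hu : ∃ s₀ : ℕ, ∀ {k m : ℕ} (hkm : k ≤ m), k + s₀ ≤ m → ∀ y : G m,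
      ∃ w : G (m + 1), T (Nat.le_succ_of_le hkm) w = T hkm y) :
    Function.Surjective (Formal2.towerDiff G t) := by
  obtain ⟨s₀, hs₀⟩ := hu
  have him : ∀ (a n m : ℕ) (e : n + a = m) (h : n ≤ m),
      AdicLim.towerImage t a n ≤ (T h).range := by
    intro a
    induction a with
    | zero =>
      rintro n m rfl h x -
      exact ⟨x, hrefl n x⟩
    | succ a ih =>
      rintro n m e h _ ⟨w, hw, rfl⟩
      obtain ⟨z, rfl⟩ := ih (n + 1) m (by omega) (by omega) hw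
      exact ⟨z, (hT n m _ z).symm⟩
  refine AdicLim.towerDiff_surjective _ (fun n => (T (Nat.le_add_right n s₀)).range)
    (fun n => ⟨s₀, him s₀ n (n + s₀) rfl _⟩) fun n => ?_
  rintro _ ⟨y, rfl⟩
  have key : ∀ (m : ℕ), m = n + s₀ + 1 → ∀ (h : n ≤ m), ∃ w, T h w = T (Nat.le_add_right n s₀) y := by
    rintro _ rfl h
    exact hs₀ (Nat.le_add_right n s₀) le_rfl y
  obtain ⟨w, hw⟩ := key (n + 1 + s₀) (by omega) (by omega)
  exact ⟨T (Nat.le_add_right (n + 1) s₀) w, ⟨w, rfl⟩, (hT n _ _ w).trans hw⟩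

/-- Classes of a limit are the compatible classes of the tower when the images are stationary. -/
theorem ext_lim_of_stationary {T : TopCat.{u}} (S : ℕᵒᵖ ⥤ CohTop.Ab T) {L : CohTop.Ab T} (c : L ≅ limit S)
    (π : ∀ k : ℕ, L ⟶ S.obj (op k)) (hc : ∀ k, c.hom ≫ limit.π S (op k) = π k) (P : CohTop.Ab T)
    (hseq : ∀ j : ℕ, (∀ ξ : ∀ n : ℕ, extLev.{u} S P (j + 1) n, (∀ n, extMap S P (j + 1) n (ξ (n + 1)) = ξ n) →
        ∃ η : Ext.{u} P L (j + 1), ∀ n, η.comp (Ext.mk₀ (π n)) (add_zero (j + 1)) = ξ n) ∧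
      ∃ α : Formal2.limOne (extLev.{u} S P j) (extMap S P j) →+ Ext.{u} P L (j + 1),
        Function.Injective α ∧ ∀ η, η ∈ α.range ↔ ∀ n, η.comp (Ext.mk₀ (π n)) (add_zero (j + 1)) = 0)
    (hu : ∀ j : ℕ, ∃ s₀ : ℕ, ∀ {k m : ℕ} (hkm : k ≤ m), k + s₀ ≤ m →
      ∀ y : Ext.{u} P (S.obj (op m)) j, ∃ w : Ext.{u} P (S.obj (op (m + 1))) j,
        w.comp (Ext.mk₀ (S.map (homOfLE (Nat.le_succ_of_le hkm)).op)) (add_zero j) =
          y.comp (Ext.mk₀ (S.map (homOfLE hkm).op)) (add_zero j)) (q : ℕ) :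
    (∀ x : Ext.{u} P L q, (∀ k, x.comp (Ext.mk₀ (π k)) (add_zero q) = 0) → x = 0) ∧
    ∀ ξ : ∀ k, Ext.{u} P (S.obj (op k)) q,
      (∀ k, (ξ (k + 1)).comp (Ext.mk₀ (S.map (homOfLE (Nat.le_succ k)).op)) (add_zero q) = ξ k) →
      ∃ x : Ext.{u} P L q, ∀ k, x.comp (Ext.mk₀ (π k)) (add_zero q) = ξ k := by
  cases q with
  | zero =>
    refine ⟨fun x hx => ?_, fun ξ hξ => ?_⟩
    · obtain ⟨a, rfl⟩ := (Ext.mk₀_bijective _ _).2 x
      have ha : ∀ k, a ≫ π k = 0 := fun k => by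
        have h0 := hx k
        rw [Ext.mk₀_comp_mk₀] at h0
        exact (Ext.mk₀_bijective _ _).1 (h0.trans (Ext.mk₀_zero _ _).symm)
      have h1 : a ≫ c.hom = 0 := limit.hom_ext fun k => by
        rw [zero_comp, Category.assoc, hc]
        exact ha k.unop
      have ha0 : a = 0 := by rw [← cancel_mono c.hom, h1, zero_comp]
      rw [ha0, Ext.mk₀_zero]
    · choose a ha using fun k => (Ext.mk₀_bijective P (S.obj (op k))).2 (ξ k)
      have hw : ∀ k, a (k + 1) ≫ S.map (homOfLE (Nat.le_succ k)).op = a k := fun k => by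
        have h0 := hξ k
        rw [← ha, ← ha, Ext.mk₀_comp_mk₀] at h0
        exact (Ext.mk₀_bijective _ _).1 h0
      let τ : (Functor.const ℕᵒᵖ).obj P ⟶ S :=
        NatTrans.ofOpSequence a fun k => (Category.id_comp _).trans (hw k).symm
      refine ⟨Ext.mk₀ (limit.lift _ (Cone.mk P τ) ≫ c.inv), fun k => ?_⟩
      rw [Ext.mk₀_comp_mk₀, Category.assoc, ← hc k, Iso.inv_hom_id_assoc, limit.lift_π, ← ha k]
      rfl
  | succ j =>
    obtain ⟨hsur, α, -, hr⟩ := hseq j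
    refine ⟨fun x hx => ?_, fun ξ hξ => hsur ξ hξ⟩
    obtain ⟨y, rfl⟩ := (hr x).2 hx
    obtain ⟨y, rfl⟩ := QuotientAddGroup.mk_surjective y
    have hsd : Function.Surjective (Formal2.towerDiff (extLev.{u} S P j) (extMap S P j)) := by
      refine towerDiff_surjective_of_stationary _
        (fun {n m} h => (Ext.mk₀ (S.map (homOfLE h).op)).postcomp P (add_zero j)) (fun n x => ?_)
        (fun n m h x => ?_) (hu j)
      · show Ext.comp x (Ext.mk₀ _) (add_zero j) = x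
        rw [show (homOfLE (le_refl n)).op = 𝟙 (op n) from rfl, CategoryTheory.Functor.map_id, Ext.comp_mk₀_id]
      · show (Ext.comp x (Ext.mk₀ _) (add_zero j)).comp (Ext.mk₀ _) (add_zero j) = Ext.comp x (Ext.mk₀ _) (add_zero j)
        rw [Ext.comp_assoc_of_second_deg_zero, Ext.mk₀_comp_mk₀, ← Functor.map_comp]
        rfl
    exact (congrArg α ((QuotientAddGroup.eq_zero_iff y).2 (hsd y))).trans (map_zero α)

variable {𝔛 : FSch.Sys.{u}} (h𝔛 : 𝔛.IsFormal) (𝔉 : FSch.ModF 𝔛 h𝔛) [FSch.IsCohF 𝔛 h𝔛 𝔉]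

/-- Classes of a coherent module are the compatible classes of the levels when the images are stationary. -/
theorem ext_lim_bijective (hN : 𝔛.IsLocNoethFormal) (P : CohTop.Ab (𝔛.X 0).toTopCat)
    (hu : ∀ j : ℕ, ∃ s₀ : ℕ, ∀ {k m : ℕ} (hkm : k ≤ m), k + s₀ ≤ m →
      ∀ y : Ext.{u} P ((lvTower h𝔛 𝔉).obj (op m)) j, ∃ w : Ext.{u} P ((lvTower h𝔛 𝔉).obj (op (m + 1))) j,
        w.comp (Ext.mk₀ ((lvTower h𝔛 𝔉).map (homOfLE (Nat.le_succ_of_le hkm)).op)) (add_zero j) =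
          y.comp (Ext.mk₀ ((lvTower h𝔛 𝔉).map (homOfLE hkm).op)) (add_zero j)) (q : ℕ) :
    (∀ x : Ext.{u} P (ModSite.toAb 𝔉) q,
      (∀ k, x.comp (Ext.mk₀ (lvUnit h𝔛 𝔉 k)) (add_zero q) = 0) → x = 0) ∧
    ∀ ξ : ∀ k, Ext.{u} P ((lvTower h𝔛 𝔉).obj (op k)) q,
      (∀ k, (ξ (k + 1)).comp (Ext.mk₀ ((lvTower h𝔛 𝔉).map (homOfLE (Nat.le_succ k)).op)) (add_zero q) = ξ k) →
      ∃ x : Ext.{u} P (ModSite.toAb 𝔉) q, ∀ k, x.comp (Ext.mk₀ (lvUnit h𝔛 𝔉 k)) (add_zero q) = ξ k := by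
  obtain ⟨c, hc⟩ := exists_limIso h𝔛 𝔉 hN
  exact ext_lim_of_stationary (lvTower h𝔛 𝔉) c (lvUnit h𝔛 𝔉) hc P (fun j => lv_tower h𝔛 𝔉 hN P (j + 1) j rfl) hu q

variable {𝔜 : FSch.Sys.{u}} (h𝔜 : 𝔜.IsFormal) (f : 𝔛 ⟶ 𝔜)

/-- The cohomology presheaf of preimages. -/
abbrev cohPre (M : FSch.ModF 𝔛 h𝔛) (q : ℕ) : (Opens (𝔜.X 0).toTopCat)ᵒᵖ ⥤ AddCommGrpCat.{u} :=
  (Opens.map ((f : FSch.Hom 𝔛 𝔜).app 0).base).op ⋙ Sheaf.cohomologyPresheaf.{u} (ModSite.toAb M) q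

/-- The levels. -/
abbrev levObj (k : ℕ) : FSch.ModF 𝔛 h𝔛 :=
  (FSch.levelMor 𝔛 h𝔛 k).push.obj ((FSch.levelMor 𝔛 h𝔛 k).pull.obj 𝔉)

include h𝔛 h𝔜 in
theorem quasiCompact_level (hf : FSch.IsProperHom f) (k : ℕ) : QuasiCompact ((f : FSch.Hom 𝔛 𝔜).app k) := by
  haveI := hf.2
  refine ⟨fun U hU hc => ?_⟩
  let gX := TopCat.homeoOfIso (asIso (𝔛.gInv h𝔛 k))
  let gY := TopCat.homeoOfIso (asIso (𝔜.gInv h𝔜 k))
  have hp : ∀ z, gY ((f : FSch.Hom 𝔛 𝔜).app k z) = (f : FSch.Hom 𝔛 𝔜).app 0 (gX z) := fun z =>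
    ConcreteCategory.congr_hom (FSch.Hom.base_gInv f h𝔛 h𝔜 k) z
  have e : ((f : FSch.Hom 𝔛 𝔜).app k) ⁻¹' U = gX ⁻¹' (((f : FSch.Hom 𝔛 𝔜).app 0) ⁻¹' (gY '' U)) := by
    ext z
    simp only [Set.mem_preimage, ← hp, gY.injective.mem_set_image]
  rw [e]
  exact gX.isCompact_preimage.2 (QuasiCompact.isCompact_preimage _ (gY.isOpenMap _ hU) (hc.image gY.continuous))

include h𝔛 h𝔜 in
/-- On affine opens, sheafifying the cohomology presheaf of a level changes nothing. -/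
theorem bijective_toSheafify_cohPre (hN : 𝔛.IsLocNoethFormal) (hf : FSch.IsProperHom f) (q k : ℕ)
    {W : (𝔜.X 0).Opens} (hW : IsAffineOpen W) :
    Function.Bijective ((toSheafify (Opens.grothendieckTopology (𝔜.X 0).toTopCat)
      (cohPre h𝔛 f (levObj h𝔛 𝔉 k) q)).app (op W)) := by
  haveI := quasiCompact_level h𝔛 h𝔜 f hf k
  haveI := hN.2.2 k
  haveI : ((FSch.levelMor 𝔛 h𝔛 k).pull.obj 𝔉).IsQuasicoherent := (FMod7.isCoh_pullSys (F := 𝔉) k).1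
  exact bijective_toSheafify_level ((f : FSch.Hom 𝔛 𝔜).app k) (𝔛.gInv h𝔛 k) (𝔜.gInv h𝔜 k)
    ((f : FSch.Hom 𝔛 𝔜).app 0).base (isHomeomorph_gInv h𝔛 k) (isHomeomorph_gInv h𝔜 k)
    (FSch.Hom.base_gInv f h𝔛 h𝔜 k) _ q W (FFormal7.isAffineOpen_lvU 𝔜 h𝔜 hW k)

end GrothLib.FCoh7
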