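import Groth.Agent.Lib.FCoh7.AdicTower

/-!
# The uniform Mittag-Leffler property of the cohomology of an adic system of coherent modules
-/

set_option autoImplicit false
set_option linter.style.haveILetI false
set_option linter.unusedSectionVars false
set_option maxHeartbeats 800000
universe u

open CategoryTheory CategoryTheory.Limits AlgebraicGeometry Opposite TopologicalSpace

noncomputable section

namespace GrothLib.FCoh7

open GrothLib.UnifVanish7 GrothLib.Cohom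

variable {A : Type u} [CommRing A] [IsNoetherianRing A] {J : Ideal A} {Xs : ℕ → Scheme.{u}}
  [hX : ∀ k, (Xs k).Over (Spec (CommRingCat.of A))]
  {i : (k : ℕ) → (Xs k ⟶ Xs (k + 1))}
  {p : (k : ℕ) → (Xs k ⟶ Spec (CommRingCat.of (A ⧸ J ^ (k + 1))))}
  (g : ∀ k, (Xs k).toTopCat ⟶ (Xs 0).toTopCat) (hg : ∀ k, (i k).base ≫ g (k + 1) = g k) (hg0 : g 0 = 𝟙 _)
  {F : (k : ℕ) → (Xs k).Modules} (ψ : ∀ k, (Scheme.Modules.pullback (i k)).obj (F (k + 1)) ≅ F k)
  (h : IsAdicSys J i p) (hp : IsProper (p 0)) (hF : ∀ k, Coh.IsCoh (F k))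

/-- The transition maps in cohomology. -/
abbrev towerT (q : ℕ) {m n : ℕ} (hmn : n ≤ m) :
    Sheaf.H (levSh g (F := F) m) q →+ Sheaf.H (levSh g (F := F) n) q :=
  Sheaf.H.map ((towerSh g hg ψ).map (homOfLE hmn).op) q

theorem towerT_succ (q k : ℕ) (y : Sheaf.H (levSh g (F := F) (k + 1)) q) :
    towerT g hg ψ q (Nat.le_succ k) y = Sheaf.H.map (levTr g hg ψ k) q y :=
  congrArg (fun φ => Sheaf.H.map φ q y) (Functor.ofOpSequence_map_homOfLE_succ (levTr g hg ψ) k)

theorem towerT_refl (q n : ℕ) (y : Sheaf.H (levSh g (F := F) n) q) : towerT g hg ψ q (le_refl n) y = y :=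
  (congrArg (fun φ => Sheaf.H.map φ q y) ((towerSh g hg ψ).map_id (op n))).trans (Sheaf.H.map_id_apply y)

theorem towerT_comp (q : ℕ) {l m n : ℕ} (h₁ : m ≤ n) (h₂ : l ≤ m) (y : Sheaf.H (levSh g (F := F) n) q) :
    towerT g hg ψ q h₂ (towerT g hg ψ q h₁ y) = towerT g hg ψ q (h₂.trans h₁) y :=
  (Sheaf.H.map_comp_apply _ _ y).symm.trans
    (congrArg (fun φ => Sheaf.H.map φ q y) ((towerSh g hg ψ).map_comp (homOfLE h₁).op (homOfLE h₂).op).symm)

include h in
theorem towerT_levSm (q : ℕ) (a : A) {m n : ℕ} (hmn : n ≤ m) (y : Sheaf.H (levSh g (F := F) m) q) :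
    towerT g hg ψ q hmn (Sheaf.H.map (levSm g (F := F) a m) q y) =
      Sheaf.H.map (levSm g (F := F) a n) q (towerT g hg ψ q hmn y) := by
  induction hmn with
  | refl => rw [towerT_refl, towerT_refl]
  | @step m hmn ih =>
    rw [← towerT_comp g hg ψ q (Nat.le_succ m) hmn, ← towerT_comp g hg ψ q (Nat.le_succ m) hmn, towerT_succ,
      towerT_succ, ← ih]
    exact congrArg (towerT g hg ψ q hmn) (by
      rw [← Sheaf.H.map_comp_apply, levSm_levTr g hg ψ h, Sheaf.H.map_comp_apply])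

theorem smulMod_eq_zero (h : IsAdicSys J i p) {a : A} (ha : a ∈ J) : Formal.smulMod A (F 0) a = 0 := by
  refine Scheme.Modules.hom_ext _ _ fun U => ?_
  ext m
  refine (Coh.smulAb_app (F 0) _ (op U) m).trans ?_
  refine (congrArg (fun z : Γ(Xs 0, U) => z • (show Γ(F 0, U) from m))
    (toSec_eq_zero h 0 U (a := a) (by rwa [zero_add, pow_one]))).trans ?_
  exact zero_smul _ _

/-- The kernel piece in cohomology. -/
abbrev pieceH (k : ℕ) : (spaceFun (g (k + 1))).obj (Kr ψ k) ⟶ (QCoh.toAbFun (Xs 0)).obj (P ψ k) :=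
  pieceMap g hg ψ k ≫ (spaceIdIso (g 0) hg0).hom.app (P ψ k)

include h hp hF hg0 in
/-- The images of the transition maps in cohomology are stationary, with a uniform bound. -/
theorem exists_uniform_range (hh : ∀ k, IsHomeomorph (g k)) (q : ℕ) :
    ∃ s₀ : ℕ, ∀ {k m : ℕ} (hkm : k ≤ m), k + s₀ ≤ m → ∀ y : Sheaf.H (levSh g (F := F) m) q,
      ∃ w : Sheaf.H (levSh g (F := F) (m + 1)) q,
        towerT g hg ψ q (Nat.le_succ_of_le hkm) w = towerT g hg ψ q hkm y := by
  haveI := isProper_over h hp 0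
  obtain ⟨r, a, hspan⟩ := Submodule.fg_iff_exists_fin_generating_family.1 (IsNoetherian.noetherian J)
  have haJ : ∀ j, a j ∈ J := fun j => hspan ▸ Submodule.subset_span ⟨j, rfl⟩
  let t : Fin r → ∀ k, P ψ k ⟶ P ψ (k + 1) := fun j k => step h hp hF ψ k (haJ j)
  obtain ⟨d, hd⟩ := exists_generated_HH A r (q + 1) (P ψ) (isCoh_P h hp hF ψ) t
    (fun j l k => step_comm h hp hF ψ k (haJ j) (haJ l)) 0 fun k _ => jointlyEpi_step h hp hF ψ a haJ hspan k
  haveI : ∀ k, Module.Finite A (Coh.HH (Xs 0) (P ψ k) (q + 1)) := fun k =>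
    ProjCoh.moduleFinite_HH A _ (isCoh_P h hp hF ψ k) (q + 1)
  let δ : ∀ k, Sheaf.H (levSh g (F := F) k) q →+ Coh.HH (Xs 0) (P ψ k) (q + 1) := fun k =>
    (Sheaf.H.map (pieceH g hg hg0 ψ k) (q + 1)).comp (abDelta (levSeq_shortExact g hg ψ h hp hF hh k) q)
  refine exists_uniform_image (B := A) (fun k => Sheaf.H (levSh g (F := F) k) q)
    (fun {m n} hmn => towerT g hg ψ q hmn) (towerT_refl g hg ψ q) (fun h₁ h₂ y => towerT_comp g hg ψ q h₁ h₂ y)
    (fun k => Coh.HH (Xs 0) (P ψ k) (q + 1)) δ ?_ (fun k b => Sheaf.H.map (levSm g (F := F) b k) q)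
    (fun hmn b y => towerT_levSm g hg ψ h q b hmn y) ?_
    (fun j k => Sheaf.H.map (levC g hg ψ h hp hF k (haJ j)) q) (fun j k => hhMap A (t j k) (q + 1)) ?_ ?_ ?_
    (fun j l k => LinearMap.ext fun x => hhMap_comm A (step_comm h hp hF ψ k (haJ j) (haJ l)) (q + 1) x) d hd
  · intro k y hy
    haveI := isIso_pieceMap g hg ψ h hp hF k
    have h0 : abDelta (levSeq_shortExact g hg ψ h hp hF hh k) q y = 0 := by
      have e := congrArg (Sheaf.H.map (inv (pieceH g hg hg0 ψ k)) (q + 1)) hy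
      rw [map_zero] at e
      refine Eq.trans ?_ e
      refine Eq.trans ?_ (Sheaf.H.map_comp_apply (pieceH g hg hg0 ψ k) (inv (pieceH g hg hg0 ψ k)) _)
      rw [IsIso.hom_inv_id, Sheaf.H.map_id_apply]
    obtain ⟨w, hw⟩ := exists_of_abDelta_eq_zero (levSeq_shortExact g hg ψ h hp hF hh k) q y h0
    exact ⟨w, (towerT_succ g hg ψ q k w).trans hw⟩
  · intro k b y
    have h1 := abDelta_naturality (levSeq_shortExact g hg ψ h hp hF hh k) (levSeq_shortExact g hg ψ h hp hF hh k)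
      (seqSm g hg ψ h b k) q y
    refine (congrArg (Sheaf.H.map (pieceH g hg hg0 ψ k) (q + 1)) h1.symm).trans ?_
    show _ = Sheaf.H.map (Coh.smulAb (P ψ k) _) (q + 1) (Sheaf.H.map (pieceH g hg hg0 ψ k) (q + 1) _)
    rw [← Sheaf.H.map_comp_apply, ← Sheaf.H.map_comp_apply]
    refine congrArg (fun φ => Sheaf.H.map φ (q + 1) _) ?_
    refine Eq.trans ?_ (congrArg (pieceH g hg hg0 ψ k ≫ ·) (toAbFun_smulMod (P ψ k) b))
    refine (Category.assoc _ _ _).symm.trans ((congrArg (· ≫ (spaceIdIso (g 0) hg0).hom.app (P ψ k))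
      (pieceMap_smul g hg ψ h hp hF b k)).trans ?_)
    exact (Category.assoc _ _ _).trans ((congrArg (pieceMap g hg ψ k ≫ ·)
      ((spaceIdIso (g 0) hg0).hom.naturality (Formal.smulMod A (P ψ k) b))).trans (Category.assoc _ _ _).symm)
  · intro j k y
    have h1 := abDelta_naturality (levSeq_shortExact g hg ψ h hp hF hh k) (levSeq_shortExact g hg ψ h hp hF hh (k + 1))
      (seqC g hg ψ h hp hF k (haJ j)) q y
    refine (congrArg (Sheaf.H.map (pieceH g hg hg0 ψ (k + 1)) (q + 1)) h1.symm).trans ?_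
    show _ = Sheaf.H.map ((QCoh.toAbFun (Xs 0)).map (t j k)) (q + 1) (Sheaf.H.map (pieceH g hg hg0 ψ k) (q + 1) _)
    rw [← Sheaf.H.map_comp_apply, ← Sheaf.H.map_comp_apply]
    refine congrArg (fun φ => Sheaf.H.map φ (q + 1) _) ?_
    refine (Category.assoc _ _ _).symm.trans ((congrArg (· ≫ (spaceIdIso (g 0) hg0).hom.app (P ψ (k + 1)))
      (pieceMap_step g hg ψ h hp hF k (haJ j))).trans ?_)
    exact (Category.assoc _ _ _).trans ((congrArg (pieceMap g hg ψ k ≫ ·)
      ((spaceIdIso (g 0) hg0).hom.naturality (t j k))).trans (Category.assoc _ _ _).symm)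
  · intro j y
    rw [towerT_succ, ← Sheaf.H.map_comp_apply, levC_levTr g hg ψ h hp hF 0 (haJ j), levSm, smulMod_eq_zero h (haJ j),
      Functor.map_zero, H_map_eq_comp, Abelian.Ext.mk₀_zero, Abelian.Ext.comp_zero]
  · intro j k y
    rw [towerT_succ, towerT_succ, ← Sheaf.H.map_comp_apply, ← Sheaf.H.map_comp_apply, levC_levTr, levTr_levC]

end GrothLib.FCoh7
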