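import Groth.Agent.Lib.UnifVanish7.Main
import Groth.Agent.Lib.Euler.SectionKill
import Groth.Agent.Lib.ProjCoh.Generic

/-!
# Cohomology of finitely generated graded systems of coherent modules

On a proper scheme over a Noetherian ring, the cohomology of a system of coherent modules with commuting maps of
degree one, jointly surjective in high degrees, is generated in bounded degree.
-/

set_option autoImplicit false
set_option linter.style.haveILetI false
universe u

open CategoryTheory CategoryTheory.Limits AlgebraicGeometry Opposite TopologicalSpace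

noncomputable section

namespace GrothLib.FCoh7

open GrothLib.UnifVanish7 GrothLib.Cohom

variable {X : Scheme.{u}} (A : Type u) [CommRing A] [X.Over (Spec (CommRingCat.of A))]

theorem hhMap_comp' {M N P : X.Modules} (φ : M ⟶ N) (ψ : N ⟶ P) (q : ℕ) (x : Coh.HH X M q) :
    hhMap A (φ ≫ ψ) q x = hhMap A ψ q (hhMap A φ q x) := by
  rw [hhMap_apply, hhMap_apply, hhMap_apply, Functor.map_comp, Sheaf.H.map_comp_apply]

theorem hhMap_comm {M N M' N' : X.Modules} {a : M ⟶ N} {b : N ⟶ N'} {c : M ⟶ M'} {d : M' ⟶ N'}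
    (h : a ≫ b = c ≫ d) (q : ℕ) (x : Coh.HH X M q) : hhMap A b q (hhMap A a q x) = hhMap A d q (hhMap A c q x) := by
  rw [← hhMap_comp', ← hhMap_comp', h]

variable [IsNoetherianRing A] [IsProper (X ↘ Spec (CommRingCat.of A))]

/-- The maps of a generated system are generating in cohomology, in high degrees. -/
theorem exists_generated_HH : ∀ (r : ℕ) (q : ℕ) (G : ℕ → X.Modules) (_ : ∀ k, Coh.IsCoh (G k))
    (t : Fin r → ∀ k, G k ⟶ G (k + 1)) (_ : ∀ i j k, t i k ≫ t j (k + 1) = t j k ≫ t i (k + 1))
    (d : ℕ) (_ : ∀ k, d ≤ k → JointlyEpi fun j => t j k),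
    ∃ N, ∀ k, N ≤ k → ⨆ j, LinearMap.range (hhMap A (t j k) q) = ⊤ := by
  haveI := SerreVanish.isNoetherian_of_proper (X := X) A
  intro r
  induction r with
  | zero =>
    intro q G hG t _ d hgen
    refine ⟨d, fun k hk => ?_⟩
    haveI := subsingleton_HH_of_id_eq_zero A (hgen k hk (𝟙 (G (k + 1))) fun j => j.elim0) q
    exact Subsingleton.elim _ _
  | succ r ih =>
    intro q G hG t hcomm d hgen
    let L := Fin.last r
    -- the cokernels
    let C : ℕ → X.Modules := fun k => match k with
      | 0 => G 0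
      | k + 1 => cokernel (t L k)
    let π : ∀ k, G k ⟶ C k := fun k => match k with
      | 0 => 𝟙 (G 0)
      | k + 1 => cokernel.π (t L k)
    have hC : ∀ k, Coh.IsCoh (C k) := fun k => by
      cases k with
      | zero => exact hG 0
      | succ k => exact QCoh.isCoh_cokernel (t L k) (hG k) (hG (k + 1))
    haveI hπ : ∀ k, Epi (π k) := fun k => by
      cases k with
      | zero => exact (inferInstance : Epi (𝟙 (G 0)))
      | succ k => exact (inferInstance : Epi (cokernel.π (t L k)))
    have hs : ∀ (j : Fin r) k, ∃ s : C k ⟶ C (k + 1), π k ≫ s = t j.castSucc k ≫ π (k + 1) := fun j k => by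
      cases k with
      | zero => exact ⟨t j.castSucc 0 ≫ π 1, Category.id_comp _⟩
      | succ k =>
        refine ⟨cokernel.desc _ (t j.castSucc (k + 1) ≫ π (k + 1 + 1)) ?_, cokernel.π_desc _ _ _⟩
        rw [reassoc_of% hcomm L j.castSucc k]
        exact (congrArg _ (cokernel.condition (t L (k + 1)))).trans comp_zero
    choose s hs using hs
    have hsc : ∀ i j k, s i k ≫ s j (k + 1) = s j k ≫ s i (k + 1) := fun i j k => by
      refine (cancel_epi (π k)).1 ?_
      rw [← Category.assoc, ← Category.assoc, hs i k, hs j k, Category.assoc, Category.assoc]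
      refine (congrArg (t i.castSucc k ≫ ·) (hs j (k + 1))).trans
        (Eq.trans ?_ (congrArg (t j.castSucc k ≫ ·) (hs i (k + 1))).symm)
      exact (reassoc_of% (hcomm i.castSucc j.castSucc k)) _
    have hsg : ∀ k, d ≤ k → JointlyEpi fun j => s j k := fun k hk Q g hg => by
      rw [← cancel_epi (π (k + 1)), comp_zero]
      refine hgen k hk _ fun j => ?_
      induction j using Fin.lastCases with
      | last => exact (reassoc_of% cokernel.condition (t L k)) g |>.trans zero_comp
      | cast j => rw [← reassoc_of% hs, hg, comp_zero]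
    obtain ⟨NC, hNC⟩ := ih q C hC s hsc d hsg
    haveI : ∀ k, Module.Finite A (Coh.HH X (C k) q) := fun k => ProjCoh.moduleFinite_HH A _ (hC k) q
    obtain ⟨NC', hNC'⟩ := exists_subfamily_generated (fun k => Coh.HH X (C k) q) (fun j k => hhMap A (s j k) q)
      (fun i j k => LinearMap.ext fun x => hhMap_comm A (hsc i j k) q x) NC hNC
      (fun k => LinearMap.range (hhMap A (π k) q))
      (fun j k => by
        rintro _ ⟨_, ⟨x, rfl⟩, rfl⟩
        exact ⟨hhMap A (t j.castSucc k) q x, (hhMap_comm A (hs j k) q x).symm⟩)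
    -- the kernels
    let K : ℕ → X.Modules := fun k => kernel (t L k)
    have hK : ∀ k, Coh.IsCoh (K k) := fun k => QCoh.isCoh_kernel (t L k) (hG k) (hG (k + 1))
    let u : Fin (r + 1) → ∀ k, K k ⟶ K (k + 1) := fun j k =>
      kernel.lift _ (kernel.ι (t L k) ≫ t j k)
        (by rw [Category.assoc, hcomm j L k, kernel.condition_assoc, zero_comp])
    obtain ⟨dK, hdK⟩ := exists_jointlyEpi_sub G hG t hcomm d hgen K hK (fun k => kernel.ι (t L k)) u
      fun j k => kernel.lift_ι _ _ _
    have hu : ∀ k, u L k = 0 := fun k => by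
      rw [← cancel_mono (kernel.ι (t L (k + 1))), zero_comp, kernel.lift_ι, kernel.condition]
    have huc : ∀ (i j : Fin (r + 1)) k, u i k ≫ u j (k + 1) = u j k ≫ u i (k + 1) := fun i j k => by
      rw [← cancel_mono (kernel.ι (t L (k + 1 + 1))), Category.assoc, Category.assoc, kernel.lift_ι,
        kernel.lift_ι, kernel.lift_ι_assoc, kernel.lift_ι_assoc, Category.assoc, Category.assoc, hcomm]
    obtain ⟨NK, hNK⟩ := ih (q + 1) K hK (fun j => u j.castSucc) (fun i j k => huc _ _ k)
      dK (fun k hk Q g hg => hdK k hk g fun j => by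
        induction j using Fin.lastCases with
        | last => exact (congrArg (· ≫ g) (hu k)).trans zero_comp
        | cast j => exact hg j)
    -- the images
    have hv : ∀ (j : Fin r) k, ∃ v : Abelian.image (t L k) ⟶ Abelian.image (t L (k + 1)),
        v ≫ Abelian.image.ι (t L (k + 1)) = Abelian.image.ι (t L k) ≫ t j.castSucc (k + 1) ∧
          Abelian.factorThruImage (t L k) ≫ v = t j.castSucc k ≫ Abelian.factorThruImage (t L (k + 1)) := fun j k => by
      refine ⟨kernel.lift _ (Abelian.image.ι (t L k) ≫ t j.castSucc (k + 1)) ?_, kernel.lift_ι _ _ _, ?_⟩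
      · refine (Category.assoc _ _ _).trans ((congrArg (Abelian.image.ι (t L k) ≫ ·) (hs j (k + 1)).symm).trans ?_)
        exact ((Category.assoc _ _ _).symm.trans (congrArg (· ≫ s j (k + 1))
          (kernel.condition (cokernel.π (t L k))))).trans zero_comp
      · rw [← cancel_mono (Abelian.image.ι (t L (k + 1))), Category.assoc, kernel.lift_ι, reassoc_of% (Abelian.image.fac (t L k)),
          Category.assoc, Abelian.image.fac, hcomm]
    choose v hvι hvp using hv
    let hKS := fun k => Euler.kernelSeq_shortExact (t L k)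
    let τ : ∀ (j : Fin r) k, Euler.kernelSeq (t L k) ⟶ Euler.kernelSeq (t L (k + 1)) := fun j k =>
      { τ₁ := u j.castSucc k
        τ₂ := t j.castSucc k
        τ₃ := v j k
        comm₁₂ := kernel.lift_ι _ _ _
        comm₂₃ := (hvp j k).symm }
    haveI : ∀ k, Module.Finite A (Coh.HH X (K k) (q + 1)) := fun k => ProjCoh.moduleFinite_HH A _ (hK k) (q + 1)
    obtain ⟨NK', hNK'⟩ := exists_subfamily_generated (fun k => Coh.HH X (K k) (q + 1))
      (fun j k => hhMap A (u j.castSucc k) (q + 1))
      (fun i j k => LinearMap.ext fun x => hhMap_comm A (huc _ _ k) (q + 1) x) NK hNK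
      (fun k => LinearMap.range (hhDelta A (hKS k) q))
      (fun j k => by
        rintro _ ⟨_, ⟨x, rfl⟩, rfl⟩
        exact ⟨hhMap A (v j k) q x, (Euler.hhDelta_naturality (hKS k) (hKS (k + 1)) (τ j k) q x).symm⟩)
    refine ⟨max NC' (NK' + 1), fun k hk => eq_top_iff.2 fun y _ => ?_⟩
    have hIm : ∀ (k : ℕ), NK' ≤ k → ∀ z : Coh.HH X (Abelian.image (t L (k + 1))) q,
        hhMap A (Abelian.image.ι (t L (k + 1))) q z ∈ ⨆ j, LinearMap.range (hhMap A (t j (k + 1)) q) := by
      intro k hk z
      have hz : hhDelta A (hKS (k + 1)) q z ∈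
          (⨆ j : Fin r, LinearMap.range (hhMap A (v j k) q)).map (hhDelta A (hKS (k + 1)) q) := by
        refine SetLike.le_def.1 (iSup_le fun j => ?_) (hNK' k hk ⟨z, rfl⟩)
        rintro _ ⟨_, ⟨x, rfl⟩, rfl⟩
        exact ⟨hhMap A (v j k) q x, Submodule.mem_iSup_of_mem j ⟨x, rfl⟩,
          (Euler.hhDelta_naturality (hKS k) (hKS (k + 1)) (τ j k) q x).symm⟩
      obtain ⟨w, hw, hwz⟩ := hz
      obtain ⟨g, hg⟩ := (exact₃ (A := A) (hKS (k + 1)) q (z - w)).1 (by rw [map_sub, hwz, sub_self])
      rw [show z = hhMap A (Euler.kernelSeq (t L (k + 1))).g q g + w by rw [hg, sub_add_cancel], map_add]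
      refine Submodule.add_mem _ (Submodule.mem_iSup_of_mem L ⟨g, ?_⟩) ?_
      · exact (congrArg (fun φ : G (k + 1) ⟶ G (k + 1 + 1) => hhMap A φ q g) (Abelian.image.fac (t L (k + 1))).symm).trans
          (hhMap_comp' A _ _ q g)
      · refine Submodule.iSup_induction _ (motive := fun w => hhMap A (Abelian.image.ι (t L (k + 1))) q w ∈ _) hw ?_
          (by rw [map_zero]; exact Submodule.zero_mem _)
          (fun a b ha hb => by rw [map_add]; exact Submodule.add_mem _ ha hb)
        rintro j _ ⟨x, rfl⟩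
        exact Submodule.mem_iSup_of_mem j.castSucc
          ⟨hhMap A (Abelian.image.ι (t L k)) q x, (hhMap_comm A (hvι j k) q x).symm⟩
    have hy : hhMap A (π (k + 1)) q y ∈
        (⨆ j, LinearMap.range (hhMap A (t j k) q)).map (hhMap A (π (k + 1)) q) := by
      refine SetLike.le_def.1 (iSup_le fun j => ?_) (hNC' k (le_trans (le_max_left _ _) hk) ⟨y, rfl⟩)
      rintro _ ⟨_, ⟨x, rfl⟩, rfl⟩
      exact ⟨hhMap A (t j.castSucc k) q x, Submodule.mem_iSup_of_mem j.castSucc ⟨x, rfl⟩,
        (hhMap_comm A (hs j k) q x).symm⟩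
    obtain ⟨w, hw, hwy⟩ := hy
    obtain ⟨z, hz⟩ := (exact₂ (A := A) (Euler.imageSeq_shortExact (t L k)) q (y - w)).1
      ((map_sub _ _ _).trans (sub_eq_zero.2 hwy.symm))
    rw [show y = hhMap A (Euler.imageSeq (t L k)).f q z + w by rw [hz, sub_add_cancel]]
    refine Submodule.add_mem _ ?_ hw
    obtain ⟨k, rfl⟩ : ∃ k', k = k' + 1 := ⟨k - 1, by omega⟩
    exact hIm k (by omega) z

end GrothLib.FCoh7
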