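import Groth.Agent.Lib.QCoh.ToSheaf
import Groth.Agent.Lib.Cohom.LinearLES
import Groth.Prelude.Def_CohTop
import Mathlib.Topology.Sheaves.LocallySurjective

/-!
# Modules on schemes with a common space as abelian sheaves on that space
-/

set_option autoImplicit false
set_option linter.style.haveILetI false
set_option linter.unusedSectionVars false
universe u

open CategoryTheory CategoryTheory.Limits AlgebraicGeometry Opposite TopologicalSpace Abelian

noncomputable section

namespace GrothLib.FCoh7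

variable {T : TopCat.{u}}

/-- The abelian sheaf on `T` of a module on a scheme whose space maps to `T`. -/
abbrev spaceFun {Z : Scheme.{u}} (g : Z.toTopCat ⟶ T) : Z.Modules ⥤ Cohom.AbSheaf T :=
  QCoh.toAbFun Z ⋙ CohTop.push g

/-- Direct images of modules do not change the sheaf on the common space. -/
def spacePushIso {Z X : Scheme.{u}} (e : Z ⟶ X) (gX : X.toTopCat ⟶ T) (gZ : Z.toTopCat ⟶ T) (h : e.base ≫ gX = gZ) :
    Scheme.Modules.pushforward e ⋙ spaceFun gX ≅ spaceFun gZ :=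
  eqToIso rfl ≪≫ Functor.isoWhiskerLeft (QCoh.toAbFun Z) (eqToIso (congrArg CohTop.push h))

theorem spacePushIso_comp {W Z X : Scheme.{u}} (b : W ⟶ Z) (e : Z ⟶ X) (gX : X.toTopCat ⟶ T) (gZ : Z.toTopCat ⟶ T)
    (gW : W.toTopCat ⟶ T) (h₁ : e.base ≫ gX = gZ) (h₂ : b.base ≫ gZ = gW) (h₃ : (b ≫ e).base ≫ gX = gW)
    (M : W.Modules) :
    (spaceFun gX).map ((Scheme.Modules.pushforwardComp b e).hom.app M) ≫ (spacePushIso (b ≫ e) gX gW h₃).hom.app M =
      (spacePushIso e gX gZ h₁).hom.app ((Scheme.Modules.pushforward b).obj M) ≫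
        (spacePushIso b gZ gW h₂).hom.app M := by
  subst h₁
  subst h₂
  ext U x
  rfl

/-- Modules on a scheme whose space is `T`. -/
def spaceIdIso {Z : Scheme.{u}} (g : Z.toTopCat ⟶ Z.toTopCat) (h : g = 𝟙 _) : spaceFun g ≅ QCoh.toAbFun Z :=
  Functor.isoWhiskerLeft (QCoh.toAbFun Z) (eqToIso (congrArg CohTop.push h)) ≪≫ eqToIso rfl

/-- Short exact sequences stay short exact on the common space. -/
theorem spaceFun_shortExact {Z : Scheme.{u}} (g : Z.toTopCat ⟶ T) (hg : IsHomeomorph g) {S : ShortComplex Z.Modules}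
    (hS : S.ShortExact) : (S.map (spaceFun g)).ShortExact := by
  have h1 := QCoh.toAbFun_map_shortExact S hS
  haveI := h1.epi_g
  haveI := h1.mono_f
  have : PreservesFiniteLimits (CohTop.push g) :=
    have := (TopCat.Sheaf.pullbackPushforwardAdjunction AddCommGrpCat.{u} g).rightAdjoint_preservesLimits
      (F := CohTop.pull g) (G := CohTop.push g)
    inferInstance
  have hloc : Sheaf.IsLocallySurjective (S.map (QCoh.toAbFun Z)).g :=
    (Sheaf.isLocallySurjective_iff_epi' _ _).2 h1.epi_g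
  have hepi : Epi ((CohTop.push g).map (S.map (QCoh.toAbFun Z)).g) := by
    refine (Sheaf.isLocallySurjective_iff_epi' _ _).1 ⟨fun {U} z x hx => ?_⟩
    obtain ⟨y, rfl⟩ := hg.surjective x
    obtain ⟨W, i, ⟨w, hw⟩, hyW⟩ := hloc.imageSieve_mem (U := (Opens.map g).obj U) z y hx
    let W' : Opens T := ⟨g '' (W : Set Z), hg.isOpenMap _ W.isOpen⟩
    have hle : W' ≤ U := by
      rintro _ ⟨y', hy', rfl⟩
      exact i.le hy'
    have hWW : (Opens.map g).obj W' ≤ W := fun y' ⟨y'', hy'', he⟩ => hg.injective he ▸ hy''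
    refine ⟨W', homOfLE hle, ⟨(S.map (QCoh.toAbFun Z)).X₂.obj.map (homOfLE hWW).op w, ?_⟩, ⟨y, hyW, rfl⟩⟩
    refine (ConcreteCategory.congr_hom ((S.map (QCoh.toAbFun Z)).g.hom.naturality (homOfLE hWW).op) w).trans ?_
    refine (congrArg ((S.map (QCoh.toAbFun Z)).X₃.obj.map (homOfLE hWW).op) hw).trans ?_
    exact (ConcreteCategory.congr_hom ((S.map (QCoh.toAbFun Z)).X₃.obj.map_comp i.op (homOfLE hWW).op) z).symm
  refine ShortComplex.ShortExact.mk' ?_ (inferInstanceAs (Mono ((CohTop.push g).map (S.map (QCoh.toAbFun Z)).f))) hepi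
  exact ((S.map (QCoh.toAbFun Z)).map (CohTop.push g)).exact_of_f_is_kernel
    ((ShortComplex.exact_and_mono_f_iff_f_is_kernel _).1 ⟨h1.exact, h1.mono_f⟩ |>.some |>
      (fun hk => (isLimitMapConeForkEquiv' (CohTop.push g) _).1 (isLimitOfPreserves (CohTop.push g) hk)))

section Delta

variable {S S' : ShortComplex (Cohom.AbSheaf T)} (hS : S.ShortExact) (hS' : S'.ShortExact)

/-- The connecting map of a short exact sequence of abelian sheaves. -/
def abDelta (q : ℕ) : Sheaf.H S.X₃ q →+ Sheaf.H S.X₁ (q + 1) :=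
  AddMonoidHom.mk' (fun x => Ext.comp (C := Cohom.AbSheaf T) (show Ext.{u} _ S.X₃ q from x) hS.extClass rfl)
    fun x y => Ext.add_comp (C := Cohom.AbSheaf T) (show Ext.{u} _ S.X₃ q from x) y _ _

theorem exists_of_abDelta_eq_zero (q : ℕ) (x : Sheaf.H S.X₃ q) (hx : abDelta hS q x = 0) :
    ∃ y : Sheaf.H S.X₂ q, Sheaf.H.map S.g q y = x :=
  Ext.covariant_sequence_exact₃ _ hS (show Ext.{u} _ S.X₃ q from x) rfl hx

theorem abDelta_naturality (τ : S ⟶ S') (q : ℕ) (x : Sheaf.H S.X₃ q) :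
    Sheaf.H.map τ.τ₁ (q + 1) (abDelta hS q x) = abDelta hS' q (Sheaf.H.map τ.τ₃ q x) := by
  have key := hS.extClass_naturality hS' τ
  change ((show Ext.{u} _ S.X₃ q from x).comp hS.extClass rfl).comp (Ext.mk₀ τ.τ₁) (add_zero _) =
    ((show Ext.{u} _ S.X₃ q from x).comp (Ext.mk₀ τ.τ₃) (add_zero q)).comp hS'.extClass rfl
  rw [Ext.comp_assoc_of_second_deg_zero, Ext.comp_assoc_of_third_deg_zero]
  exact congrArg (fun e => (show Ext.{u} _ S.X₃ q from x).comp e rfl) key

end Delta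

end GrothLib.FCoh7
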