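import Groth.Agent.Lib.UnifVanish7.GradedModule
import Groth.Prelude.Def_ARSys
import Mathlib.Algebra.Category.Grp.Abelian
import Mathlib.Algebra.Category.Grp.EquivalenceGroupAddGroup

/-!
# A criterion for the Mittag-Leffler condition with uniform bound

If the obstructions to lifting from one level to the next form a generated graded family of finite modules, and the
operators raise the levels, the images of the transition maps are stationary, with a uniform bound.
-/

set_option autoImplicit false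
universe u v

open CategoryTheory

namespace GrothLib.FCoh7

/-- An ascending chain of stable subfamilies of a generated family of finite modules is stationary. -/
theorem exists_stationary {B : Type u} [CommRing B] [IsNoetherianRing B] {r : ℕ} (M : ℕ → Type v)
    [∀ k, AddCommGroup (M k)] [∀ k, Module B (M k)] [∀ k, Module.Finite B (M k)]
    (t : Fin r → ∀ k, M k →ₗ[B] M (k + 1))
    (hcomm : ∀ i j k, (t j (k + 1)).comp (t i k) = (t i (k + 1)).comp (t j k))
    (d : ℕ) (hgen : ∀ k, d ≤ k → ⨆ j, LinearMap.range (t j k) = ⊤)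
    (S : ℕ → ∀ k, Submodule B (M k)) (hmono : ∀ s k, S s k ≤ S (s + 1) k)
    (hS : ∀ s j k, (S s k).map (t j k) ≤ S s (k + 1)) :
    ∃ s₀, ∀ s k, S s k ≤ S s₀ k := by
  have hm : ∀ k, Monotone fun s => S s k := fun k => monotone_nat_of_le_succ fun s => hmono s k
  obtain ⟨d', hd'⟩ := UnifVanish7.exists_subfamily_generated M t hcomm d hgen (fun k => ⨆ s, S s k) fun j k => by
    rw [Submodule.map_iSup]
    exact iSup_mono fun s => hS s j k
  have hst : ∀ k, ∃ n, ∀ s, n ≤ s → S n k = S s k := fun k =>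
    WellFoundedGT.monotone_chain_condition ⟨fun s => S s k, hm k⟩
  choose n hn using hst
  let s₀ := (Finset.range (d' + 1)).sup n
  refine ⟨s₀, fun s k => ?_⟩
  refine le_trans (le_iSup (fun s => S s k) s) ?_
  induction k using Nat.strong_induction_on with
  | _ k ih =>
    by_cases hk : k ≤ d'
    · refine iSup_le fun s => ?_
      refine (hm k (le_max_left s (n k))).trans ((hn k _ (le_max_right s (n k))).symm.le.trans (hm k ?_))
      exact Finset.le_sup (Finset.mem_range.2 (by omega))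
    obtain ⟨k, rfl⟩ : ∃ k', k = k' + 1 := ⟨k - 1, by omega⟩
    refine (hd' k (by omega)).trans (iSup_le fun j => ?_)
    exact (Submodule.map_mono (ih k (by omega))).trans (hS s₀ j k)

section Tower

variable {B : Type u} [CommRing B] [IsNoetherianRing B] {r : ℕ} (M : ℕ → Type v) [∀ k, AddCommGroup (M k)]
  (T : ∀ {m n : ℕ}, n ≤ m → M m →+ M n)
  (hid : ∀ (n : ℕ) (y : M n), T (le_refl n) y = y)
  (hcp : ∀ {l m n : ℕ} (h₁ : m ≤ n) (h₂ : l ≤ m) (y : M n), T h₂ (T h₁ y) = T (h₂.trans h₁) y)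
  (N : ℕ → Type v) [∀ k, AddCommGroup (N k)] [∀ k, Module B (N k)] [∀ k, Module.Finite B (N k)]
  (δ : ∀ k, M k →+ N k) (hδ : ∀ k y, δ k y = 0 → ∃ w : M (k + 1), T (Nat.le_succ k) w = y)
  (sm : ∀ k, B → M k →+ M k) (hsmT : ∀ {m n : ℕ} (h : n ≤ m) b y, T h (sm m b y) = sm n b (T h y))
  (hsmδ : ∀ k b y, δ k (sm k b y) = b • δ k y)
  (c : Fin r → ∀ k, M k →+ M (k + 1)) (t : Fin r → ∀ k, N k →ₗ[B] N (k + 1))
  (hcδ : ∀ j k y, δ (k + 1) (c j k y) = t j k (δ k y))
  (hc0 : ∀ j y, T (Nat.le_succ 0) (c j 0 y) = 0)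
  (hcT : ∀ j k y, T (Nat.le_succ (k + 1)) (c j (k + 1) y) = c j k (T (Nat.le_succ k) y))
  (hcomm : ∀ i j k, (t j (k + 1)).comp (t i k) = (t i (k + 1)).comp (t j k))
  (d : ℕ) (hgen : ∀ k, d ≤ k → ⨆ j, LinearMap.range (t j k) = ⊤)

include hid hcp hδ hsmT hsmδ hcδ hc0 hcT hcomm hgen

/-- The images of the transition maps are stationary with a uniform bound. -/
theorem exists_uniform_image : ∃ s₀ : ℕ, ∀ {k m : ℕ} (h : k ≤ m), k + s₀ ≤ m → ∀ y : M m,
    ∃ w : M (m + 1), T (Nat.le_succ_of_le h) w = T h y := by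
  have hcT' : ∀ j (l n : ℕ) (h : l ≤ n) (y : M n), T (Nat.succ_le_succ h) (c j n y) = c j l (T h y) := by
    intro j l n h
    induction h with
    | refl => intro y; rw [hid, hid]
    | @step n h ih =>
      intro y
      rw [← hcp (Nat.le_succ (n + 1)) (Nat.succ_le_succ h), hcT, ih, hcp]
  have hcT0 : ∀ j (n : ℕ) (y : M n), T (Nat.zero_le (n + 1)) (c j n y) = 0 := fun j n y => by
    rw [← hcp (Nat.succ_le_succ (Nat.zero_le n)) (Nat.le_succ 0), hcT' j 0 n (Nat.zero_le n), hc0]
  -- the obstructions of the classes vanishing on a lower level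
  let S : ℕ → ∀ k, Submodule B (N k) := fun s k =>
    { carrier := {v | ∃ y : M k, (∀ l (h : l ≤ k), l + s = k → T h y = 0) ∧ δ k y = v}
      zero_mem' := ⟨0, fun _ _ _ => map_zero _, map_zero _⟩
      add_mem' := by
        rintro _ _ ⟨a, ha, rfl⟩ ⟨b, hb, rfl⟩
        exact ⟨a + b, fun l h hl => by rw [map_add, ha l h hl, hb l h hl, add_zero], map_add _ _ _⟩
      smul_mem' := by
        rintro b _ ⟨a, ha, rfl⟩
        exact ⟨sm k b a, fun l h hl => by rw [hsmT, ha l h hl, map_zero], hsmδ k b a⟩ }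
  obtain ⟨s₀, hs₀⟩ := exists_stationary N t hcomm d hgen S
    (fun s k => by
      rintro _ ⟨y, hy, rfl⟩
      refine ⟨y, fun l h hl => ?_, rfl⟩
      rw [← hcp (show l + 1 ≤ k by omega) (Nat.le_succ l), hy (l + 1) _ (by omega), map_zero])
    (fun s j k => by
      rintro _ ⟨_, ⟨y, hy, rfl⟩, rfl⟩
      refine ⟨c j k y, fun l h hl => ?_, hcδ j k y⟩
      cases l with
      | zero => exact hcT0 j k y
      | succ l => rw [hcT' j l k (by omega), hy l (by omega) (by omega), map_zero])
  refine ⟨s₀, fun {k m} h hkm y => ?_⟩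
  obtain ⟨z, hz, hzy⟩ := hs₀ (m + 1) m (x := δ m y) ⟨y, fun l _ hl => absurd hl (by omega), rfl⟩
  obtain ⟨w, hw⟩ := hδ m (y - z) (by rw [map_sub, hzy, sub_self])
  refine ⟨w, ?_⟩
  have h0 : T h z = 0 := by
    rw [← hcp (show m - s₀ ≤ m by omega) (show k ≤ m - s₀ by omega), hz (m - s₀) _ (by omega), map_zero]
  rw [← hcp (Nat.le_succ m) h, hw, map_sub, h0, sub_zero]

end Tower

end GrothLib.FCoh7
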