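import Groth.Agent.Lib.UnifVanish7.Graded
import Groth.Agent.Lib.FFormal7.Adjunct
import Groth.Agent.Lib.FCoh7.GradedHH
import Groth.Agent.Lib.FCoh7.TowerML
import Groth.Agent.Lib.FCoh7.LevPush

/-!
# Mittag-Leffler for the cohomology of an adic system of coherent modules on a proper adic system of schemes
-/

set_option autoImplicit false
set_option linter.style.haveILetI false
set_option linter.unusedSectionVars false
set_option maxHeartbeats 800000
universe u

open CategoryTheory CategoryTheory.Limits AlgebraicGeometry Opposite TopologicalSpace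

noncomputable section

namespace GrothLib.FCoh7

open GrothLib.UnifVanish7

variable {A : Type u} [CommRing A] {J : Ideal A} {Xs : ℕ → Scheme.{u}}
  [hX : ∀ k, (Xs k).Over (Spec (CommRingCat.of A))]
  {i : (k : ℕ) → (Xs k ⟶ Xs (k + 1))}
  {p : (k : ℕ) → (Xs k ⟶ Spec (CommRingCat.of (A ⧸ J ^ (k + 1))))}

theorem bot_struct (h : IsAdicSys J i p) :
    ∀ k, bot i k ≫ (Xs k ↘ Spec (CommRingCat.of A)) = Xs 0 ↘ Spec (CommRingCat.of A) := by
  intro k
  rw [(isPullback_bot_base h k).w, ← h.struct]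

theorem toAbFun_smulMod {X : Scheme.{u}} [X.Over (Spec (CommRingCat.of A))] (M : X.Modules) (a : A) :
    (QCoh.toAbFun X).map (Formal.smulMod A M a) =
      Coh.smulAb M (Coh.toGlobal (X ↘ Spec (CommRingCat.of A)) a) := by
  ext U x
  rfl

theorem pushforwardCongr_refl {Z X : Scheme.{u}} (f : Z ⟶ X) (M : Z.Modules) :
    (Scheme.Modules.pushforwardCongr (rfl : f = f)).hom.app M = 𝟙 _ := by
  refine Scheme.Modules.hom_ext _ _ fun U => ?_
  ext m
  exact ConcreteCategory.congr_hom (M.presheaf.map_id _) _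

/-- Adjoint form of the comparison with the closed level. -/
theorem unit_cmp (k : ℕ) [IsClosedImmersion (i k)] (M : (Xs k).Modules) :
    (Scheme.Modules.pullbackPushforwardAdjunction (bot i (k + 1))).unit.app ((Scheme.Modules.pushforward (i k)).obj M) ≫
      (Scheme.Modules.pushforward (bot i (k + 1))).map (UnifVanish7.cmp (i := i) k M) =
    (Scheme.Modules.pushforward (i k)).map ((Scheme.Modules.pullbackPushforwardAdjunction (bot i k)).unit.app M) ≫
      (Scheme.Modules.pushforwardComp (bot i k) (i k)).hom.app _ := by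
  let e := i k
  let b := bot i k
  let adj := Scheme.Modules.pullbackPushforwardAdjunction e
  have h1 := FFormal7.adjunct_lowerMap (M := (Scheme.Modules.pushforward e).obj M) (rfl : b ≫ e = b ≫ e)
    (adj.counit.app M) (Iso.refl ((Scheme.Modules.pullback b).obj M))
  have h2 : FFormal7.lowerMap (rfl : b ≫ e = b ≫ e) (adj.counit.app M) (Iso.refl ((Scheme.Modules.pullback b).obj M)) =
      UnifVanish7.cmp (i := i) k M := by
    simp [FFormal7.lowerMap, Scheme.Modules.pullbackCongr, e, b, adj]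
    rfl
  rw [h2] at h1
  refine h1.trans ?_
  have h3 : FFormal7.adjunct e (adj.counit.app M) = 𝟙 _ := adj.right_triangle_components M
  rw [h3, Category.id_comp]
  rw [pushforwardCongr_refl]
  simp [e, b]

/-- Compatibility on the common space of maps compatible on the schemes. -/
theorem space_comm {T : TopCat.{u}} {W Z X : Scheme.{u}} (b : W ⟶ Z) (e : Z ⟶ X) (gX : X.toTopCat ⟶ T)
    (gZ : Z.toTopCat ⟶ T) (gW : W.toTopCat ⟶ T) (h₁ : e.base ≫ gX = gZ) (h₂ : b.base ≫ gZ = gW)
    (h₃ : (b ≫ e).base ≫ gX = gW) {K : Z.Modules} {K' : X.Modules} {P P' : W.Modules}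
    (u : K ⟶ (Scheme.Modules.pushforward b).obj P) (u' : K' ⟶ (Scheme.Modules.pushforward (b ≫ e)).obj P')
    (σ : (Scheme.Modules.pushforward e).obj K ⟶ K') (st : P ⟶ P')
    (hσ : σ ≫ u' = ((Scheme.Modules.pushforward e).map u ≫ (Scheme.Modules.pushforwardComp b e).hom.app P) ≫
      (Scheme.Modules.pushforward (b ≫ e)).map st) :
    ((spacePushIso e gX gZ h₁).inv.app K ≫ (spaceFun gX).map σ) ≫
        ((spaceFun gX).map u' ≫ (spacePushIso (b ≫ e) gX gW h₃).hom.app P') =
      ((spaceFun gZ).map u ≫ (spacePushIso b gZ gW h₂).hom.app P) ≫ (spaceFun gW).map st := by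
  have hu : (spaceFun gX).map ((Scheme.Modules.pushforward e).map u) ≫
      (spacePushIso e gX gZ h₁).hom.app ((Scheme.Modules.pushforward b).obj P) =
    (spacePushIso e gX gZ h₁).hom.app K ≫ (spaceFun gZ).map u := (spacePushIso e gX gZ h₁).hom.naturality u
  have hst : (spaceFun gX).map ((Scheme.Modules.pushforward (b ≫ e)).map st) ≫
      (spacePushIso (b ≫ e) gX gW h₃).hom.app P' =
    (spacePushIso (b ≫ e) gX gW h₃).hom.app P ≫ (spaceFun gW).map st :=
    (spacePushIso (b ≫ e) gX gW h₃).hom.naturality st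
  have e1 : (spaceFun gX).map σ ≫ (spaceFun gX).map u' ≫ (spacePushIso (b ≫ e) gX gW h₃).hom.app P' =
      (spacePushIso e gX gZ h₁).hom.app K ≫
        (((spaceFun gZ).map u ≫ (spacePushIso b gZ gW h₂).hom.app P) ≫ (spaceFun gW).map st) := by
    refine (Category.assoc _ _ _).symm.trans ((congrArg (· ≫ (spacePushIso (b ≫ e) gX gW h₃).hom.app P')
      (((spaceFun gX).map_comp σ u').symm.trans ((congrArg (spaceFun gX).map hσ).trans
        (((spaceFun gX).map_comp _ _).trans (congrArg (· ≫ (spaceFun gX).map ((Scheme.Modules.pushforward (b ≫ e)).map st))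
          ((spaceFun gX).map_comp _ _)))))).trans ?_)
    refine (Category.assoc _ _ _).trans ((congrArg (_ ≫ ·) hst).trans ?_)
    refine (Category.assoc _ _ _).symm.trans ((congrArg (· ≫ (spaceFun gW).map st) ?_).trans (Category.assoc _ _ _))
    refine (Category.assoc _ _ _).trans ((congrArg (_ ≫ ·) (spacePushIso_comp b e gX gZ gW h₁ h₂ h₃ P)).trans ?_)
    exact (Category.assoc _ _ _).symm.trans ((congrArg (· ≫ (spacePushIso b gZ gW h₂).hom.app P) hu).trans
      (Category.assoc _ _ _))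
  exact (Category.assoc _ _ _).trans ((congrArg ((spacePushIso e gX gZ h₁).inv.app K ≫ ·) e1).trans
    (Iso.inv_hom_id_app_assoc (spacePushIso e gX gZ h₁) K _))

variable {T : TopCat.{u}} (g : ∀ k, (Xs k).toTopCat ⟶ T) (hg : ∀ k, (i k).base ≫ g (k + 1) = g k)

include hg in
theorem bot_base : ∀ k, (bot i k).base ≫ g k = g 0
  | 0 => by rw [bot, Scheme.Hom.id_base, Category.id_comp]
  | k + 1 => by rw [bot, Scheme.Hom.comp_base, Category.assoc, hg k, bot_base k]

variable {F : (k : ℕ) → (Xs k).Modules} (ψ : ∀ k, (Scheme.Modules.pullback (i k)).obj (F (k + 1)) ≅ F k)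

/-- A level on the common space. -/
abbrev levSh (k : ℕ) : Cohom.AbSheaf T := (spaceFun (g k)).obj (F k)

/-- The transition between levels on the common space. -/
abbrev levTr (k : ℕ) : levSh g (F := F) (k + 1) ⟶ levSh g (F := F) k :=
  (spaceFun (g (k + 1))).map (rho ψ k) ≫ (spacePushIso (i k) (g (k + 1)) (g k) (hg k)).hom.app (F k)

/-- The tower of the levels. -/
abbrev towerSh : ℕᵒᵖ ⥤ Cohom.AbSheaf T := Functor.ofOpSequence (levTr g hg ψ)

/-- Multiplication on a level. -/
abbrev levSm (a : A) (k : ℕ) : levSh g (F := F) k ⟶ levSh g (F := F) k :=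
  (spaceFun (g k)).map (Formal.smulMod A (F k) a)

variable [IsNoetherianRing A]

theorem rho_smulMod (h : IsAdicSys J i p) (a : A) (k : ℕ) :
    Formal.smulMod A (F (k + 1)) a ≫ rho ψ k =
      rho ψ k ≫ (Scheme.Modules.pushforward (i k)).map (Formal.smulMod A (F k) a) := by
  rw [← smulMod_push _ (i_struct h k)]
  exact FormalSys.smulMod_naturality _ _

theorem levSm_levTr (h : IsAdicSys J i p) (a : A) (k : ℕ) :
    levSm g (F := F) a (k + 1) ≫ levTr g hg ψ k = levTr g hg ψ k ≫ levSm g (F := F) a k := by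
  rw [levSm, levTr, ← Category.assoc, ← Functor.map_comp, rho_smulMod ψ h, Functor.map_comp, Category.assoc,
    Category.assoc]
  exact congrArg ((spaceFun (g (k + 1))).map (rho ψ k) ≫ ·)
    ((spacePushIso (i k) (g (k + 1)) (g k) (hg k)).hom.naturality (Formal.smulMod A (F k) a))

variable (h : IsAdicSys J i p) (hp : IsProper (p 0)) (hF : ∀ k, Coh.IsCoh (F k))

/-- Multiplication raising the level. -/
abbrev levC (k : ℕ) {a : A} (ha : a ∈ J) : levSh g (F := F) k ⟶ levSh g (F := F) (k + 1) :=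
  (spacePushIso (i k) (g (k + 1)) (g k) (hg k)).inv.app (F k) ≫ (spaceFun (g (k + 1))).map (chi h hp hF ψ k ha)

theorem levC_levTr (k : ℕ) {a : A} (ha : a ∈ J) :
    levC g hg ψ h hp hF k ha ≫ levTr g hg ψ k = levSm g (F := F) a k := by
  rw [levC, levTr, Category.assoc, ← Functor.map_comp_assoc, chi_rho h hp hF ψ k ha, smulMod_push _ (i_struct h k)]
  refine (congrArg ((spacePushIso (i k) (g (k + 1)) (g k) (hg k)).inv.app (F k) ≫ ·)
    ((spacePushIso (i k) (g (k + 1)) (g k) (hg k)).hom.naturality (Formal.smulMod A (F k) a))).trans ?_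
  exact Iso.inv_hom_id_app_assoc _ _ _

theorem levTr_levC (k : ℕ) {a : A} (ha : a ∈ J) :
    levTr g hg ψ k ≫ levC g hg ψ h hp hF k ha = levSm g (F := F) a (k + 1) := by
  rw [levC, levTr, Category.assoc, Iso.hom_inv_id_app_assoc, ← Functor.map_comp, rho_chi h hp hF ψ k ha]

/-- The sequence of a level. -/
abbrev levSeq (k : ℕ) : ShortComplex (Cohom.AbSheaf T) :=
  ShortComplex.mk ((spaceFun (g (k + 1))).map (kernel.ι (rho ψ k))) (levTr g hg ψ k) (by
    rw [levTr, ← Category.assoc, ← Functor.map_comp, kernel.condition, Functor.map_zero, zero_comp])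

include h hp hF in
theorem levSeq_shortExact (hh : ∀ k, IsHomeomorph (g k)) (k : ℕ) : (levSeq g hg ψ k).ShortExact := by
  haveI := epi_rho h hp hF ψ k
  let S := ShortComplex.mk (kernel.ι (rho ψ k)) (rho ψ k) (kernel.condition _)
  have hS : S.ShortExact := { exact := ShortComplex.exact_kernel (rho ψ k) }
  let e : S.map (spaceFun (g (k + 1))) ≅ levSeq g hg ψ k :=
    ShortComplex.isoMk (Iso.refl _) (Iso.refl _) ((spacePushIso (i k) (g (k + 1)) (g k) (hg k)).app (F k))
      ((Category.id_comp _).trans (Category.comp_id _).symm) (Category.id_comp _)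
  exact ShortComplex.shortExact_of_iso e (spaceFun_shortExact (g (k + 1)) (hh (k + 1)) hS)

/-- Multiplication on a sequence. -/
def seqSm (a : A) (k : ℕ) : levSeq g hg ψ k ⟶ levSeq g hg ψ k where
  τ₁ := (spaceFun (g (k + 1))).map (Formal.smulMod A (Kr ψ k) a)
  τ₂ := levSm g (F := F) a (k + 1)
  τ₃ := levSm g (F := F) a k
  comm₁₂ := by
    show _ ≫ _ = _ ≫ _
    rw [levSm, ← Functor.map_comp, ← Functor.map_comp, FormalSys.smulMod_naturality]
  comm₂₃ := levSm_levTr g hg ψ h a k

/-- The multiplication raising the level, on sequences. -/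
def seqC (k : ℕ) {a : A} (ha : a ∈ J) : levSeq g hg ψ k ⟶ levSeq g hg ψ (k + 1) where
  τ₁ := (spacePushIso (i (k + 1)) (g (k + 1 + 1)) (g (k + 1)) (hg (k + 1))).inv.app (Kr ψ k) ≫
    (spaceFun (g (k + 1 + 1))).map (sigma h hp hF ψ k ha)
  τ₂ := levC g hg ψ h hp hF (k + 1) ha
  τ₃ := levC g hg ψ h hp hF k ha
  comm₁₂ := by
    show ((spacePushIso (i (k + 1)) (g (k + 1 + 1)) (g (k + 1)) (hg (k + 1))).inv.app (Kr ψ k) ≫ _) ≫ _ = _
    rw [Category.assoc, ← Functor.map_comp, sigma, kernel.lift_ι, Functor.map_comp]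
    exact ((spacePushIso (i (k + 1)) (g (k + 1 + 1)) (g (k + 1)) (hg (k + 1))).inv.naturality_assoc
      (kernel.ι (rho ψ k)) ((spaceFun (g (k + 1 + 1))).map (chi h hp hF ψ (k + 1) ha))).symm
  comm₂₃ := (levC_levTr g hg ψ h hp hF (k + 1) ha).trans (levTr_levC g hg ψ h hp hF k ha).symm

/-- The kernel of a level is the graded piece on the closed level. -/
abbrev pieceMap (k : ℕ) : (spaceFun (g (k + 1))).obj (Kr ψ k) ⟶ (spaceFun (g 0)).obj (P ψ k) :=
  (spaceFun (g (k + 1))).map ((Scheme.Modules.pullbackPushforwardAdjunction (bot i (k + 1))).unit.app (Kr ψ k)) ≫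
    (spacePushIso (bot i (k + 1)) (g (k + 1)) (g 0) (bot_base g hg (k + 1))).hom.app (P ψ k)

include h hp hF in
theorem isIso_pieceMap (k : ℕ) : IsIso (pieceMap g hg ψ k) := by
  haveI := isClosedImmersion_bot h (k + 1)
  haveI := (isCoh_Kr h hp hF ψ k).1
  haveI := QCoh.isIso_unit_of_killed (bot i (k + 1)) (Kr ψ k) (killed_Kr h hp hF ψ k)
  infer_instance

include h hp hF in
theorem pieceMap_smul (a : A) (k : ℕ) :
    (spaceFun (g (k + 1))).map (Formal.smulMod A (Kr ψ k) a) ≫ pieceMap g hg ψ k =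
      pieceMap g hg ψ k ≫ (spaceFun (g 0)).map (Formal.smulMod A (P ψ k) a) := by
  rw [pieceMap, ← Category.assoc, ← Functor.map_comp, FormalSys.smulMod_naturality]
  erw [smulMod_push _ (bot_struct h (k + 1))]
  rw [Functor.map_comp, Category.assoc, Category.assoc]
  exact congrArg (_ ≫ ·)
    ((spacePushIso (bot i (k + 1)) (g (k + 1)) (g 0) (bot_base g hg (k + 1))).hom.naturality (Formal.smulMod A (P ψ k) a))

theorem sigma_unit (k : ℕ) {a : A} (ha : a ∈ J) :
    sigma h hp hF ψ k ha ≫ (Scheme.Modules.pullbackPushforwardAdjunction (bot i (k + 1 + 1))).unit.app (Kr ψ (k + 1)) =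
      ((Scheme.Modules.pushforward (i (k + 1))).map
          ((Scheme.Modules.pullbackPushforwardAdjunction (bot i (k + 1))).unit.app (Kr ψ k)) ≫
        (Scheme.Modules.pushforwardComp (bot i (k + 1)) (i (k + 1))).hom.app _) ≫
        (Scheme.Modules.pushforward (bot i (k + 1 + 1))).map (step h hp hF ψ k ha) := by
  haveI := isClosedImmersion_i h (k + 1)
  haveI := (isCoh_Kr h hp hF ψ k).1
  haveI := isIso_cmp (i := i) (k + 1) (Kr ψ k)
  refine Eq.trans ?_ ((congrArg (· ≫ _) (unit_cmp (k + 1) (Kr ψ k))).trans rfl)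
  refine ((Scheme.Modules.pullbackPushforwardAdjunction (bot i (k + 1 + 1))).unit.naturality (sigma h hp hF ψ k ha)).trans ?_
  refine Eq.trans ?_ (Category.assoc _ _ _).symm
  refine congrArg (_ ≫ ·) ?_
  rw [← Functor.map_comp, step, IsIso.hom_inv_id_assoc]
  rfl

theorem pieceMap_step (k : ℕ) {a : A} (ha : a ∈ J) :
    (seqC g hg ψ h hp hF k ha).τ₁ ≫ pieceMap g hg ψ (k + 1) =
      pieceMap g hg ψ k ≫ (spaceFun (g 0)).map (step h hp hF ψ k ha) :=
  space_comm (bot i (k + 1)) (i (k + 1)) (g (k + 1 + 1)) (g (k + 1)) (g 0) (hg (k + 1)) (bot_base g hg (k + 1))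
    (bot_base g hg (k + 1 + 1)) ((Scheme.Modules.pullbackPushforwardAdjunction (bot i (k + 1))).unit.app (Kr ψ k))
    ((Scheme.Modules.pullbackPushforwardAdjunction (bot i (k + 1 + 1))).unit.app (Kr ψ (k + 1)))
    (sigma h hp hF ψ k ha) (step h hp hF ψ k ha) (sigma_unit ψ h hp hF k ha)

end GrothLib.FCoh7
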