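import Groth.Agent.Lib.FMod7.Ring
import Groth.Agent.Lib.QCoh.Affine
import Groth.Agent.Lib.QCoh.Abelian
import Groth.Agent.Lib.QCoh.LocGen

/-!
# Sections over basic opens of quasi-coherent modules on a level
-/

set_option autoImplicit false
set_option linter.style.haveILetI false
set_option linter.unusedSectionVars false
set_option backward.isDefEq.respectTransparency false
universe u

open CategoryTheory CategoryTheory.Limits AlgebraicGeometry Opposite TopologicalSpace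

noncomputable section

namespace GrothLib.FCoh7

variable {𝔜 : FSch.Sys.{u}} (h𝔜 : 𝔜.IsFormal) {W : (𝔜.X 0).Opens}

/-- The basic open of a section. -/
abbrev secBasicOpen (g : FMod7.Sec 𝔜 h𝔜 W) : (𝔜.X 0).Opens := (𝔜.X 0).basicOpen (FMod7.proj 𝔜 h𝔜 W 0 g)

theorem lvU_zero (W : (𝔜.X 0).Opens) : 𝔜.lvU h𝔜 0 W = W := FFormal7.toX_preimage_lvU 𝔜 h𝔜 0 W

theorem secBasicOpen_le (g : FMod7.Sec 𝔜 h𝔜 W) : secBasicOpen h𝔜 g ≤ W :=
  ((𝔜.X 0).basicOpen_le _).trans (lvU_zero h𝔜 W).le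

/-- On each level the basic open of a section is the basic open of its image. -/
theorem lvU_basicOpen (g : FMod7.Sec 𝔜 h𝔜 W) (m : ℕ) :
    𝔜.lvU h𝔜 m (secBasicOpen h𝔜 g) = (𝔜.X m).basicOpen (FMod7.proj 𝔜 h𝔜 W m g) := by
  have hz : ∀ n, FMod7.toZero 𝔜 h𝔜 W n (FMod7.proj 𝔜 h𝔜 W n g) = FMod7.proj 𝔜 h𝔜 W 0 g := by
    intro n
    induction n with
    | zero => rfl
    | succ n ih => exact (congrArg (FMod7.toZero 𝔜 h𝔜 W n) (FMod7.trans_proj 𝔜 h𝔜 W n g)).trans ih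
  have e0 : secBasicOpen h𝔜 g = 𝔜.toX m ⁻¹ᵁ (𝔜.X m).basicOpen (FMod7.proj 𝔜 h𝔜 W m g) := by
    have h1 := hz m
    rw [FMod7.toZero_eq] at h1
    rw [secBasicOpen, ← h1]
    refine (Scheme.basicOpen_appLE _ _ _ _ _).trans ?_
    exact inf_eq_right.2 ((Scheme.Hom.preimage_mono _ ((𝔜.X m).basicOpen_le _)).trans
      ((FFormal7.toX_preimage_lvU 𝔜 h𝔜 m W).le.trans (lvU_zero h𝔜 W).ge))
  rw [e0]
  ext z
  show 𝔜.toX m (𝔜.gInv h𝔜 m z) ∈ (𝔜.X m).basicOpen (FMod7.proj 𝔜 h𝔜 W m g) ↔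
    z ∈ (𝔜.X m).basicOpen (FMod7.proj 𝔜 h𝔜 W m g)
  have : 𝔜.toX m (𝔜.gInv h𝔜 m z) = z := (𝔜.levelHomeo h𝔜 m).apply_symm_apply z
  rw [this]

/-- The restriction of a section to its basic open is a unit. -/
theorem isUnit_res_secBasicOpen (hN : 𝔜.IsLocNoethFormal) (hW : IsAffineOpen W) (g : FMod7.Sec 𝔜 h𝔜 W) :
    IsUnit (show FMod7.Sec 𝔜 h𝔜 (secBasicOpen h𝔜 g) from
      (𝔜.Osh h𝔜).obj.map (homOfLE (secBasicOpen_le h𝔜 g)).op g) := by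
  have hD : IsAffineOpen (secBasicOpen h𝔜 g) := (FFormal7.isAffineOpen_lvU 𝔜 h𝔜 hW 0).basicOpen _
  haveI := FMod7.isAdicComplete_Sec (h := h𝔜) hN hD
  let d : FMod7.Sec 𝔜 h𝔜 (secBasicOpen h𝔜 g) := (𝔜.Osh h𝔜).obj.map (homOfLE (secBasicOpen_le h𝔜 g)).op g
  have h0 : IsUnit (FMod7.proj 𝔜 h𝔜 (secBasicOpen h𝔜 g) 0 d) := by
    have e : FMod7.proj 𝔜 h𝔜 (secBasicOpen h𝔜 g) 0 d =
        (𝔜.X 0).presheaf.map ((Opens.map (𝔜.gInv h𝔜 0)).map (homOfLE (secBasicOpen_le h𝔜 g))).op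
          (FMod7.proj 𝔜 h𝔜 W 0 g) :=
      ConcreteCategory.congr_hom ((𝔜.OshProj h𝔜 0).hom.naturality (homOfLE (secBasicOpen_le h𝔜 g)).op) g
    rw [e]
    have h1 := (RingedSpace.isUnit_res_basicOpen (X := (𝔜.X 0).toRingedSpace) (FMod7.proj 𝔜 h𝔜 W 0 g)).map
      ((𝔜.X 0).presheaf.map (homOfLE (lvU_zero h𝔜 (secBasicOpen h𝔜 g)).le).op).hom
    refine (Eq.mp ?_ h1)
    exact congrArg IsUnit (ConcreteCategory.congr_hom ((𝔜.X 0).presheaf.map_comp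
      (homOfLE ((𝔜.X 0).basicOpen_le (FMod7.proj 𝔜 h𝔜 W 0 g))).op
      (homOfLE (lvU_zero h𝔜 (secBasicOpen h𝔜 g)).le).op) _).symm
  obtain ⟨b, hb⟩ := FMod7.proj_surjective (h := h𝔜) hN hD 0 ↑(h0.unit⁻¹)
  have hmem : d * b - 1 ∈ FMod7.secIdeal 𝔜 h𝔜 (secBasicOpen h𝔜 g) := by
    show FMod7.proj 𝔜 h𝔜 _ 0 (d * b - 1) = 0
    rw [map_sub, map_mul, hb, map_one, IsUnit.mul_val_inv, sub_self]
  have hj := Ideal.mem_jacobson_bot.1 (IsAdicComplete.le_jacobson_bot (FMod7.secIdeal 𝔜 h𝔜 _) hmem) 1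
  rw [mul_one, sub_add_cancel] at hj
  exact isUnit_of_mul_isUnit_left hj

/-- A map out of a quasi-coherent module on a level that kills sections over an affine open kills sections over its
basic opens. -/
theorem eq_zero_basicOpen_of_level (hN : 𝔜.IsLocNoethFormal) (hW : IsAffineOpen W) (g : FMod7.Sec 𝔜 h𝔜 W) (m : ℕ)
    (Q : (𝔜.X m).Modules) [Q.IsQuasicoherent] {Z : FSch.ModF 𝔜 h𝔜} (c : (FSch.levelMor 𝔜 h𝔜 m).push.obj Q ⟶ Z)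
    (hc : ∀ x, c.val.app (op W) x = 0) (y : ((FSch.levelMor 𝔜 h𝔜 m).push.obj Q).val.obj (op (secBasicOpen h𝔜 g))) :
    c.val.app (op (secBasicOpen h𝔜 g)) y = 0 := by
  let gm : Γ(𝔜.X m, 𝔜.lvU h𝔜 m W) := FMod7.proj 𝔜 h𝔜 W m g
  have e := lvU_basicOpen h𝔜 g m
  obtain ⟨n, z, hz⟩ := (QCoh.smulLift_and_smulSep_of_isAffineOpen (FFormal7.isAffineOpen_lvU 𝔜 h𝔜 hW m) Q gm).1
    (Q.presheaf.map (homOfLE e.ge).op y)
  have hle := secBasicOpen_le h𝔜 g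
  let d : FMod7.Sec 𝔜 h𝔜 (secBasicOpen h𝔜 g) := (𝔜.Osh h𝔜).obj.map (homOfLE hle).op g
  have key : ((FSch.levelMor 𝔜 h𝔜 m).push.obj Q).val.map (homOfLE hle).op z = d ^ n • y := by
    show Q.presheaf.map ((Opens.map (𝔜.gInv h𝔜 m)).map (homOfLE hle)).op z =
      (show Γ(Q, 𝔜.lvU h𝔜 m (secBasicOpen h𝔜 g)) from
        (show Γ(𝔜.X m, 𝔜.lvU h𝔜 m (secBasicOpen h𝔜 g)) from FMod7.proj 𝔜 h𝔜 _ m (d ^ n)) •
          (show Γ(Q, 𝔜.lvU h𝔜 m (secBasicOpen h𝔜 g)) from y))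
    have hd : FMod7.proj 𝔜 h𝔜 (secBasicOpen h𝔜 g) m d =
        (𝔜.X m).presheaf.map ((Opens.map (𝔜.gInv h𝔜 m)).map (homOfLE hle)).op gm :=
      ConcreteCategory.congr_hom ((𝔜.OshProj h𝔜 m).hom.naturality (homOfLE hle).op) g
    rw [map_pow, hd]
    refine ((QCoh.rr_rr ((𝔜.X m).basicOpen_le gm) e.le z).symm.trans ?_)
    refine (congrArg (QCoh.rr (F := Q) e.le) hz).trans ?_
    refine (QCoh.rr_smul e.le _ _).trans (congrArg₂ (· • ·) ?_ ?_)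
    · rw [map_pow]
      exact congrArg (· ^ n)
        (ConcreteCategory.congr_hom ((𝔜.X m).presheaf.map_comp (homOfLE ((𝔜.X m).basicOpen_le gm)).op
          (homOfLE e.le).op) gm).symm
    · exact (QCoh.rr_rr e.ge e.le y).trans (QCoh.rr_self _ _)
  have h1 := PresheafOfModules.naturality_apply c.val (homOfLE hle).op z
  rw [hc, map_zero, key] at h1
  have h2 : d ^ n • c.val.app (op (secBasicOpen h𝔜 g)) y = 0 :=
    ((c.val.app (op (secBasicOpen h𝔜 g))).hom.map_smul (d ^ n) y).symm.trans h1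
  exact ((isUnit_res_secBasicOpen h𝔜 hN hW g).pow n).smul_eq_zero.1 h2

end GrothLib.FCoh7
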