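import Mathlib.Algebra.Homology.DerivedCategory.Ext.Map
import Mathlib.Algebra.Homology.DerivedCategory.Ext.EnoughInjectives
import Mathlib.CategoryTheory.Adjunction.Additive

/-!
# Ext groups along an adjunction with exact right adjoint
-/

set_option linter.style.haveILetI false
universe w w' v v' u u'

open CategoryTheory CategoryTheory.Limits CategoryTheory.Abelian

namespace GrothLib.FCoh7

variable {A : Type u} [Category.{v} A] [Abelian A] {B : Type u'} [Category.{v'} B] [Abelian B]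
  [HasExt.{w} A] [HasExt.{w'} B] {L : A ⥤ B} {R : B ⥤ A} (adj : L ⊣ R)
  [R.Additive] [PreservesFiniteLimits R] [PreservesFiniteColimits R]

/-- Apply the right adjoint, then precompose with the unit. -/
noncomputable def coMap (X : A) (Y : B) (n : ℕ) : Ext.{w'} (L.obj X) Y n →+ Ext.{w} X (R.obj Y) n :=
  AddMonoidHom.comp
    (AddMonoidHom.mk' (fun e => (Ext.mk₀ (adj.unit.app X)).comp e (zero_add n))
      (fun _ _ => Ext.comp_add _ _ _ _))
    (R.mapExtAddHom (L.obj X) Y n)

theorem coMap_apply (X : A) (Y : B) (n : ℕ) (e : Ext.{w'} (L.obj X) Y n) :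
    coMap adj X Y n e = (Ext.mk₀ (adj.unit.app X)).comp (e.mapExactFunctor R) (zero_add n) := rfl

theorem coMap_mk₀ (X : A) (Y : B) (g : L.obj X ⟶ Y) :
    coMap adj X Y 0 (Ext.mk₀ g) = Ext.mk₀ (adj.homEquiv X Y g) := by
  rw [coMap_apply, Ext.mapExactFunctor_mk₀, Ext.mk₀_comp_mk₀, Adjunction.homEquiv_unit]

theorem bijective_coMap_zero (X : A) (Y : B) : Function.Bijective (coMap adj X Y 0) := by
  refine ⟨fun a b h => ?_, fun y => ?_⟩
  · obtain ⟨a, rfl⟩ := (Ext.mk₀_bijective _ _).2 a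
    obtain ⟨b, rfl⟩ := (Ext.mk₀_bijective _ _).2 b
    rw [coMap_mk₀, coMap_mk₀] at h
    rw [(adj.homEquiv X Y).injective ((Ext.mk₀_bijective _ _).1 h)]
  · obtain ⟨y, rfl⟩ := (Ext.mk₀_bijective _ _).2 y
    exact ⟨Ext.mk₀ ((adj.homEquiv X Y).symm y), by rw [coMap_mk₀, Equiv.apply_symm_apply]⟩

theorem coMap_naturality (X : A) {Y Y' : B} (g : Y ⟶ Y') (n : ℕ) (e : Ext.{w'} (L.obj X) Y n) :
    coMap adj X Y' n (e.comp (Ext.mk₀ g) (add_zero n)) =
      (coMap adj X Y n e).comp (Ext.mk₀ (R.map g)) (add_zero n) := by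
  rw [coMap_apply, coMap_apply, Ext.mapExactFunctor_comp, Ext.mapExactFunctor_mk₀,
    Ext.comp_assoc_of_third_deg_zero]

theorem coMap_naturality_left {X X' : A} (f : X' ⟶ X) (Y : B) (n : ℕ) (e : Ext.{w'} (L.obj X) Y n) :
    coMap adj X' Y n ((Ext.mk₀ (L.map f)).comp e (zero_add n)) =
      (Ext.mk₀ f).comp (coMap adj X Y n e) (zero_add n) := by
  rw [coMap_apply, coMap_apply, Ext.mapExactFunctor_comp, Ext.mapExactFunctor_mk₀, Ext.mk₀_comp_mk₀_assoc,
    Ext.mk₀_comp_mk₀_assoc]
  exact congrArg (fun m => (Ext.mk₀ m).comp (e.mapExactFunctor R) (zero_add n)) (adj.unit.naturality f).symm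

theorem coMap_extClass (X : A) {S : ShortComplex B} (hS : S.ShortExact) (n : ℕ)
    (e : Ext.{w'} (L.obj X) S.X₃ n) :
    coMap adj X S.X₁ (n + 1) (e.comp hS.extClass rfl) =
      (coMap adj X S.X₃ n e).comp (hS.map_of_exact R).extClass rfl := by
  rw [coMap_apply, coMap_apply, Ext.mapExactFunctor_comp, Ext.mapExactFunctor_extClass]
  exact (Ext.comp_assoc _ _ _ (zero_add n) rfl (by omega)).symm

/-- Ext out of `L X` is Ext out of `X` when injectives are acyclic. -/
theorem bijective_coMap [EnoughInjectives B] (X : A)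
    (hI : ∀ (I : B), Injective I → ∀ n : ℕ, Subsingleton (Ext.{w} X (R.obj I) (n + 1))) :
    ∀ (n : ℕ) (Y : B), Function.Bijective (coMap adj X Y n) := by
  intro n
  induction n with
  | zero => exact fun Y => bijective_coMap_zero adj X Y
  | succ n ih =>
    intro Y
    let S : ShortComplex B := ShortComplex.mk (Injective.ι Y) (cokernel.π (Injective.ι Y)) (cokernel.condition _)
    have hS : S.ShortExact :=
      { exact := ShortComplex.exact_of_g_is_cokernel _ (cokernelIsCokernel _) }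
    haveI : Injective S.X₂ := inferInstanceAs (Injective (Injective.under Y))
    refine ⟨(injective_iff_map_eq_zero _).2 fun a ha => ?_, fun b => ?_⟩
    · obtain ⟨x₃, rfl⟩ := Ext.covariant_sequence_exact₁ (L.obj X) hS a (Ext.eq_zero_of_injective _) rfl
      replace ha := (coMap_extClass adj X hS n x₃).symm.trans ha
      obtain ⟨z, hz⟩ := Ext.covariant_sequence_exact₃ X (hS.map_of_exact R) (coMap adj X S.X₃ n x₃) rfl ha
      obtain ⟨w, rfl⟩ := (ih S.X₂).2 z
      have : x₃ = w.comp (Ext.mk₀ S.g) (add_zero n) :=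
        (ih S.X₃).1 (hz.symm.trans (coMap_naturality adj X S.g n w).symm)
      rw [this]
      refine (Ext.comp_assoc_of_second_deg_zero w (Ext.mk₀ S.g) hS.extClass rfl).trans ?_
      exact (congrArg (fun m => Ext.comp w m rfl) hS.comp_extClass).trans (Ext.comp_zero _ _ _ _ _)
    · obtain ⟨y₃, rfl⟩ := Ext.covariant_sequence_exact₁ X (hS.map_of_exact R) b
        (@Subsingleton.elim _ (hI S.X₂ inferInstance n) _ _) rfl
      obtain ⟨x₃, rfl⟩ := (ih S.X₃).2 y₃
      exact ⟨x₃.comp hS.extClass rfl, coMap_extClass adj X hS n x₃⟩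

end GrothLib.FCoh7
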