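import Groth.Agent.Lib.FPush7.Square
import Groth.Agent.Lib.SheafCoh.Leray

/-!
# The direct image of the module of a formal system to a scheme
-/

set_option autoImplicit false
set_option linter.style.haveILetI false
set_option linter.unusedSectionVars false
universe u

open CategoryTheory CategoryTheory.Limits AlgebraicGeometry TopologicalSpace Opposite

noncomputable section

namespace GrothLib.FCoh7

open GrothLib.FMod7

variable {𝔛 : FSch.Sys.{u}} (h : 𝔛.IsFormal) {Y : Scheme.{u}} (p : ∀ n, 𝔛.X n ⟶ Y)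
  (hp : ∀ n, 𝔛.ι n ≫ p (n + 1) = p n) (G : ∀ k, (𝔛.X k).Modules)
  (t : ∀ k, G (k + 1) ⟶ (Scheme.Modules.pushforward (𝔛.ι k)).obj (G k))

/-- The transition of the direct images to the scheme. -/
abbrev pushT (k : ℕ) :
    (Scheme.Modules.pushforward (p (k + 1))).obj (G (k + 1)) ⟶ (Scheme.Modules.pushforward (p k)).obj (G k) :=
  (Scheme.Modules.pushforward (p (k + 1))).map (t k) ≫
    (Scheme.Modules.pushforwardComp (𝔛.ι k) (p (k + 1))).hom.app _ ≫
      (Scheme.Modules.pushforwardCongr (hp k)).hom.app _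

/-- The comparison commutes with the transitions. -/
theorem cmp_succ (k : ℕ) :
    ((FSch.schPushCompare 𝔛 h p hp (k + 1)).app (G (k + 1))) ≫
      (FSch.toSchemeMor 𝔛 h p hp).push.map ((FSch.levelSysOf 𝔛 h G t).map (homOfLE (Nat.le_add_right k 1)).op) =
    (show (show ModSite.Mod Y.sheaf from (Scheme.Modules.pushforward (p (k + 1))).obj (G (k + 1))) ⟶ _ from
      pushT p hp G t k ≫ (FSch.schPushCompare 𝔛 h p hp k).app (G k)) := by
  refine SheafOfModules.hom_ext (PresheafOfModules.hom_ext fun U => ModuleCat.hom_ext (LinearMap.ext fun m => ?_))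
  refine Eq.trans (levelSysOf_map_app h (p 0 ⁻¹ᵁ U.unop) G t k
    ((G (k + 1)).presheaf.map (homOfLE (FSch.lvU_p 𝔛 h p hp (k + 1) U.unop).ge).op m)) ?_
  exact FPush7.sTrans_res h p hp G t k U.unop m

/-- The system of the direct images to the scheme. -/
def pushLevels : ℕᵒᵖ ⥤ Y.Modules :=
  Functor.ofOpSequence (X := fun k => (Scheme.Modules.pushforward (p k)).obj (G k)) (pushT p hp G t)

theorem pushLevels_map (k : ℕ) :
    (pushLevels p hp G t).map (homOfLE (Nat.le_succ k)).op = pushT p hp G t k :=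
  Functor.ofOpSequence_map_homOfLE_succ (X := fun k => (Scheme.Modules.pushforward (p k)).obj (G k))
    (pushT p hp G t) k

/-- The direct image of the limit is the limit of the direct images. -/
theorem nonempty_push_realLim_iso (hc : ∀ k, IsIso ((FSch.schPushCompare 𝔛 h p hp k).app (G k))) :
    Nonempty ((FSch.toSchemeMor 𝔛 h p hp).push.obj (FSch.realLim 𝔛 h G t) ≅
      (show ModSite.Mod Y.sheaf from (limit (pushLevels p hp G t) : Y.Modules))) := by
  let u := (FSch.toSchemeMor 𝔛 h p hp).push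
  let Φ : ℕᵒᵖ ⥤ ModSite.Mod Y.sheaf := pushLevels p hp G t
  let a : Φ ⟶ FSch.levelSysOf 𝔛 h G t ⋙ u :=
    NatTrans.ofOpSequence (fun k => (FSch.schPushCompare 𝔛 h p hp k).app (G k)) fun k => by
      refine Eq.trans ?_ (cmp_succ h p hp G t k).symm
      exact congrArg (fun φ : (show ModSite.Mod Y.sheaf from (Scheme.Modules.pushforward (p (k + 1))).obj (G (k + 1))) ⟶ _ =>
        φ ≫ (FSch.schPushCompare 𝔛 h p hp k).app (G k)) (pushLevels_map p hp G t k)
  haveI : ∀ j, IsIso (a.app j) := fun j => hc j.unop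
  haveI := NatIso.isIso_of_isIso_app a
  haveI := (FSch.toSchemeMor 𝔛 h p hp).adj.rightAdjoint_preservesLimits
  let E := preservesLimitIso u (FSch.levelSysOf 𝔛 h G t) ≪≫ lim.mapIso (asIso a).symm
  exact ⟨E⟩

/-- Cohomology along a closed embedding into a scheme. -/
theorem nonempty_H_push (hcl : Topology.IsClosedEmbedding (p 0).base) (M : FSch.ModF 𝔛 h) (n : ℕ) :
    Nonempty (FSch.HF 𝔛 h M n ≃+ Coh.HH Y ((FSch.toSchemeMor 𝔛 h p hp).push.obj M) n) :=
  SheafCoh.nonempty_H_addEquiv_push (p 0).base (ModSite.toAb M)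
    (fun q => SheafCoh.isZero_Rpush_of_isClosedEmbedding (p 0).base hcl (ModSite.toAb M) q) n

end GrothLib.FCoh7
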