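import Groth.Agent.Lib.FCoh7.HLim
import Groth.Agent.Lib.FCoh7.PushLim
import Groth.Agent.Lib.FPush7.PushSections
import Groth.Agent.Lib.FFormal7.Compl
import Groth.Agent.S3854

/-!
# Cohomology of the completion of a coherent module on a proper scheme
-/

set_option autoImplicit false
set_option linter.style.haveILetI false
set_option linter.unusedSectionVars false
set_option maxHeartbeats 800000
universe u

open CategoryTheory CategoryTheory.Limits AlgebraicGeometry Opposite TopologicalSpace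

noncomputable section

namespace GrothLib.FCoh7

open GrothLib.FMod7 GrothLib.FormalLim7

/-- An isomorphism of modules induces one on cohomology. -/
theorem nonempty_HH_iso {X : Scheme.{u}} {M N : X.Modules} (e : M ≅ N) (n : ℕ) :
    Nonempty (Coh.HH X M n ≃+ Coh.HH X N n) :=
  ⟨hIso ((SheafOfModules.toSheaf X.ringCatSheaf).mapIso e) n⟩

/-- An isomorphism of modules induces one on cohomology. -/
theorem nonempty_HF_iso {𝔛 : FSch.Sys.{u}} {h : 𝔛.IsFormal} {M N : FSch.ModF 𝔛 h} (e : M ≅ N) (n : ℕ) :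
    Nonempty (FSch.HF 𝔛 h M n ≃+ FSch.HF 𝔛 h N n) :=
  ⟨hIso ((SheafOfModules.toSheaf _).mapIso e) n⟩

/-- Cohomology of the module of a formal system over a scheme. -/
theorem nonempty_HF_realLim {𝔛 : FSch.Sys.{u}} (h : 𝔛.IsFormal) {Y : Scheme.{u}} (p : ∀ n, 𝔛.X n ⟶ Y)
    (hp : ∀ n, 𝔛.ι n ≫ p (n + 1) = p n) (hcl : Topology.IsClosedEmbedding (p 0).base) (G : ∀ k, (𝔛.X k).Modules)
    (t : ∀ k, G (k + 1) ⟶ (Scheme.Modules.pushforward (𝔛.ι k)).obj (G k))
    (hc : ∀ k, IsIso ((FSch.schPushCompare 𝔛 h p hp k).app (G k))) (n : ℕ) :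
    Nonempty (FSch.HF 𝔛 h (FSch.realLim 𝔛 h G t) n ≃+ Coh.HH Y (limit (pushLevels p hp G t)) n) := by
  obtain ⟨a⟩ := nonempty_H_push h p hp hcl (FSch.realLim 𝔛 h G t) n
  obtain ⟨E⟩ := nonempty_push_realLim_iso h p hp G t hc
  obtain ⟨b⟩ := nonempty_HH_iso (M := (show Y.Modules from (FSch.toSchemeMor 𝔛 h p hp).push.obj (FSch.realLim 𝔛 h G t)))
    (N := limit (pushLevels p hp G t)) E n
  exact ⟨a.trans b⟩

/-- Cohomology of a module isomorphic to the module of a formal system over a scheme. -/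
theorem nonempty_HF_of_iso {𝔛 : FSch.Sys.{u}} (h : 𝔛.IsFormal) {Y : Scheme.{u}} (p : ∀ n, 𝔛.X n ⟶ Y)
    (hp : ∀ n, 𝔛.ι n ≫ p (n + 1) = p n) (hcl : Topology.IsClosedEmbedding (p 0).base) (G : ∀ k, (𝔛.X k).Modules)
    (t : ∀ k, G (k + 1) ⟶ (Scheme.Modules.pushforward (𝔛.ι k)).obj (G k))
    (hc : ∀ k, IsIso ((FSch.schPushCompare 𝔛 h p hp k).app (G k))) {M : FSch.ModF 𝔛 h}
    (e : M ≅ FSch.realLim 𝔛 h G t) (Q : ℕᵒᵖ ⥤ Y.Modules) (hQ : pushLevels p hp G t = Q) (n : ℕ) :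
    Nonempty (FSch.HF 𝔛 h M n ≃+ Coh.HH Y (limit Q) n) := by
  subst hQ
  obtain ⟨a⟩ := nonempty_HF_iso e n
  obtain ⟨b⟩ := nonempty_HF_realLim h p hp hcl G t hc n
  exact ⟨a.trans b⟩

/-- A system of quotients of a module is surjective on affine opens. -/
theorem surjOnAffines_of_units {X : Scheme.{u}} {F : X.Modules} {Q : ℕ → X.Modules} (u : ∀ k, F ⟶ Q k)
    (t : ∀ k, Q (k + 1) ⟶ Q k) (hut : ∀ k, u (k + 1) ≫ t k = u k)
    (hu : ∀ (k : ℕ) (V : X.Opens), IsAffineOpen V → Function.Surjective ((u k).app V)) :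
    SurjOnAffines (Functor.ofOpSequence t) := fun V hV k y => by
  obtain ⟨m, hm⟩ := hu k V hV y
  refine ⟨(u (k + 1)).app V m, ?_⟩
  rw [Functor.ofOpSequence_map_homOfLE_succ]
  exact (congrArg (fun φ : F ⟶ Q k => φ.app V m) (hut k)).trans hm

section Compl

variable {X : Scheme.{u}} [IsLocallyNoetherian X] (𝓚 : X.IdealSheafData) (F : X.Modules)

/-- The system of the levels. -/
abbrev levSys : ℕᵒᵖ ⥤ X.Modules :=
  Functor.ofOpSequence (X := FPush7.lev 𝓚 F) (FPush7.levT 𝓚 F)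

theorem levSys_map (k : ℕ) : (levSys 𝓚 F).map (homOfLE (Nat.le_succ k)).op = FPush7.levT 𝓚 F k :=
  Functor.ofOpSequence_map_homOfLE_succ (X := FPush7.lev 𝓚 F) (FPush7.levT 𝓚 F) k

theorem levSys_eq : pushLevels (FSch.completionToX X 𝓚) (FSch.completionToX_comm X 𝓚) (FSch.complMod 𝓚 F).F
    (FSch.complMod 𝓚 F).toPush = levSys 𝓚 F :=
  congrArg (fun t : ∀ k, FPush7.lev 𝓚 F (k + 1) ⟶ FPush7.lev 𝓚 F k => Functor.ofOpSequence t)
    (funext fun k => (FPush7.levT_def 𝓚 F k).symm)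

theorem isIso_schPushCompare_compl (hX : (FSch.completionAlong X 𝓚).IsFormal) (k : ℕ)
    (G : ((FSch.completionAlong X 𝓚).X k).Modules) :
    IsIso ((FSch.schPushCompare (FSch.completionAlong X 𝓚) hX (FSch.completionToX X 𝓚)
      (FSch.completionToX_comm X 𝓚) k).app G) :=
  haveI := isIso_schCmp hX k
  inferInstance

theorem isClosedEmbedding_completionToX :
    Topology.IsClosedEmbedding (FSch.completionToX X 𝓚 0).base :=
  haveI : IsClosedImmersion (FSch.completionToX X 𝓚 0) :=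
    inferInstanceAs (IsClosedImmersion (𝓚 ^ (0 + 1)).subschemeι)
  (FSch.completionToX X 𝓚 0).isClosedEmbedding

theorem nonempty_HF_levSys (hX : (FSch.completionAlong X 𝓚).IsFormal) (hF : Coh.IsCoh F) (n : ℕ) :
    Nonempty (FSch.HF (FSch.completionAlong X 𝓚) hX ((complMor hX).pull.obj F) n ≃+
      Coh.HH X (limit (levSys 𝓚 F)) n) :=
  haveI := isIso_comparison hX F (Groth.Agent.S3854.result X 𝓚) hF fun _ => FormalExist7.isCoh_pullbackMod _ hF
  nonempty_HF_of_iso hX (FSch.completionToX X 𝓚) (FSch.completionToX_comm X 𝓚) (isClosedEmbedding_completionToX 𝓚)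
    (FSch.complMod 𝓚 F).F (FSch.complMod 𝓚 F).toPush (fun k => isIso_schPushCompare_compl 𝓚 hX k _)
    (@asIso _ _ _ _ (comparison hX F) this) (levSys 𝓚 F) (levSys_eq 𝓚 F) n

theorem isQuasicoherent_lev (hF : Coh.IsCoh F) (k : ℕ) : (FPush7.lev 𝓚 F k).IsQuasicoherent := by
  haveI : IsClosedImmersion (FSch.completionToX X 𝓚 k) :=
    inferInstanceAs (IsClosedImmersion (𝓚 ^ (k + 1)).subschemeι)
  haveI := LocallyOfFiniteType.isLocallyNoetherian (FSch.completionToX X 𝓚 k)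
  exact (FormalExist7.isCoh_pushforward (FSch.completionToX X 𝓚 k) (FormalExist7.isCoh_pullbackMod _ hF)).1

theorem surjOnAffines_levSys (hF : Coh.IsCoh F) : SurjOnAffines (levSys 𝓚 F) :=
  surjOnAffines_of_units (FPush7.levUnit 𝓚 F) (FPush7.levT 𝓚 F) (FPush7.levUnit_levT 𝓚 F)
    fun k V hV => (FPush7.levUnit_affine 𝓚 F hF k ⟨V, hV⟩).1

end Compl

variable {A : Type u} [CommRing A] [IsNoetherianRing A] (I : Ideal A) {X : Scheme.{u}}
  [X.Over (Spec (CommRingCat.of A))] [IsProper (X ↘ Spec (CommRingCat.of A))]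

theorem isQuot_levUnit {F : X.Modules} (hF : Coh.IsCoh F) (k : ℕ) :
    FormalSys.IsQuot (I ^ (k + 1)) (FPush7.levUnit (FFormal7.baseIdeal I X) F k) := by
  have h := FFormal7.isQuot_adjunct (FFormal7.isAdicSys_lev I X) (FFormal7.isProper_levBase I X 0)
    (fun k => FFormal7.isPullback_lev I X k) hF k (𝟙 _)
  rw [FFormal7.adjunct, CategoryTheory.Functor.map_id] at h
  exact (congrArg _ (Category.comp_id _)).mp h

theorem exists_levSys_iso [IsLocallyNoetherian X] (𝓚 : X.IdealSheafData) (F : X.Modules)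
    (hu : ∀ k, FormalSys.IsQuot (I ^ (k + 1)) (FPush7.levUnit 𝓚 F k)) :
    ∃ j : ∀ k, Formal.modPow I (k + 1) F ≅ (levSys 𝓚 F).obj (op k), ∀ k,
      (j (k + 1)).hom ≫ (levSys 𝓚 F).map (homOfLE (Nat.le_succ k)).op =
        Formal.modPowTrans I (k + 1) F ≫ (j k).hom := by
  choose j hjπ using fun k => (FormalSys.IsQuot.modPowπ I (k + 1) F).exists_iso (hu k)
  refine ⟨j, fun k => ?_⟩
  haveI := FormalFun.epi_modPowπ I (k + 1 + 1) F
  refine (cancel_epi (Formal.modPowπ I (k + 1 + 1) F)).1 ?_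
  rw [levSys_map]
  refine ((Category.assoc _ _ _).symm.trans ((congrArg (· ≫ FPush7.levT 𝓚 F k) (hjπ (k + 1))).trans
    (FPush7.levUnit_levT 𝓚 F k))).trans ?_
  exact (hjπ k).symm.trans ((congrArg (· ≫ (j k).hom) (Formal.modPowπ_trans I (k + 1) F)).symm.trans
    (Category.assoc _ _ _))

/-- Cohomology of the completion of a coherent module. -/
theorem nonempty_HF_completion (hX : (FSch.completionAlong X (FFormal7.baseIdeal I X)).IsFormal) (F : X.Modules)
    (hF : Coh.IsCoh F) (n : ℕ) :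
    Nonempty (FSch.HF (FSch.completionAlong X (FFormal7.baseIdeal I X)) hX ((complMor hX).pull.obj F) n ≃+
      Formal.HHlim I F n) := by
  haveI : IsLocallyNoetherian X := LocallyOfFiniteType.isLocallyNoetherian (X ↘ Spec (CommRingCat.of A))
  obtain ⟨e1⟩ := nonempty_HF_levSys _ F hX hF n
  obtain ⟨j, hj⟩ := exists_levSys_iso I (FFormal7.baseIdeal I X) F (isQuot_levUnit I hF)
  obtain ⟨e2⟩ := nonempty_H_limit_equiv I F hF _ (isQuasicoherent_lev (FFormal7.baseIdeal I X) F hF)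
    (surjOnAffines_levSys _ F hF) j hj n
  exact ⟨e1.trans e2⟩

end GrothLib.FCoh7
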