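import Groth.Agent.Lib.FCoh7.SheafTower
import Mathlib.CategoryTheory.Functor.OfSequence
import Mathlib.CategoryTheory.Limits.Preserves.Basic

/-!
# A functor given by sheafified presheaves turns a tower which is a limit on a basis into a limit
-/

set_option autoImplicit false
set_option linter.style.haveILetI false
universe u v v' w w'

open CategoryTheory CategoryTheory.Limits Opposite TopologicalSpace

noncomputable section

namespace GrothLib.FCoh7

variable {T : TopCat.{u}} {B : Set (Opens T)} (hB : Opens.IsBasis B)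
  {A : Type w} [Category.{v} A] {C : Type w'} [Category.{v'} C] [HasLimitsOfShape ℕᵒᵖ C]
  (R : A ⥤ C) (U : C ⥤ CohTop.Ab T) [PreservesLimitsOfShape ℕᵒᵖ U] [U.ReflectsIsomorphisms]
  (Q : A ⥤ (Opens T)ᵒᵖ ⥤ AddCommGrpCat.{u})
  (Φ : R ⋙ U ≅ Q ⋙ presheafToSheaf (Opens.grothendieckTopology T) AddCommGrpCat.{u})

/-- Sections of the sheafification, compatibly with maps. -/
abbrev secMap (M : A) : Q.obj M ⟶ (U.obj (R.obj M)).obj :=
  toSheafify (Opens.grothendieckTopology T) (Q.obj M) ≫ (Φ.inv.app M).hom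

omit [HasLimitsOfShape ℕᵒᵖ C] [PreservesLimitsOfShape ℕᵒᵖ U] [U.ReflectsIsomorphisms] in
theorem secMap_naturality {M N : A} (φ : M ⟶ N) (V : (Opens T)ᵒᵖ) (x : (Q.obj M).obj V) :
    (U.map (R.map φ)).hom.app V ((secMap R U Q Φ M).app V x) = (secMap R U Q Φ N).app V ((Q.map φ).app V x) := by
  have h1 : Φ.inv.app M ≫ U.map (R.map φ) =
      (presheafToSheaf (Opens.grothendieckTopology T) AddCommGrpCat.{u}).map (Q.map φ) ≫ Φ.inv.app N :=
    (Φ.inv.naturality φ).symm
  have h2 : secMap R U Q Φ M ≫ (U.map (R.map φ)).hom = Q.map φ ≫ secMap R U Q Φ N := by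
    refine (Category.assoc _ _ _).trans ((congrArg (fun ψ => toSheafify _ (Q.obj M) ≫ ψ)
      (congrArg (fun ψ => ψ.hom) h1)).trans ?_)
    refine (Category.assoc _ _ _).symm.trans ((congrArg (· ≫ (Φ.inv.app N).hom) ?_).trans (Category.assoc _ _ _))
    exact ((toSheafify_naturality (Opens.grothendieckTopology T) (Q.map φ))).symm
  exact ConcreteCategory.congr_hom (NatTrans.congr_app h2 V) x

include hB U Φ in
/-- The cone of the levels becomes a limit cone. -/
theorem exists_limit_iso (F : A) (L : ℕ → A) (t : ∀ k, L (k + 1) ⟶ L k) (uF : ∀ k, F ⟶ L k)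
    (hu : ∀ k, uF (k + 1) ≫ t k = uF k)
    (hlev : ∀ k, ∀ V ∈ B, Function.Bijective ((toSheafify (Opens.grothendieckTopology T) (Q.obj (L k))).app (op V)))
    (hinj : ∀ V ∈ B, ∀ x : (Q.obj F).obj (op V), (∀ k, (Q.map (uF k)).app (op V) x = 0) → x = 0)
    (hsur : ∀ V ∈ B, ∀ s : ∀ k, (Q.obj (L k)).obj (op V),
      (∀ k, (Q.map (t k)).app (op V) (s (k + 1)) = s k) → ∃ x, ∀ k, (Q.map (uF k)).app (op V) x = s k) :
    ∃ e : R.obj F ≅ limit (Functor.ofOpSequence (X := fun k => R.obj (L k)) (fun k => R.map (t k))),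
      ∀ k : ℕ, e.hom ≫ limit.π (Functor.ofOpSequence (X := fun k => R.obj (L k)) (fun k => R.map (t k))) (op k) =
        R.map (uF k) := by
  let S := Functor.ofOpSequence (X := fun k => R.obj (L k)) (fun k => R.map (t k))
  have hS : ∀ k, S.map (homOfLE (Nat.le_succ k)).op = R.map (t k) := fun k =>
    Functor.ofOpSequence_map_homOfLE_succ _ k
  let τ : (Functor.const ℕᵒᵖ).obj (R.obj F) ⟶ S :=
    NatTrans.ofOpSequence (fun k => R.map (uF k)) fun k =>
      (Category.id_comp _).trans (((congrArg R.map (hu k)).symm.trans (R.map_comp _ _)).trans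
        (congrArg (R.map (uF (k + 1)) ≫ ·) (hS k).symm))
  let l : R.obj F ⟶ limit S := limit.lift S (Cone.mk (R.obj F) τ)
  have hl : ∀ k, l ≫ limit.π S (op k) = R.map (uF k) := fun k => limit.lift_π _ _
  have hβ : ∀ k, ∀ V ∈ B, Function.Bijective ((secMap R U Q Φ (L k)).app (op V)) := fun k V hV => by
    have h1 : Function.Bijective ((Φ.inv.app (L k)).hom.app (op V)) := by
      haveI : IsIso (Φ.inv.app (L k)).hom := inferInstanceAs (IsIso ((sheafToPresheaf _ _).map (Φ.inv.app (L k))))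
      exact ConcreteCategory.bijective_of_isIso _
    exact h1.comp (hlev k V hV)
  let c : (presheafToSheaf (Opens.grothendieckTopology T) AddCommGrpCat.{u}).obj (Q.obj F) ⟶ limit (S ⋙ U) :=
    Φ.inv.app F ≫ U.map l ≫ (preservesLimitIso U S).hom
  have hcπ : ∀ k : ℕ, c ≫ limit.π (S ⋙ U) (op k) = Φ.inv.app F ≫ U.map (R.map (uF k)) := fun k => by
    show (Φ.inv.app F ≫ U.map l ≫ (preservesLimitIso U S).hom) ≫ limit.π (S ⋙ U) (op k) = _
    rw [Category.assoc, Category.assoc, preservesLimitIso_hom_π, ← Functor.map_comp, hl]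
    rfl
  haveI : IsIso c := by
    refine isIso_of_basis_limit hB (Q.obj F) (S ⋙ U)
      (fun k => secMap R U Q Φ F ≫ (U.map (R.map (uF k))).hom) ?_ ?_ c fun k => ?_
    · intro V hV x hx
      refine hinj V hV x fun k => (hβ k V hV).1 ?_
      exact ((secMap_naturality R U Q Φ (uF k) (op V) x).symm.trans (hx k)).trans (map_zero _).symm
    · intro V hV s hs
      choose z hz using fun k => (hβ k V hV).2 (s k)
      obtain ⟨x, hx⟩ := hsur V hV z fun k => (hβ k V hV).1 (by
        rw [← secMap_naturality R U Q Φ (t k) (op V), hz, hz]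
        refine Eq.trans ?_ (hs k)
        exact congrArg (fun φ : S.obj (op (k + 1)) ⟶ S.obj (op k) => (U.map φ).hom.app (op V) (s (k + 1))) (hS k).symm)
      exact ⟨x, fun k => (secMap_naturality R U Q Φ (uF k) (op V) x).trans
        ((congrArg ((secMap R U Q Φ (L k)).app (op V)) (hx k)).trans (hz k))⟩
    · exact (congrArg (fun φ => toSheafify _ (Q.obj F) ≫ φ) (congrArg (fun φ => φ.hom) (hcπ k))).trans
        (Category.assoc _ _ _).symm
  haveI : IsIso (U.map l) := by
    have : U.map l = Φ.hom.app F ≫ c ≫ (preservesLimitIso U S).inv := by simp [c]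
    rw [this]
    infer_instance
  haveI : IsIso l := isIso_of_reflects_iso l U
  exact ⟨asIso l, hl⟩

end GrothLib.FCoh7
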