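import Groth.Agent.Lib.FCoh7.RpushLim
import Groth.Agent.Lib.FCoh7.SheafifiedLimit

/-!
# Higher direct images of a coherent module along a proper morphism of formal schemes are the limits of the levels
-/

set_option autoImplicit false
set_option linter.style.haveILetI false
set_option linter.unusedSectionVars false
set_option backward.isDefEq.respectTransparency false
universe u

open CategoryTheory CategoryTheory.Limits AlgebraicGeometry Opposite TopologicalSpace Abelian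

noncomputable section

namespace GrothLib.FCoh7

open GrothLib.SheafCoh

/-- The abelian sheaf of a higher direct image as one sheafified functor into presheaves. -/
theorem nonempty_rpushModIso' {X : TopCat.{u}} {O : Sheaf (Opens.grothendieckTopology X) CommRingCat.{u}}
    {D : Type u} [SmallCategory D] {K : GrothendieckTopology D} {O' : Sheaf K CommRingCat.{u}}
    [HasInjectiveResolutions (ModSite.Mod O)] (f : ModSite.RMor O O') (n : ℕ) :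
    Nonempty (f.Rpush n ⋙ SheafOfModules.toSheaf _ ≅
      (SheafOfModules.toSheaf _ ⋙ Sheaf.cohomologyPresheafFunctor (Opens.grothendieckTopology X) n ⋙
        (Functor.whiskeringLeft _ _ _).obj f.fn.op) ⋙ presheafToSheaf K AddCommGrpCat.{u}) := by
  obtain ⟨e⟩ := nonempty_rpushModIso f n
  exact ⟨e ≪≫ NatIso.ofComponents (fun _ => Iso.refl _) (fun _ => (Category.comp_id _).trans (Category.id_comp _).symm)⟩

variable {𝔛 𝔜 : FSch.Sys.{u}} (h𝔛 : 𝔛.IsFormal) (f : 𝔛 ⟶ 𝔜)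

/-- The cohomology presheaves of preimages, as a functor. -/
abbrev cohPreF (q : ℕ) : FSch.ModF 𝔛 h𝔛 ⥤ (Opens (𝔜.X 0).toTopCat)ᵒᵖ ⥤ AddCommGrpCat.{u} :=
  SheafOfModules.toSheaf _ ⋙ Sheaf.cohomologyPresheafFunctor (Opens.grothendieckTopology (𝔛.X 0).toTopCat) q ⋙
    (Functor.whiskeringLeft _ _ _).obj (Opens.map ((f : FSch.Hom 𝔛 𝔜).app 0).base).op

variable (h𝔜 : 𝔜.IsFormal) [HasInjectiveResolutions (FSch.ModF 𝔛 h𝔛)]

/-- The comparison of the higher direct image with the sheafified presheaf. -/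
theorem nonempty_rpushF_natIso (q : ℕ) :
    Nonempty (FSch.RpushF f h𝔛 h𝔜 q ⋙ SheafOfModules.toSheaf _ ≅
      cohPreF h𝔛 f q ⋙ presheafToSheaf (Opens.grothendieckTopology (𝔜.X 0).toTopCat) AddCommGrpCat.{u}) :=
  nonempty_rpushModIso' (FSch.homMor f h𝔛 h𝔜) q

theorem HUext_cohPreF_map {M N : FSch.ModF 𝔛 h𝔛} (φ : M ⟶ N) (q : ℕ) (V : Opens (𝔜.X 0).toTopCat)
    (x : ((cohPreF h𝔛 f q).obj M).obj (op V)) :
    HUext (ModSite.toAb N) q ((Opens.map ((f : FSch.Hom 𝔛 𝔜).app 0).base).obj V)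
        (((cohPreF h𝔛 f q).map φ).app (op V) x) =
      (HUext (ModSite.toAb M) q ((Opens.map ((f : FSch.Hom 𝔛 𝔜).app 0).base).obj V) x).comp
        (Ext.mk₀ ((SheafOfModules.toSheaf _).map φ)) (add_zero q) :=
  map_eq ((SheafOfModules.toSheaf _).map φ) q _ x

variable (𝔉 : FSch.ModF 𝔛 h𝔛) [FSch.IsCohF 𝔛 h𝔛 𝔉]

theorem ext_lim_open (hN : 𝔛.IsLocNoethFormal) (hN' : 𝔜.IsLocNoethFormal) (hf : FSch.IsProperHom f) (q : ℕ)
    {W : (𝔜.X 0).Opens} (hW : IsAffineOpen W) :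
    (∀ x : ((cohPreF h𝔛 f q).obj 𝔉).obj (op W),
      (∀ k, ((cohPreF h𝔛 f q).map ((FSch.levelMor 𝔛 h𝔛 k).adj.unit.app 𝔉)).app (op W) x = 0) → x = 0) ∧
    ∀ s : ∀ k, ((cohPreF h𝔛 f q).obj (levObj h𝔛 𝔉 k)).obj (op W),
      (∀ k, ((cohPreF h𝔛 f q).map (FSch.levelTrans 𝔛 h𝔛 𝔉 k)).app (op W) (s (k + 1)) = s k) →
      ∃ x, ∀ k, ((cohPreF h𝔛 f q).map ((FSch.levelMor 𝔛 h𝔛 k).adj.unit.app 𝔉)).app (op W) x = s k := by
  let V := (Opens.map ((f : FSch.Hom 𝔛 𝔜).app 0).base).obj W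
  obtain ⟨hi, hs⟩ := ext_lim_bijective h𝔛 𝔉 hN (Cohom.freeFun.obj V)
    (fun j => uniform_levels_open h𝔛 hN' f hf 𝔉 hW j) q
  refine ⟨fun x hx => (HUext (ModSite.toAb 𝔉) q V).injective ((hi _ fun k => ?_).trans (map_zero _).symm),
    fun s hc => ?_⟩
  · refine (HUext_cohPreF_map h𝔛 f ((FSch.levelMor 𝔛 h𝔛 k).adj.unit.app 𝔉) q W x).symm.trans ?_
    exact (congrArg (HUext (ModSite.toAb (levObj h𝔛 𝔉 k)) q V) (hx k)).trans (map_zero _)
  · obtain ⟨ξ, hξ⟩ := hs (fun k => HUext (ModSite.toAb (levObj h𝔛 𝔉 k)) q V (s k)) fun k => by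
      rw [lvTower_map_succ h𝔛 𝔉 k]
      exact (HUext_cohPreF_map h𝔛 f (FSch.levelTrans 𝔛 h𝔛 𝔉 k) q W (s (k + 1))).symm.trans
        (congrArg (HUext (ModSite.toAb (levObj h𝔛 𝔉 k)) q V) (hc k))
    refine ⟨(HUext (ModSite.toAb 𝔉) q V).symm ξ, fun k => (HUext (ModSite.toAb (levObj h𝔛 𝔉 k)) q V).injective ?_⟩
    refine (HUext_cohPreF_map h𝔛 f ((FSch.levelMor 𝔛 h𝔛 k).adj.unit.app 𝔉) q W _).trans ?_
    exact (congrArg (fun t => Ext.comp t (Ext.mk₀ (lvUnit h𝔛 𝔉 k)) (add_zero q))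
      ((HUext (ModSite.toAb 𝔉) q V).apply_symm_apply ξ)).trans (hξ k)

/-- `R^q f_*` of a coherent module is the limit of `R^q f_*` of the levels. -/
theorem exists_rpushF_limit_iso (hN : 𝔛.IsLocNoethFormal) (hN' : 𝔜.IsLocNoethFormal) (hf : FSch.IsProperHom f)
    (q : ℕ) :
    ∃ e : (FSch.RpushF f h𝔛 h𝔜 q).obj 𝔉 ≅ limit (Functor.ofOpSequence
        (X := fun k => (FSch.RpushF f h𝔛 h𝔜 q).obj (levObj h𝔛 𝔉 k))
        (fun k => (FSch.RpushF f h𝔛 h𝔜 q).map (FSch.levelTrans 𝔛 h𝔛 𝔉 k))),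
      ∀ k : ℕ, e.hom ≫ limit.π (Functor.ofOpSequence
        (X := fun k => (FSch.RpushF f h𝔛 h𝔜 q).obj (levObj h𝔛 𝔉 k))
        (fun k => (FSch.RpushF f h𝔛 h𝔜 q).map (FSch.levelTrans 𝔛 h𝔛 𝔉 k))) (op k) =
        (FSch.RpushF f h𝔛 h𝔜 q).map ((FSch.levelMor 𝔛 h𝔛 k).adj.unit.app 𝔉) := by
  obtain ⟨Φ⟩ := nonempty_rpushF_natIso h𝔛 f h𝔜 q
  haveI := preservesLimitsNatOp_toSheaf (T := (𝔜.X 0).toTopCat) (ModSite.ringSh (𝔜.Osh h𝔜))
  haveI : (SheafOfModules.toSheaf.{u} (ModSite.ringSh (𝔜.Osh h𝔜))).ReflectsIsomorphisms :=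
    reflectsIsomorphisms_of_reflectsMonomorphisms_of_reflectsEpimorphisms _
  exact exists_limit_iso (B := (𝔜.X 0).affineOpens) (𝔜.X 0).isBasis_affineOpens (FSch.RpushF f h𝔛 h𝔜 q)
    (SheafOfModules.toSheaf _) (cohPreF h𝔛 f q) Φ 𝔉 (levObj h𝔛 𝔉) (FSch.levelTrans 𝔛 h𝔛 𝔉)
    (fun k => (FSch.levelMor 𝔛 h𝔛 k).adj.unit.app 𝔉) (FSch.unit_levelTrans 𝔛 h𝔛 𝔉)
    (fun k V hV => bijective_toSheafify_cohPre h𝔛 𝔉 h𝔜 f hN hf q k hV)
    (fun V hV => (ext_lim_open h𝔛 f 𝔉 hN hN' hf q hV).1) (fun V hV => (ext_lim_open h𝔛 f 𝔉 hN hN' hf q hV).2)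

end GrothLib.FCoh7
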