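import Groth.Agent.Lib.FCoh7.PushSquare
import Groth.Agent.Lib.FCoh7.RpushFormal
import Groth.Agent.Lib.RDerLES.CompAcyclic
import Groth.Agent.Lib.Cohom.RpushSections
import Groth.Agent.Lib.Cohom.InjModule

/-!
# Higher direct images of modules living on a level
-/

set_option autoImplicit false
set_option linter.style.haveILetI false
set_option linter.unusedSectionVars false
set_option backward.isDefEq.respectTransparency false
universe u

open CategoryTheory CategoryTheory.Limits AlgebraicGeometry Opposite TopologicalSpace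

noncomputable section

namespace GrothLib.FCoh7

open GrothLib.SheafCoh

variable {𝔛 : FSch.Sys.{u}} (h𝔛 : 𝔛.IsFormal)

instance additive_levelPush (k : ℕ) : Functor.Additive (C := (𝔛.X k).Modules) (D := FSch.ModF 𝔛 h𝔛)
    (FSch.levelMor 𝔛 h𝔛 k).push where

theorem shortExact_levelPush (k : ℕ) {S : ShortComplex (𝔛.X k).Modules} (hS : S.ShortExact) :
    (S.map (FSch.levelMor 𝔛 h𝔛 k).push).ShortExact := by
  have h : ((S.map (FSch.levelMor 𝔛 h𝔛 k).push).map (SheafOfModules.toSheaf _)).ShortExact :=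
    spaceFun_shortExact (𝔛.gInv h𝔛 k) (isHomeomorph_gInv h𝔛 k) hS
  exact ShortExact.reflects_shortExact_of_faithful (SheafOfModules.toSheaf _) h

theorem exact_levelPush (k : ℕ) : PreservesFiniteLimits (FSch.levelMor 𝔛 h𝔛 k).push ∧
    PreservesFiniteColimits (FSch.levelMor 𝔛 h𝔛 k).push :=
  (((FSch.levelMor 𝔛 h𝔛 k).push.exact_tfae.out 0 3
    (a := ∀ (T : ShortComplex (𝔛.X k).Modules), T.ShortExact → (T.map (FSch.levelMor 𝔛 h𝔛 k).push).ShortExact)
    (b := PreservesFiniteLimits (FSch.levelMor 𝔛 h𝔛 k).push ∧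
      PreservesFiniteColimits (FSch.levelMor 𝔛 h𝔛 k).push)).1) fun _ hT => shortExact_levelPush h𝔛 k hT

variable {𝔜 : FSch.Sys.{u}} (f : 𝔛 ⟶ 𝔜) (h𝔜 : 𝔜.IsFormal) [HasInjectiveResolutions (FSch.ModF 𝔛 h𝔛)]

theorem isZero_rpushF_push_injective (k n : ℕ) (J : (𝔛.X k).Modules) [Injective J] :
    IsZero (((FSch.pushF f h𝔛 h𝔜).rightDerived (n + 1)).obj ((FSch.levelMor 𝔛 h𝔛 k).push.obj J)) := by
  obtain ⟨Φ⟩ := nonempty_rpushF_natIso h𝔛 f h𝔜 (n + 1)
  have hfl : TopCat.Sheaf.IsFlasque ((SheafOfModules.toSheaf _).obj ((FSch.levelMor 𝔛 h𝔛 k).push.obj J) :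
      CohTop.Ab (𝔛.X 0).toTopCat) :=
    ⟨fun i => (AddCommGrpCat.epi_iff_surjective _).2
      (@Cohom.mapSurjective_of_injective _ _ _ (𝔛.X k).ringCatSheaf _ _ J _ _ _
        ((Opens.map (𝔛.gInv h𝔛 k)).map i.unop) _)⟩
  have hP : IsZero ((cohPreF h𝔛 f (n + 1)).obj ((FSch.levelMor 𝔛 h𝔛 k).push.obj J)) :=
    Functor.isZero _ fun V => @AddCommGrpCat.isZero_of_subsingleton _
      (flasque_HU_subsingleton (X := (𝔛.X 0).toTopCat)
        ((SheafOfModules.toSheaf _).obj ((FSch.levelMor 𝔛 h𝔛 k).push.obj J)) n _)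
  have h1 := (Functor.map_isZero (presheafToSheaf (Opens.grothendieckTopology (𝔜.X 0).toTopCat) AddCommGrpCat.{u}) hP).of_iso
    (Φ.app ((FSch.levelMor 𝔛 h𝔛 k).push.obj J))
  exact (IsZero.iff_id_eq_zero _).2 ((SheafOfModules.toSheaf _).map_injective (h1.eq_of_src _ _))

/-- `R^q f_*` of a module on the `k`-th level is the `k`-th level of `R^q f_k*`. -/
theorem nonempty_rpushF_level_iso (k : ℕ) [HasInjectiveResolutions (𝔛.X k).Modules] (q : ℕ) (G : (𝔛.X k).Modules) :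
    Nonempty ((FSch.RpushF f h𝔛 h𝔜 q).obj ((FSch.levelMor 𝔛 h𝔛 k).push.obj G) ≅
      (FSch.levelMor 𝔜 h𝔜 k).push.obj ((Coh.Rpush ((f : FSch.Hom 𝔛 𝔜).app k) q).obj G)) := by
  obtain ⟨hl, hr⟩ := exact_levelPush h𝔛 k
  obtain ⟨hl', hr'⟩ := exact_levelPush h𝔜 k
  haveI : (FSch.levelMor 𝔜 h𝔜 k).push.PreservesHomology := Functor.preservesHomologyOfExact _
  haveI : IsGrothendieckAbelian.{u} (𝔛.X k).Modules :=
    SheafCoh.isGrothendieckAbelian_sheafOfModules (R := (𝔛.X k).ringCatSheaf)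
  haveI : PreservesFiniteLimits (FSch.pushF f h𝔛 h𝔜) := by
    have : PreservesLimitsOfSize.{0, 0} (FSch.pushF f h𝔛 h𝔜) :=
      (FSch.homMor f h𝔛 h𝔜).adj.rightAdjoint_preservesLimits
    exact PreservesLimitsOfSize.preservesFiniteLimits.{0, 0} _
  haveI : EnoughInjectives (FSch.ModF 𝔛 h𝔛) := inferInstance
  haveI : (Scheme.Modules.pushforward ((f : FSch.Hom 𝔛 𝔜).app k)).Additive := by
    haveI := preservesBinaryBiproducts_of_preservesBinaryProducts (Scheme.Modules.pushforward ((f : FSch.Hom 𝔛 𝔜).app k))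
    exact Functor.additive_of_preservesBinaryBiproducts _
  haveI := isIso_sqPushNat f h𝔛 h𝔜 k
  obtain ⟨e⟩ := RDerLES.nonempty_rightDerived_comp_iso (FSch.levelMor 𝔛 h𝔛 k).push (FSch.pushF f h𝔛 h𝔜)
    (fun J hJ n => isZero_rpushF_push_injective h𝔛 f h𝔜 k n J) q G
  exact ⟨e.symm ≪≫ rightDerivedPostExactIso ((FSch.levelMor 𝔛 h𝔛 k).push ⋙ FSch.pushF f h𝔛 h𝔜)
    (Scheme.Modules.pushforward ((f : FSch.Hom 𝔛 𝔜).app k)) (FSch.levelMor 𝔜 h𝔜 k).push
    (asIso (sqPushNat f h𝔛 h𝔜 k)).symm G q⟩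

end GrothLib.FCoh7
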