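import Groth.Agent.Lib.FMod7.PullIso
import Groth.Agent.Lib.FMod7.Pulls
import Groth.Agent.Lib.FormalLim7.Tower
import Groth.Agent.Lib.LimCoh25.Sheaf
import Groth.Agent.Lib.FFormal7.Sections
import Groth.Agent.Lib.SheafCoh.Leray
import Groth.Agent.Lib.Cohom.Affine
import Groth.Agent.Lib.K0Sub.KerUnit

/-!
# The tower of the levels of a coherent module on a formal scheme, as abelian sheaves
-/

set_option autoImplicit false
set_option linter.style.haveILetI false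
set_option linter.unusedSectionVars false
universe u

open CategoryTheory CategoryTheory.Limits AlgebraicGeometry Opposite TopologicalSpace Abelian

noncomputable section

namespace GrothLib.FCoh7

open GrothLib.FormalLim7

/-- Underlying sheaves of limits of systems of modules over a space. -/
theorem preservesLimitsNatOp_toSheaf {T : TopCat.{u}} (R : Sheaf (Opens.grothendieckTopology T) RingCat.{u}) :
    PreservesLimitsOfShape ℕᵒᵖ (SheafOfModules.toSheaf.{u} R) := by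
  haveI : PreservesLimitsOfShape ℕᵒᵖ (PresheafOfModules.toPresheaf.{u} R.obj) := inferInstance
  haveI : PreservesLimitsOfShape ℕᵒᵖ (SheafOfModules.toSheaf.{u} R ⋙ sheafToPresheaf _ _) :=
    show PreservesLimitsOfShape ℕᵒᵖ (SheafOfModules.forget.{u} R ⋙ PresheafOfModules.toPresheaf R.obj) from
      inferInstance
  exact preservesLimitsOfShape_of_reflects_of_preserves _ (sheafToPresheaf _ _)

variable {𝔛 : FSch.Sys.{u}} (h : 𝔛.IsFormal) (𝔉 : FSch.ModF 𝔛 h)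

/-- The underlying tower of the levels. -/
abbrev lvTower : ℕᵒᵖ ⥤ CohTop.Ab (𝔛.X 0).toTopCat :=
  FSch.levelSysOf 𝔛 h (FMod7.pullSys h 𝔉).F (FMod7.pullSys h 𝔉).toPush ⋙ SheafOfModules.toSheaf _

/-- The classes of the levels. -/
abbrev lvUnit (k : ℕ) : ModSite.toAb 𝔉 ⟶ (lvTower h 𝔉).obj (op k) :=
  (SheafOfModules.toSheaf _).map ((FSch.levelMor 𝔛 h k).adj.unit.app 𝔉)

theorem lvUnit_map (k : ℕ) :
    lvUnit h 𝔉 (k + 1) ≫ (lvTower h 𝔉).map (homOfLE (Nat.le_succ k)).op = lvUnit h 𝔉 k := by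
  refine ((SheafOfModules.toSheaf _).map_comp _ _).symm.trans (congrArg (SheafOfModules.toSheaf _).map ?_)
  exact (congrArg (_ ≫ ·) (FSch.levelSysOf_map_succ 𝔛 h _ _ k)).trans (FMod7.unit_toPush h 𝔉 k)

theorem exists_limIso (hN : 𝔛.IsLocNoethFormal) [FSch.IsCohF 𝔛 h 𝔉] :
    ∃ c : ModSite.toAb 𝔉 ≅ limit (lvTower h 𝔉), ∀ k, c.hom ≫ limit.π (lvTower h 𝔉) (op k) = lvUnit h 𝔉 k := by
  haveI := FMod7.isIso_toReal (F := 𝔉) hN
  haveI := preservesLimitsNatOp_toSheaf (T := (𝔛.X 0).toTopCat) (ModSite.ringSh (𝔛.Osh h))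
  haveI : PreservesLimit (FSch.levelSysOf 𝔛 h (FMod7.pullSys h 𝔉).F (FMod7.pullSys h 𝔉).toPush)
      (SheafOfModules.toSheaf.{u} (ModSite.ringSh (𝔛.Osh h))) :=
    (preservesLimitsNatOp_toSheaf (T := (𝔛.X 0).toTopCat) (ModSite.ringSh (𝔛.Osh h))).preservesLimit
  refine ⟨(SheafOfModules.toSheaf _).mapIso (asIso (FMod7.toReal h 𝔉)) ≪≫ preservesLimitIso (SheafOfModules.toSheaf _)
    (FSch.levelSysOf 𝔛 h (FMod7.pullSys h 𝔉).F (FMod7.pullSys h 𝔉).toPush), fun k => ?_⟩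
  refine (Category.assoc _ _ _).trans ((congrArg (_ ≫ ·) (preservesLimitIso_hom_π _ _ (op k))).trans ?_)
  exact ((SheafOfModules.toSheaf _).map_comp _ _).symm.trans
    (congrArg (SheafOfModules.toSheaf _).map (FMod7.toReal_realProj h 𝔉 k))

theorem toPush_surjective [hC : ∀ k, IsClosedImmersion (𝔛.ι k)] (𝔐 : FSch.ModSys 𝔛) (h𝔐 : 𝔐.IsCoh) (k : ℕ)
    (U : (𝔛.X (k + 1)).affineOpens) : Function.Surjective ((𝔐.toPush k).app U.1) := by
  haveI := (h𝔐 (k + 1)).1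
  intro z
  obtain ⟨m, hm⟩ := (K0Sub.app_unit_surjective_and_ker (𝔛.ι k) (𝔐.F (k + 1)) U).1
    ((𝔐.e k).inv.app (𝔛.ι k ⁻¹ᵁ U.1) z)
  refine ⟨m, ?_⟩
  rw [FSch.ModSys.toPush, Adjunction.homEquiv_unit]
  refine (congrArg ((𝔐.e k).hom.app (𝔛.ι k ⁻¹ᵁ U.1)) hm).trans ?_
  exact congrArg (fun φ : 𝔐.F k ⟶ 𝔐.F k => φ.app (𝔛.ι k ⁻¹ᵁ U.1) z) (𝔐.e k).inv_hom_id

theorem lvTower_surjective [FSch.IsCohF 𝔛 h 𝔉] {V : (𝔛.X 0).Opens} (hV : IsAffineOpen V) (k : ℕ) :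
    Function.Surjective (((lvTower h 𝔉).map (homOfLE (Nat.le_succ k)).op).hom.app (op V)) := by
  intro y
  haveI : ∀ k, IsClosedImmersion (𝔛.ι k) := fun k => (h k).1
  let le := 𝔛.lvU_le h k V
  let G := (FMod7.pullSys h 𝔉).F k
  have he : (Opens.map (𝔛.gInv h k)).obj V = 𝔛.ι k ⁻¹ᵁ 𝔛.lvU h (k + 1) V := (𝔛.lvU_succ h k V).symm
  obtain ⟨m, hm⟩ := toPush_surjective (FMod7.pullSys h 𝔉) FMod7.isCoh_pullSys k
    ⟨_, FFormal7.isAffineOpen_lvU 𝔛 h hV (k + 1)⟩ (G.presheaf.map (homOfLE he.ge).op y)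
  refine ⟨m, (FMod7.levelSysOf_map_app h V _ _ k m).trans ?_⟩
  refine (congrArg (G.presheaf.map (homOfLE le).op) hm).trans ?_
  exact (ConcreteCategory.congr_hom (G.presheaf.map_comp (homOfLE he.ge).op (homOfLE le).op) y).symm.trans
    (ConcreteCategory.congr_hom (G.presheaf.map_id _) y)

theorem acycOn_push {Z : Scheme.{u}} {T : TopCat.{u}} (g : Z.toTopCat ⟶ T) (hg : Topology.IsClosedEmbedding g)
    (B : Set (Opens T)) (hB : ∀ V ∈ B, IsAffineOpen ((Opens.map g).obj V)) (M : Z.Modules) [M.IsQuasicoherent] :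
    LimCoh25.AcycOn B ((CohTop.push g).obj (Coh.toAb M)) := by
  refine LimCoh25.acycOn_of_HU B _ fun V hV i hi => ?_
  obtain ⟨i, rfl⟩ := Nat.exists_eq_succ_of_ne_zero hi.ne'
  have : PreservesFiniteLimits (CohSite.push (Opens.grothendieckTopology Z.toTopCat)
      (Opens.grothendieckTopology T) (Opens.map g)) :=
    have := (TopCat.Sheaf.pullbackPushforwardAdjunction AddCommGrpCat.{u} g).rightAdjoint_preservesLimits
      (F := CohTop.pull g) (G := CohTop.push g)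
    inferInstanceAs (PreservesFiniteLimits (CohTop.push g))
  let e := SheafCoh.cohomologyPresheafPushIso (J := Opens.grothendieckTopology Z.toTopCat)
    (Opens.grothendieckTopology T) (Opens.map g) (fun I _ => SheafCoh.injective_push g I) (Coh.toAb M)
    (fun q => SheafCoh.isZero_Rpush_of_isClosedEmbedding g hg (Coh.toAb M) q) (i + 1)
  exact @Equiv.subsingleton _ _ ((e.app (op V)).addCommGroupIsoToAddEquiv.toEquiv)
    (Cohom.subsingleton_H'_of_isAffineOpen (hB V hV) M i)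

/-- The Milnor sequence of the tower of the levels. -/
theorem lv_tower (hN : 𝔛.IsLocNoethFormal) [FSch.IsCohF 𝔛 h 𝔉] (P : CohTop.Ab (𝔛.X 0).toTopCat) (i j : ℕ)
    (hij : j + 1 = i) :
    (∀ ξ : ∀ n : ℕ, extLev.{u} (lvTower h 𝔉) P i n, (∀ n, extMap (lvTower h 𝔉) P i n (ξ (n + 1)) = ξ n) →
        ∃ η : Ext.{u} P (ModSite.toAb 𝔉) i, ∀ n, η.comp (Ext.mk₀ (lvUnit h 𝔉 n)) (add_zero i) = ξ n) ∧
    ∃ α : Formal2.limOne (extLev.{u} (lvTower h 𝔉) P j) (extMap (lvTower h 𝔉) P j) →+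
        Ext.{u} P (ModSite.toAb 𝔉) i,
      Function.Injective α ∧ ∀ η, η ∈ α.range ↔ ∀ n, η.comp (Ext.mk₀ (lvUnit h 𝔉 n)) (add_zero i) = 0 := by
  obtain ⟨c, hc⟩ := exists_limIso h 𝔉 hN
  refine tower_iso (LimCoh25.epi_diff (X := (𝔛.X 0).toTopCat) _ (𝔛.X 0).affineOpens (𝔛.X 0).isBasis_affineOpens
    fun V hV k => lvTower_surjective h 𝔉 hV k) (fun i => LimCoh25.bijective_pi_acycOn (X := (𝔛.X 0).toTopCat)
      (𝔛.X 0).affineOpens (𝔛.X 0).isBasis_affineOpens P i _ fun k => ?_) c hc i j hij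
  haveI := (FMod7.isCoh_pullSys (F := 𝔉) k).1
  exact acycOn_push (Z := 𝔛.X k) (T := (𝔛.X 0).toTopCat) (𝔛.gInv h k)
    (TopCat.homeoOfIso (asIso (𝔛.gInv h k))).isClosedEmbedding _ (fun V hV => FFormal7.isAffineOpen_lvU 𝔛 h hV k)
    ((FMod7.pullSys h 𝔉).F k)

end GrothLib.FCoh7
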