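import Groth.Agent.Lib.UnifVanish7.GradedModule
import Groth.Agent.Lib.AdicLim.Basic
import Mathlib.RingTheory.Noetherian.Basic

/-!
# Finiteness and topology of the limit of a tower with a generated graded family of successive kernels

If the kernels of the transition maps of a tower are images of a generated graded family of finite modules, the limit
is a finite module and its filtration by the kernels of the projections is cofinal with the adic one.
-/

set_option autoImplicit false
universe u v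

namespace GrothLib.FCoh7

open GrothLib.AdicLim

variable {A : Type u} [CommRing A] {J : Ideal A} {r : ℕ} (a : Fin r → A)
  {M : ℕ → Type v} [∀ k, AddCommGroup (M k)] [∀ k, Module A (M k)]
  (T : ∀ k, M (k + 1) →ₗ[A] M k)
  {L : Type v} [AddCommGroup L] [Module A L] (p : ∀ k, L →ₗ[A] M k)
  {N : ℕ → Type v} [∀ k, AddCommGroup (N k)] [∀ k, Module A (N k)]
  (ι : ∀ k, N k →ₗ[A] M (k + 1)) (t : Fin r → ∀ k, N k →ₗ[A] N (k + 1))
  (haJ : Submodule.span A (Set.range a) = J)
  (hp : ∀ k x, T k (p (k + 1) x) = p k x) (hsep : ∀ x, (∀ k, p k x = 0) → x = 0)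
  (hex : ∀ k w, T k w = 0 → ∃ z, ι k z = w) (hTι : ∀ k z, T k (ι k z) = 0)
  (hstep : ∀ j k (w : M (k + 2)) (z : N k), T (k + 1) w = ι k z → a j • w = ι (k + 1) (t j k z))
  (hkill : ∀ j k (w : M (k + 1)), T k w = 0 → a j • w = 0) (hzero : ∀ j (w : M 0), a j • w = 0)
  (hcomm : ∀ i j k, (t j (k + 1)).comp (t i k) = (t i (k + 1)).comp (t j k))
  (d : ℕ) (hgen : ∀ k, d ≤ k → ⨆ j, LinearMap.range (t j k) = ⊤)

include haJ hp hkill in
theorem ker_antitone_smul : (∀ {m n : ℕ}, m ≤ n → LinearMap.ker (p n) ≤ LinearMap.ker (p m)) ∧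
    ∀ (k n : ℕ), J ^ n • LinearMap.ker (p k) ≤ LinearMap.ker (p (k + n)) := by
  have h1 : ∀ {m n : ℕ}, m ≤ n → LinearMap.ker (p n) ≤ LinearMap.ker (p m) := by
    intro m n h
    induction h with
    | refl => exact le_rfl
    | @step n _ ih =>
      refine le_trans (fun x hx => ?_) ih
      rw [LinearMap.mem_ker] at hx ⊢
      rw [← hp n x, hx, map_zero]
  have h2 : ∀ k, J • LinearMap.ker (p k) ≤ LinearMap.ker (p (k + 1)) := fun k => by
    refine Submodule.smul_le.2 fun b hb x hx => ?_
    rw [LinearMap.mem_ker, map_smul]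
    rw [← haJ] at hb
    obtain ⟨c, rfl⟩ := (Submodule.mem_span_range_iff_exists_fun A).1 hb
    have h0 : T k (p (k + 1) x) = 0 := (hp k x).trans hx
    simp [Finset.sum_smul, smul_eq_mul, mul_smul, hkill _ k _ h0]
  refine ⟨h1, fun k n => ?_⟩
  induction n with
  | zero => simp
  | succ n ih =>
    rw [pow_succ', Submodule.mul_smul]
    exact (Submodule.smul_mono le_rfl ih).trans (h2 (k + n))

variable [IsNoetherianRing A] [∀ k, Module.Finite A (N k)]

include hp hex hTι hstep hcomm hgen in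
/-- In high degrees an element of the kernel of a projection is a combination of elements of the previous kernel,
up to the next kernel. -/
theorem exists_kernel_step : ∃ D : ℕ, ∀ k, D ≤ k → ∀ x ∈ LinearMap.ker (p (k + 1)),
    ∃ y : Fin r → L, (∀ j, y j ∈ LinearMap.ker (p k)) ∧ x - ∑ j, a j • y j ∈ LinearMap.ker (p (k + 2)) := by
  let S : ∀ k, Submodule A (N k) := fun k => (LinearMap.range (p (k + 1))).comap (ι k)
  have hS : ∀ j k, (S k).map (t j k) ≤ S (k + 1) := by
    rintro j k _ ⟨z, ⟨x, hx⟩, rfl⟩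
    exact ⟨a j • x, (map_smul (p (k + 2)) (a j) x).trans (hstep j k (p (k + 2) x) z ((hp (k + 1) x).trans hx))⟩
  obtain ⟨D, hD⟩ := UnifVanish7.exists_subfamily_generated N t hcomm d hgen S hS
  refine ⟨D, fun k hk x hx => ?_⟩
  obtain ⟨z, hz⟩ := hex (k + 1) (p (k + 2) x) ((hp (k + 1) x).trans hx)
  have hzS : z ∈ ⨆ j, (S k).map (t j k) := hD k hk ⟨x, hz.symm⟩
  suffices H : ∀ z ∈ ⨆ j, (S k).map (t j k), ∃ y : Fin r → L, (∀ j, y j ∈ LinearMap.ker (p k)) ∧
      p (k + 2) (∑ j, a j • y j) = ι (k + 1) z by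
    obtain ⟨y, hy, hyz⟩ := H z hzS
    exact ⟨y, hy, by rw [LinearMap.mem_ker, map_sub, hyz, hz, sub_self]⟩
  intro z hz
  refine Submodule.iSup_induction _ (motive := fun z => ∃ y : Fin r → L, (∀ j, y j ∈ LinearMap.ker (p k)) ∧
      p (k + 2) (∑ j, a j • y j) = ι (k + 1) z) hz ?_ ⟨0, fun j => zero_mem _, by simp⟩ ?_
  · rintro i _ ⟨z, ⟨x, hx⟩, rfl⟩
    refine ⟨Pi.single i x, fun j => ?_, ?_⟩
    · rcases eq_or_ne j i with rfl | h
      · rw [Pi.single_eq_same, LinearMap.mem_ker, ← hp k x, hx, hTι]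
      · rw [Pi.single_eq_of_ne h]; exact zero_mem _
    · rw [Finset.sum_eq_single i (fun j _ h => by rw [Pi.single_eq_of_ne h, smul_zero])
        (fun h => absurd (Finset.mem_univ i) h), Pi.single_eq_same, map_smul]
      exact hstep i k (p (k + 2) x) z ((hp (k + 1) x).trans hx)
  · rintro z z' ⟨y, hy, hyz⟩ ⟨y', hy', hyz'⟩
    refine ⟨y + y', fun j => add_mem (hy j) (hy' j), ?_⟩
    simp [smul_add, Finset.sum_add_distrib, map_add, ← hyz, ← hyz']

variable [IsPrecomplete J A] [Module.Finite A (M 0)]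

include haJ hp hsep hex hTι hstep hkill hzero hcomm hgen in
/-- The limit is finite, and kernels of projections lie in high multiples of the ideal. -/
theorem finite_and_topology : Module.Finite A L ∧
    ∃ c : ℕ, ∀ n : ℕ, LinearMap.ker (p (c + n)) ≤ J ^ n • (⊤ : Submodule A L) := by
  classical
  obtain ⟨hanti, hsmul⟩ := ker_antitone_smul a T p haJ hp hkill
  obtain ⟨D, hD⟩ := exists_kernel_step a T p ι t hp hex hTι hstep hcomm d hgen
  have hfin : ∀ k, Module.Finite A (M k) := fun k => by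
    induction k with
    | zero => infer_instance
    | succ k ih =>
      have hker : (LinearMap.ker (T k)).FG := by
        have he : LinearMap.ker (T k) = LinearMap.range (ι k) :=
          le_antisymm (fun w hw => hex k w hw) (by rintro _ ⟨z, rfl⟩; exact hTι k z)
        rw [he, LinearMap.range_eq_map]
        exact Module.Finite.fg_top.map _
      have hmap : ((⊤ : Submodule A (M (k + 1))).map (T k)).FG := IsNoetherian.noetherian _
      exact ⟨Submodule.fg_of_fg_map_of_fg_inf_ker (T k) hmap (by rwa [top_inf_eq])⟩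
  obtain ⟨n₀, g₀, hg₀⟩ := Submodule.fg_iff_exists_fin_generating_family.1
    (IsNoetherian.noetherian (LinearMap.range (p (D + 1))))
  obtain ⟨n₁, g₁, hg₁⟩ := Submodule.fg_iff_exists_fin_generating_family.1
    (IsNoetherian.noetherian ((LinearMap.ker (p D)).map (p (D + 1))))
  have h₀ : ∀ i, ∃ x : L, p (D + 1) x = g₀ i := fun i => hg₀.le (Submodule.subset_span ⟨i, rfl⟩)
  choose x₀ hx₀ using h₀
  have h₁ : ∀ i, ∃ x : L, x ∈ LinearMap.ker (p D) ∧ p (D + 1) x = g₁ i := fun i =>
    hg₁.le (Submodule.subset_span ⟨i, rfl⟩)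
  choose x₁ hx₁ using h₁
  -- every element of the kernel in degree `D` is a combination of the second family up to the next kernel
  have hbase : ∀ x ∈ LinearMap.ker (p D), ∃ c : Fin n₁ → A,
      x - ∑ i, c i • x₁ i ∈ LinearMap.ker (p (D + 1)) := fun x hx => by
    obtain ⟨c, hc⟩ := (Submodule.mem_span_range_iff_exists_fun A).1 (hg₁.ge ⟨x, hx, rfl⟩)
    exact ⟨c, by simp [LinearMap.mem_ker, map_sub, map_sum, map_smul, hx₁, hc]⟩
  have hstep' : ∀ n, ∀ x ∈ LinearMap.ker (p (D + n)),
      x ∈ J ^ n • Submodule.span A (Set.range x₁) ⊔ LinearMap.ker (p (D + n + 1)) := by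
    intro n
    induction n with
    | zero =>
      intro x hx
      obtain ⟨c, hc⟩ := hbase x hx
      refine Submodule.mem_sup.2 ⟨∑ i, c i • x₁ i, ?_, _, hc, add_sub_cancel _ _⟩
      simp only [pow_zero, Ideal.one_eq_top, Submodule.top_smul]
      exact Submodule.sum_mem _ fun i _ => Submodule.smul_mem _ _ (Submodule.subset_span ⟨i, rfl⟩)
    | succ n ih =>
      intro x hx
      obtain ⟨y, hy, hxy⟩ := hD (D + n) (Nat.le_add_right D n) x hx
      rw [show x = ∑ j, a j • y j + (x - ∑ j, a j • y j) by rw [add_sub_cancel]]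
      refine add_mem (Submodule.sum_mem _ fun j _ => ?_) (Submodule.mem_sup_right hxy)
      have haj : a j ∈ J := haJ ▸ Submodule.subset_span ⟨j, rfl⟩
      have hle : J • (J ^ n • Submodule.span A (Set.range x₁) ⊔ LinearMap.ker (p (D + n + 1))) ≤
          J ^ (n + 1) • Submodule.span A (Set.range x₁) ⊔ LinearMap.ker (p (D + n + 1 + 1)) := by
        rw [Submodule.smul_sup]
        refine sup_le_sup ?_ (by simpa using hsmul (D + n + 1) 1)
        rw [pow_succ', Submodule.mul_smul]
      exact hle (Submodule.smul_mem_smul haj (ih (y j) (hy j)))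
  -- successive approximation
  let H : ℕ → Submodule A L := fun n => Nat.casesOn n ⊤ fun n => LinearMap.ker (p n)
  have hHle : ∀ n m, n ≤ m + 1 → LinearMap.ker (p m) ≤ H n := by
    intro n m h
    cases n with
    | zero => exact le_top
    | succ n => exact hanti (by omega)
  have hJH : ∀ n, J ^ n • (⊤ : Submodule A L) ≤ H n := by
    intro n
    cases n with
    | zero => exact le_top
    | succ n =>
      show J ^ (n + 1) • (⊤ : Submodule A L) ≤ LinearMap.ker (p n)
      have h0 : J • (⊤ : Submodule A L) ≤ LinearMap.ker (p 0) := Submodule.smul_le.2 fun b hb x _ => by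
        rw [LinearMap.mem_ker, map_smul]
        rw [← haJ] at hb
        obtain ⟨c, rfl⟩ := (Submodule.mem_span_range_iff_exists_fun A).1 hb
        simp [Finset.sum_smul, smul_eq_mul, mul_smul, hzero]
      rw [pow_succ, Submodule.mul_smul]
      exact (Submodule.smul_mono le_rfl h0).trans ((hsmul 0 n).trans (hanti (by omega)))
  have hH : ⨅ n, H n = ⊥ := by
    rw [eq_bot_iff]
    intro x hx
    exact hsep x fun k => (Submodule.mem_iInf _).1 hx (k + 1)
  have key : ∀ m, ∀ x ∈ LinearMap.ker (p (D + m)),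
      ∃ c : Fin n₁ → A, (∀ i, c i ∈ J ^ m) ∧ x = ∑ i, c i • x₁ i := by
    intro m x hx
    refine exists_coeff_of_step x₁ m (fun n y => y ∈ LinearMap.ker (p (D + m + n))) H
      (fun n y hy => hHle n (D + m + n) (by omega) hy) hJH hH (fun n y hy => ?_) hx
    rw [show D + m + n = D + (m + n) from Nat.add_assoc _ _ _] at hy
    obtain ⟨u, hu, v, hv, rfl⟩ := Submodule.mem_sup.1 (hstep' (m + n) y hy)
    rw [Submodule.mem_ideal_smul_span_iff_exists_sum] at hu
    obtain ⟨c, hc, hcu⟩ := hu
    refine ⟨c, fun i => by rw [Nat.add_comm n m]; exact hc i, ?_⟩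
    have hs : ∑ i, c i • x₁ i = u := (Finsupp.sum_fintype c _ fun i => zero_smul A (x₁ i)).symm.trans hcu
    rw [hs, add_sub_cancel_left]
    rwa [show D + (m + n) + 1 = D + m + (n + 1) by omega] at hv
  refine ⟨⟨Submodule.fg_iff_exists_fin_generating_family.2
    ⟨n₀ + n₁, Fin.append x₀ x₁, eq_top_iff.2 fun x _ => ?_⟩⟩, D, fun n x hx => ?_⟩
  · obtain ⟨c, hc⟩ := (Submodule.mem_span_range_iff_exists_fun A).1 (hg₀.ge ⟨x, rfl⟩)
    have hx0 : x - ∑ i, c i • x₀ i ∈ LinearMap.ker (p (D + 1)) := by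
      simp [LinearMap.mem_ker, map_sub, map_sum, map_smul, hx₀, hc]
    obtain ⟨e, -, he⟩ := key 1 _ hx0
    rw [show x = ∑ i, c i • x₀ i + ∑ i, e i • x₁ i by rw [← he, add_sub_cancel]]
    refine add_mem (Submodule.sum_mem _ fun i _ => Submodule.smul_mem _ _ (Submodule.subset_span ?_))
      (Submodule.sum_mem _ fun i _ => Submodule.smul_mem _ _ (Submodule.subset_span ?_))
    · exact ⟨Fin.castAdd n₁ i, Fin.append_left x₀ x₁ i⟩
    · exact ⟨Fin.natAdd n₀ i, Fin.append_right x₀ x₁ i⟩
  · obtain ⟨e, he, rfl⟩ := key n x hx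
    exact Submodule.sum_mem _ fun i _ => Submodule.smul_mem_smul (he i) Submodule.mem_top

end GrothLib.FCoh7
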