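import Groth.Agent.Lib.AdicLim.Basic
import Mathlib.RingTheory.Filtration
import Mathlib.RingTheory.AdicCompletion.Algebra

/-!
# Generators and relations of a completed localisation

If a finite module over a complete ring has the adic topology for the kernels of the projections to its levels, and the
levels of a second module are localisations of the images of the levels, the generators generate the second module
and their relations generate the relations there.
-/

set_option autoImplicit false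
universe u v

namespace GrothLib.FCoh7

open GrothLib.AdicLim

variable {B B' : Type u} [CommRing B] [CommRing B'] (ρ : B →+* B') {I : Ideal B} {I' : Ideal B'} (g : B)
  (hg : IsUnit (ρ g)) (hρI : I.map ρ ≤ I')
  {M M' : Type v} [AddCommGroup M] [Module B M] [AddCommGroup M'] [Module B' M'] (res : M →+ M')
  (hres : ∀ (b : B) x, res (b • x) = ρ b • res x)
  {L L' : ℕ → Type v} [∀ k, AddCommGroup (L k)] [∀ k, Module B (L k)] [∀ k, AddCommGroup (L' k)]
  [∀ k, Module B' (L' k)] (p : ∀ k, M →ₗ[B] L k) (p' : ∀ k, M' →ₗ[B'] L' k)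
  (hlift : ∀ k y, ∃ (N : ℕ) (x : M), p' k (res x) = ρ g ^ N • p' k y)
  (hkill : ∀ k x, p' k (res x) = 0 → ∃ N : ℕ, p k (g ^ N • x) = 0)
  (c : ℕ) (htop : ∀ n, LinearMap.ker (p (c + n)) ≤ I ^ n • (⊤ : Submodule B M))
  {ι : Type} [Fintype ι] (m : ι → M) (hm : Submodule.span B (Set.range m) = ⊤)

include hres hρI hm in
theorem exists_coeff_res {n : ℕ} {x : M} (hx : x ∈ I ^ n • (⊤ : Submodule B M)) :
    ∃ a : ι → B', (∀ i, a i ∈ I' ^ n) ∧ res x = ∑ i, a i • res (m i) := by
  rw [← hm, Submodule.mem_ideal_smul_span_iff_exists_sum] at hx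
  obtain ⟨a, ha, rfl⟩ := hx
  refine ⟨fun i => ρ (a i), fun i => ?_, ?_⟩
  · refine Ideal.pow_right_mono hρI n ?_
    rw [← Ideal.map_pow]
    exact Ideal.mem_map_of_mem ρ (ha i)
  · rw [Finsupp.sum_fintype a _ fun i => zero_smul B (m i), map_sum]
    exact Finset.sum_congr rfl fun i _ => hres _ _

variable [IsAdicComplete I' B']
  (hT' : ∀ k x, p' (k + 1) x = 0 → p' k x = 0) (hsep' : ∀ y, (∀ k, p' k y = 0) → y = 0)
  (hsmul' : ∀ (n : ℕ) (a : B') y, a ∈ I' ^ (n + 1) → p' n (a • y) = 0)

include hg hres hρI hlift hkill htop hm hT' hsep' hsmul' in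
/-- The generators generate. -/
theorem span_res_eq_top : Submodule.span B' (Set.range fun i => res (m i)) = ⊤ := by
  classical
  let v := fun i => res (m i)
  -- lifting into the span at a level
  have hcoef : ∀ (k n : ℕ) (y : M'), (∀ N x, p' k (res x) = ρ g ^ N • p' k y → ∃ N', g ^ N' • x ∈ I ^ n • (⊤ : Submodule B M)) →
      ∃ a : ι → B', (∀ i, a i ∈ I' ^ n) ∧ p' k (y - ∑ i, a i • v i) = 0 := fun k n y hy => by
    obtain ⟨N, x, hx⟩ := hlift k y
    obtain ⟨N', hN'⟩ := hy N x hx
    obtain ⟨a, ha, hax⟩ := exists_coeff_res ρ hρI res hres m hm hN'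
    obtain ⟨u, hu⟩ := (hg.pow (N' + N))
    refine ⟨fun i => (↑u⁻¹ : B') * a i, fun i => Ideal.mul_mem_left _ _ (ha i), ?_⟩
    have h1 : ∑ i, ((↑u⁻¹ : B') * a i) • v i = (↑u⁻¹ : B') • res (g ^ N' • x) := by
      rw [hax, Finset.smul_sum]
      exact Finset.sum_congr rfl fun i _ => mul_smul _ _ _
    rw [h1, hres, map_sub, map_smul, map_smul, hx, map_pow, ← mul_smul (ρ g ^ N'), ← pow_add, ← hu, ← mul_smul,
      Units.inv_mul, one_smul, sub_self]
  have hanti : ∀ {j k : ℕ}, j ≤ k → ∀ y, p' k y = 0 → p' j y = 0 := by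
    intro j k h
    induction h with
    | refl => exact fun y hy => hy
    | @step k _ ih => exact fun y hy => ih y (hT' k y hy)
  refine eq_top_iff.2 fun y _ => ?_
  obtain ⟨a₀, -, ha₀⟩ := hcoef c 0 y fun N x _ => ⟨0, by
    rw [pow_zero I, Ideal.one_eq_top, Submodule.top_smul]; trivial⟩
  let H : ℕ → Submodule B' M' := fun n => Nat.casesOn n ⊤ fun n => LinearMap.ker (p' n)
  obtain ⟨a, -, ha⟩ := exists_coeff_of_step v 0 (fun n z => p' (c + n) z = 0) H
    (fun n z hz => by
      cases n with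
      | zero => trivial
      | succ n => exact hanti (by omega) z hz)
    (fun n => by
      cases n with
      | zero => exact le_top
      | succ n => exact Submodule.smul_le.2 fun a ha z _ => hsmul' n a z ha)
    (by
      rw [eq_bot_iff]
      exact fun z hz => hsep' z fun k => (Submodule.mem_iInf _).1 hz (k + 1))
    (fun n z hz => hcoef (c + (n + 1)) (n + 0) z fun N x hx => by
      have h0 : p' (c + n) (res x - ρ g ^ N • z) = 0 :=
        hanti (show c + n ≤ c + (n + 1) by omega) _ (by rw [map_sub, map_smul, hx, sub_self])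
      rw [map_sub, map_smul, hz, smul_zero, sub_zero] at h0
      obtain ⟨N', hN'⟩ := hkill _ x h0
      exact ⟨N', htop n hN'⟩)
    (x := y - ∑ i, a₀ i • v i) ha₀
  rw [show y = ∑ i, a₀ i • v i + ∑ i, a i • v i by rw [← ha, add_sub_cancel]]
  exact add_mem (Submodule.sum_mem _ fun i _ => Submodule.smul_mem _ _ (Submodule.subset_span ⟨i, rfl⟩))
    (Submodule.sum_mem _ fun i _ => Submodule.smul_mem _ _ (Submodule.subset_span ⟨i, rfl⟩))

variable [IsNoetherianRing B'] (happrox : ∀ K (a : B'), ∃ (N : ℕ) (b : B), ρ g ^ N * a - ρ b ∈ I' ^ (K + 1))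

include hg hres hρI hkill htop hm hsmul' happrox in
/-- The relations generate. -/
theorem relations_res (y : ι → B') (hy : ∑ i, y i • res (m i) = 0) :
    y ∈ Submodule.span B' ((fun b : ι → B => fun i => ρ (b i)) '' {b | ∑ i, b i • m i = 0}) := by
  classical
  set T := Submodule.span B' ((fun b : ι → B => fun i => ρ (b i)) '' {b | ∑ i, b i • m i = 0})
  suffices key : ∀ n, y ∈ T ⊔ I' ^ n • (⊤ : Submodule B' (ι → B')) by
    have hb := Ideal.iInf_pow_smul_eq_bot_of_le_jacobson I' (M := (ι → B') ⧸ T)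
      (IsAdicComplete.le_jacobson_bot I')
    have : T.mkQ y ∈ (⨅ n : ℕ, I' ^ n • ⊤ : Submodule B' ((ι → B') ⧸ T)) := by
      refine Submodule.mem_iInf _ |>.2 fun n => ?_
      obtain ⟨s, hs, z, hz, rfl⟩ := Submodule.mem_sup.1 (key n)
      rw [map_add, show T.mkQ s = 0 from (Submodule.Quotient.mk_eq_zero T).2 hs, zero_add]
      have := Submodule.mem_map_of_mem (f := T.mkQ) hz
      rw [Submodule.map_smul''] at this
      exact Submodule.smul_mono le_rfl le_top this
    rw [hb] at this
    exact (Submodule.Quotient.mk_eq_zero T).1 this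
  intro n
  -- membership in the ideal multiples of the free module is componentwise
  have hpi : ∀ z : ι → B', (∀ i, z i ∈ I' ^ n) → z ∈ I' ^ n • (⊤ : Submodule B' (ι → B')) := fun z hz => by
    rw [pi_eq_sum_univ z]
    exact Submodule.sum_mem _ fun i _ => Submodule.smul_mem_smul (hz i) trivial
  choose N b hb using fun i => happrox (c + n) (y i)
  let N₀ := Finset.univ.sup N
  let b' : ι → B := fun i => g ^ (N₀ - N i) * b i
  have hb' : ∀ i, ρ g ^ N₀ * y i - ρ (b' i) ∈ I' ^ (c + n + 1) := fun i => by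
    have : ρ g ^ N₀ * y i - ρ (b' i) = ρ g ^ (N₀ - N i) * (ρ g ^ N i * y i - ρ (b i)) := by
      rw [mul_sub, ← mul_assoc, ← pow_add, Nat.sub_add_cancel (Finset.le_sup (Finset.mem_univ i)), map_mul, map_pow]
    rw [this]
    exact Ideal.mul_mem_left _ _ (hb i)
  let x := ∑ i, b' i • m i
  have hx : p' (c + n) (res x) = 0 := by
    have h1 : res x = ρ g ^ N₀ • (∑ i, y i • res (m i)) - ∑ i, (ρ g ^ N₀ * y i - ρ (b' i)) • res (m i) := by
      simp only [x, map_sum, hres, Finset.smul_sum, ← Finset.sum_sub_distrib, sub_smul, mul_smul]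
      exact Finset.sum_congr rfl fun i _ => by rw [sub_sub_cancel]
    rw [h1, hy, smul_zero, zero_sub, map_neg, map_sum,
      Finset.sum_eq_zero fun i _ => hsmul' _ _ _ (hb' i), neg_zero]
  obtain ⟨N', hN'⟩ := hkill _ x hx
  have hmem := htop n hN'
  rw [← hm, Submodule.mem_ideal_smul_span_iff_exists_sum] at hmem
  obtain ⟨β, hβ, hβx⟩ := hmem
  have hrel : (fun i => ρ (g ^ N' * b' i - β i)) ∈ T := by
    refine Submodule.subset_span ⟨fun i => g ^ N' * b' i - β i, ?_, rfl⟩
    show ∑ i, (g ^ N' * b' i - β i) • m i = 0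
    simp only [sub_smul, mul_smul, Finset.sum_sub_distrib, ← Finset.smul_sum]
    rw [sub_eq_zero]
    exact hβx.symm.trans (Finsupp.sum_fintype β _ fun i => zero_smul B (m i))
  obtain ⟨u, hu⟩ := hg.pow (N' + N₀)
  have hz : (fun i => ρ g ^ (N' + N₀) * y i - ρ (g ^ N' * b' i - β i)) ∈ I' ^ n • (⊤ : Submodule B' (ι → B')) := by
    refine hpi _ fun i => ?_
    have e : ρ g ^ (N' + N₀) * y i - ρ (g ^ N' * b' i - β i) = ρ g ^ N' * (ρ g ^ N₀ * y i - ρ (b' i)) + ρ (β i) := by
      rw [map_sub, map_mul, map_pow, pow_add, mul_sub, mul_assoc]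
      ring
    rw [e]
    refine add_mem (Ideal.mul_mem_left _ _ (Ideal.pow_le_pow_right (by omega) (hb' i))) (Ideal.pow_right_mono hρI n ?_)
    rw [← Ideal.map_pow]
    exact Ideal.mem_map_of_mem ρ (hβ i)
  have hy' : y = (↑u⁻¹ : B') • ((fun i => ρ (g ^ N' * b' i - β i)) +
      fun i => ρ g ^ (N' + N₀) * y i - ρ (g ^ N' * b' i - β i)) := by
    funext i
    simp [← hu, ← mul_assoc]
  rw [hy']
  exact Submodule.smul_mem _ _ (add_mem (Submodule.mem_sup_left hrel) (Submodule.mem_sup_right hz))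

end GrothLib.FCoh7
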