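import Groth.Agent.Lib.FCoh7.CoMap
import Groth.Agent.Lib.ColimCoh.RpushNat
import Groth.Agent.Lib.RlimMod25.Basic
import Groth.Agent.Lib.SheafCoh.ModGroth
import Groth.Prelude.Def_ModSite

/-!
# The abelian sheaf of a higher direct image of modules on a ringed space
-/

set_option linter.style.haveILetI false
universe u

set_option backward.isDefEq.respectTransparency false

open CategoryTheory CategoryTheory.Limits Opposite TopologicalSpace Abelian

namespace GrothLib.FCoh7

open GrothLib.SheafCoh

variable {X : TopCat.{u}} {O : Sheaf (Opens.grothendieckTopology X) CommRingCat.{u}}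

/-- The presheaf of sections of a module. -/
noncomputable abbrev secPre (O : Sheaf (Opens.grothendieckTopology X) CommRingCat.{u}) :
    ModSite.Mod O ⥤ (Opens X)ᵒᵖ ⥤ AddCommGrpCat.{u} :=
  SheafOfModules.toSheaf _ ⋙ sheafToPresheaf (Opens.grothendieckTopology X) AddCommGrpCat.{u}

theorem secMod_add (M : ModSite.Mod O) (U : Opens X) (φ ψ : (SiteDer.freeMod O).obj U ⟶ M) :
    SiteDer.secMod M U (φ + ψ) = SiteDer.secMod M U φ + SiteDer.secMod M U ψ :=
  (congrArg (homFreeY _ U) ((SiteDer.tensShAdj _).homAddEquiv _ M |>.map_add φ ψ)).trans (map_add _ _ _)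

/-- Sections are maps out of the free modules, naturally. -/
noncomputable def homPreModIso (O : Sheaf (Opens.grothendieckTopology X) CommRingCat.{u}) :
    homPre (SiteDer.freeMod O) ≅ secPre O :=
  NatIso.ofComponents
    (fun M => NatIso.ofComponents
      (fun U => (AddEquiv.mk' (SiteDer.secMod M U.unop) (secMod_add M U.unop)).toAddCommGrpIso)
      (fun {U V} g => by
        ext φ
        exact SiteDer.secMod_map M g.unop φ))
    (fun {M N} g => by
      ext U φ
      exact SiteDer.secMod_comp U.unop φ g)

theorem bijective_coMap_free [HasExt.{u} (ModSite.Mod O)] [HasInjectiveResolutions (ModSite.Mod O)]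
    (U : Opens X) (n : ℕ) (M : ModSite.Mod O) :
    Function.Bijective (coMap (SiteDer.tensShAdj (ModSite.ringSh O)) (freeY (Opens.grothendieckTopology X) U) M n) :=
  bijective_coMap _ _ (fun I _ m => by
    have := RlimMod25.isFlasque_toSheaf_of_injective I
    exact @Equiv.subsingleton _ _ (HUext (J := Opens.grothendieckTopology X)
      ((SheafOfModules.toSheaf _).obj I) (m + 1) U).symm.toEquiv
      (flasque_HU_subsingleton ((SheafOfModules.toSheaf _).obj I) m U)) n M

/-- Ext of modules out of the free modules is the cohomology of the abelian sheaves. -/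
noncomputable def extFreeIso [HasExt.{u} (ModSite.Mod O)] [HasInjectiveResolutions (ModSite.Mod O)] (n : ℕ) :
    extPreFunctor (SiteDer.freeMod O) n ≅
      SheafOfModules.toSheaf _ ⋙ extPreFunctor (freeYFunctor (Opens.grothendieckTopology X)) n :=
  NatIso.ofComponents
    (fun M => NatIso.ofComponents
      (fun U => (AddEquiv.ofBijective
        (coMap (SiteDer.tensShAdj (ModSite.ringSh O)) (freeY (Opens.grothendieckTopology X) U.unop) M n)
        (bijective_coMap_free U.unop n M)).toAddCommGrpIso)
      (fun {U V} g => by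
        ext x
        exact coMap_naturality_left (SiteDer.tensShAdj (ModSite.ringSh O))
          ((freeYFunctor (Opens.grothendieckTopology X)).map g.unop) M n x))
    (fun {M N} g => by
      ext U x
      exact coMap_naturality (SiteDer.tensShAdj (ModSite.ringSh O)) _ g n x)

/-- The derived sections are the cohomology presheaves. -/
noncomputable def rightDerivedSecPreIso [HasExt.{u} (ModSite.Mod O)] [HasInjectiveResolutions (ModSite.Mod O)]
    (n : ℕ) : (secPre O).rightDerived n ≅
      SheafOfModules.toSheaf _ ⋙ Sheaf.cohomologyPresheafFunctor (Opens.grothendieckTopology X) n :=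
  (rightDerivedCongr (homPreModIso O) n).symm ≪≫ ColimCoh.rightDerivedHomPreNatIso (SiteDer.freeMod O) n ≪≫
    extFreeIso n ≪≫ Functor.isoWhiskerLeft (SheafOfModules.toSheaf _) (cpfIso n).symm

variable {D : Type u} [SmallCategory D] {K : GrothendieckTopology D} {O' : Sheaf K CommRingCat.{u}}

/-- The abelian sheaf of `R^n f_* M` is the sheafification of `V ↦ H^n(f⁻¹ V, M)`, naturally in `M`. -/
theorem nonempty_rpushModIso [HasInjectiveResolutions (ModSite.Mod O)] (f : ModSite.RMor O O') (n : ℕ) :
    Nonempty (f.Rpush n ⋙ SheafOfModules.toSheaf _ ≅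
      SheafOfModules.toSheaf _ ⋙ Sheaf.cohomologyPresheafFunctor (Opens.grothendieckTopology X) n ⋙
        precompSheafify K f.fn) := by
  haveI : EnoughInjectives (ModSite.Mod O) := inferInstance
  haveI : HasExt.{u} (ModSite.Mod O) := hasExt_of_enoughInjectives _
  haveI := SiteDer.preservesFiniteColimits_toSheaf (ModSite.ringSh O')
  haveI : (SheafOfModules.toSheaf.{u} (ModSite.ringSh O')).PreservesHomology := Functor.preservesHomologyOfExact _
  haveI : f.push.Additive := inferInstance
  let e₁ : f.Rpush n ⋙ SheafOfModules.toSheaf _ ≅ (f.push ⋙ SheafOfModules.toSheaf _).rightDerived n :=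
    (NatIso.ofComponents
      (fun M => rightDerivedPostExactIso (f.push ⋙ SheafOfModules.toSheaf _) f.push (SheafOfModules.toSheaf _)
        (Iso.refl _) M n)
      (fun g => ColimCoh.rightDerivedPostExactIso_naturality _ _ _ _ g n)).symm
  let e : f.push ⋙ SheafOfModules.toSheaf _ ≅ secPre O ⋙ precompSheafify K f.fn :=
    Functor.isoWhiskerLeft (SheafOfModules.toSheaf _) (pushIso K f.fn)
  let e₂ : (f.push ⋙ SheafOfModules.toSheaf _).rightDerived n ≅ (secPre O).rightDerived n ⋙ precompSheafify K f.fn :=
    NatIso.ofComponents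
      (fun M => rightDerivedPostExactIso (f.push ⋙ SheafOfModules.toSheaf _) (secPre O) (precompSheafify K f.fn) e M n)
      (fun g => ColimCoh.rightDerivedPostExactIso_naturality _ _ _ _ g n)
  exact ⟨e₁ ≪≫ e₂ ≪≫ Functor.isoWhiskerRight (rightDerivedSecPreIso n) _⟩

end GrothLib.FCoh7
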