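import Groth.Prelude.Def_FSch5
import Groth.Agent.Lib.SiteDer.ModGen

/-!
# Direct images of the levels along a morphism of formal schemes
-/

set_option autoImplicit false
set_option linter.style.haveILetI false
set_option linter.unusedSectionVars false
set_option backward.isDefEq.respectTransparency false
universe u

open CategoryTheory CategoryTheory.Limits AlgebraicGeometry Opposite TopologicalSpace

noncomputable section

namespace GrothLib.FCoh7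

variable {𝔛 𝔜 : FSch.Sys.{u}} (f : 𝔛 ⟶ 𝔜) (h𝔛 : 𝔛.IsFormal) (h𝔜 : 𝔜.IsFormal)

theorem lvU_sq (k : ℕ) (U : (𝔜.X 0).Opens) :
    (Opens.map (𝔛.gInv h𝔛 k)).obj ((Opens.map ((f : FSch.Hom 𝔛 𝔜).app 0).base).obj U) =
      (Opens.map ((f : FSch.Hom 𝔛 𝔜).app k).base).obj ((Opens.map (𝔜.gInv h𝔜 k)).obj U) :=
  (FSch.Hom.lvU_preimage f h𝔛 h𝔜 k U).symm

/-- The two routes on opens agree. -/
def sqNat (k : ℕ) : Opens.map ((f : FSch.Hom 𝔛 𝔜).app 0).base ⋙ Opens.map (𝔛.gInv h𝔛 k) ⟶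
    Opens.map (𝔜.gInv h𝔜 k) ⋙ Opens.map ((f : FSch.Hom 𝔛 𝔜).app k).base where
  app U := homOfLE (lvU_sq f h𝔛 h𝔜 k U).le
  naturality _ _ _ := Subsingleton.elim _ _

/-- Direct image to a level of the base, then to the formal base, against the other route. -/
def sqPushNat (k : ℕ) :
    Scheme.Modules.pushforward ((f : FSch.Hom 𝔛 𝔜).app k) ⋙ (FSch.levelMor 𝔜 h𝔜 k).push ⟶
      (FSch.levelMor 𝔛 h𝔛 k).push ⋙ FSch.pushF f h𝔛 h𝔜 :=
  haveI := Functor.isContinuous_comp (Opens.map (𝔜.gInv h𝔜 k)) (Opens.map ((f : FSch.Hom 𝔛 𝔜).app k).base)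
    (Opens.grothendieckTopology (𝔜.X 0).carrier) (Opens.grothendieckTopology (𝔜.X k).carrier)
    (Opens.grothendieckTopology (𝔛.X k).carrier)
  haveI := Functor.isContinuous_comp (Opens.map ((f : FSch.Hom 𝔛 𝔜).app 0).base) (Opens.map (𝔛.gInv h𝔛 k))
    (Opens.grothendieckTopology (𝔜.X 0).carrier) (Opens.grothendieckTopology (𝔛.X 0).carrier)
    (Opens.grothendieckTopology (𝔛.X k).carrier)
  (SheafOfModules.pushforwardComp (FSch.levelMor 𝔜 h𝔜 k).sharpR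
      ((f : FSch.Hom 𝔛 𝔜).app k).toRingCatSheafHom).hom ≫
    SheafOfModules.pushforwardNatTrans _ (sqNat f h𝔛 h𝔜 k) ≫
    (SheafOfModules.pushforwardCongr (by
      apply Sheaf.hom_ext
      ext U x
      change (𝔛.X k).presheaf.map (homOfLE (lvU_sq f h𝔛 h𝔜 k U.unop).le).op
          (((f : FSch.Hom 𝔛 𝔜).app k).app _ ((𝔜.OshProj h𝔜 k).hom.app U x)) =
        (𝔛.OshProj h𝔛 k).hom.app (op ((f : FSch.Hom 𝔛 𝔜).app 0 ⁻¹ᵁ U.unop))
          ((FSch.Hom.sharp f h𝔛 h𝔜).hom.app U x)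
      have e1 := congrArg (fun φ : 𝔜.Osh h𝔜 ⟶
          (TopCat.Sheaf.pushforward CommRingCat.{u} ((f : FSch.Hom 𝔛 𝔜).app 0).base).obj (𝔛.levelObj h𝔛 k) =>
        φ.hom.app U x) (FSch.Hom.sharp_proj f h𝔛 h𝔜 k)
      exact e1.symm)).hom ≫
    (SheafOfModules.pushforwardComp (FSch.homMor f h𝔛 h𝔜).sharpR (FSch.levelMor 𝔛 h𝔛 k).sharpR).inv

theorem sqPushNat_app (k : ℕ) (M : (𝔛.X k).Modules) (U : (𝔜.X 0).Opens) :
    ((SheafOfModules.toSheaf _).map ((sqPushNat f h𝔛 h𝔜 k).app M)).hom.app (op U) =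
      M.presheaf.map (homOfLE (lvU_sq f h𝔛 h𝔜 k U).le).op := by
  ext x
  rfl

theorem isIso_sqPushNat (k : ℕ) : IsIso (sqPushNat f h𝔛 h𝔜 k) := by
  haveI : ∀ M, IsIso ((sqPushNat f h𝔛 h𝔜 k).app M) := fun M => by
    haveI : (SheafOfModules.toSheaf.{u} (ModSite.ringSh (𝔜.Osh h𝔜))).ReflectsIsomorphisms :=
      reflectsIsomorphisms_of_reflectsMonomorphisms_of_reflectsEpimorphisms _
    haveI : IsIso ((SheafOfModules.toSheaf _).map ((sqPushNat f h𝔛 h𝔜 k).app M)) := by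
      haveI : ∀ U, IsIso (((SheafOfModules.toSheaf _).map ((sqPushNat f h𝔛 h𝔜 k).app M)).hom.app U) := fun U => by
        rw [← U.op_unop, sqPushNat_app]
        haveI : IsIso (homOfLE (lvU_sq f h𝔛 h𝔜 k U.unop).le) :=
          ⟨homOfLE (lvU_sq f h𝔛 h𝔜 k U.unop).ge, Subsingleton.elim _ _, Subsingleton.elim _ _⟩
        infer_instance
      haveI : IsIso ((SheafOfModules.toSheaf _).map ((sqPushNat f h𝔛 h𝔜 k).app M)).hom := NatIso.isIso_of_isIso_app _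
      exact @isIso_of_reflects_iso _ _ _ _ _ _ ((SheafOfModules.toSheaf _).map ((sqPushNat f h𝔛 h𝔜 k).app M))
        (sheafToPresheaf _ _) (by assumption) _
    exact isIso_of_reflects_iso _ (SheafOfModules.toSheaf _)
  exact NatIso.isIso_of_isIso_app _

end GrothLib.FCoh7
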