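import Groth.Agent.Lib.FCoh7.AdicTower
import Groth.Agent.Lib.FCoh7.SpfML
import Groth.Agent.Lib.CohPullLib.SecPull
import Groth.Agent.Lib.Cohom.OpenCompare

/-!
# The tower of the levels over an open of the common space
-/

set_option autoImplicit false
set_option linter.style.haveILetI false
set_option linter.unusedSectionVars false
set_option backward.isDefEq.respectTransparency false
universe u

open CategoryTheory CategoryTheory.Limits AlgebraicGeometry Opposite TopologicalSpace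
open GrothLib.BCCoh (pullRes)

noncomputable section

namespace GrothLib.FCoh7

open GrothLib.UnifVanish7 GrothLib.CohPullLib

theorem pullRes_res {X Y : Scheme.{u}} (g : X ⟶ Y) (F : Y.Modules) {V V₁ : Y.Opens} {V' V₁' : X.Opens}
    (e : V' ≤ g ⁻¹ᵁ V) (e₁ : V₁' ≤ g ⁻¹ᵁ V₁) (h : V₁ ≤ V) (h' : V₁' ≤ V') (s : Γ(F, V)) :
    pullRes g F V₁ V₁' e₁ (F.presheaf.map (homOfLE h).op s) =
      ((Scheme.Modules.pullback g).obj F).presheaf.map (homOfLE h').op (pullRes g F V V' e s) := by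
  rw [pullRes_def, pullRes_def]
  refine (congrArg (((Scheme.Modules.pullback g).obj F).presheaf.map (homOfLE e₁).op)
    (app_res ((Scheme.Modules.pullbackPushforwardAdjunction g).unit.app F) h s)).trans ?_
  refine (map_map_sec ((Scheme.Modules.pullback g).obj F) (g.preimage_mono h) e₁ _).trans ?_
  exact (map_map_sec ((Scheme.Modules.pullback g).obj F) e h' _).symm

theorem pullRes_res_left {X Y : Scheme.{u}} (g : X ⟶ Y) (F : Y.Modules) {V V₁ : Y.Opens} {V₁' : X.Opens}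
    (e₁ : V₁' ≤ g ⁻¹ᵁ V₁) (h : V₁ ≤ V) (e : V₁' ≤ g ⁻¹ᵁ V) (s : Γ(F, V)) :
    pullRes g F V₁ V₁' e₁ (F.presheaf.map (homOfLE h).op s) = pullRes g F V V₁' e s :=
  (pullRes_res g F e e₁ h le_rfl s).trans (map_sec_self _ _ _)

/-- The pullback of a transition along a square. -/
abbrev sqIso {Z' W' Z W : Scheme.{u}} {i' : Z' ⟶ W'} {j : Z' ⟶ Z} {j' : W' ⟶ W} {i : Z ⟶ W}
    (hsq : i' ≫ j' = j ≫ i) {M : W.Modules} {F : Z.Modules} (ψ : (Scheme.Modules.pullback i).obj M ≅ F) :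
    (Scheme.Modules.pullback i').obj ((Scheme.Modules.pullback j').obj M) ≅ (Scheme.Modules.pullback j).obj F :=
  (Scheme.Modules.pullbackComp i' j').app M ≪≫ (Scheme.Modules.pullbackCongr hsq).app M ≪≫
    ((Scheme.Modules.pullbackComp j i).app M).symm ≪≫ (Scheme.Modules.pullback j).mapIso ψ

/-- The pulled back transition on pulled back sections. -/
theorem adjunct_sqIso_pullRes {Z' W' Z W : Scheme.{u}} {i' : Z' ⟶ W'} {j : Z' ⟶ Z} {j' : W' ⟶ W} {i : Z ⟶ W}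
    (hsq : i' ≫ j' = j ≫ i) {M : W.Modules} {F : Z.Modules} (ψ : (Scheme.Modules.pullback i).obj M ≅ F)
    (V : W.Opens) (V' : W'.Opens) (e : V' ≤ j' ⁻¹ᵁ V) (e₂ : i' ⁻¹ᵁ V' ≤ j ⁻¹ᵁ (i ⁻¹ᵁ V)) (s : Γ(M, V)) :
    (FFormal7.adjunct i' (sqIso hsq ψ).hom).app V' (pullRes j' M V V' e s) =
      pullRes j F (i ⁻¹ᵁ V) (i' ⁻¹ᵁ V') e₂ ((FFormal7.adjunct i ψ.hom).app V s) := by
  have e' : i' ⁻¹ᵁ V' ≤ (i' ≫ j') ⁻¹ᵁ V := fun z hz => e hz
  have e'' : i' ⁻¹ᵁ V' ≤ (j ≫ i) ⁻¹ᵁ V := fun z hz => e₂ hz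
  have h1 : ((Scheme.Modules.pullbackPushforwardAdjunction i').unit.app ((Scheme.Modules.pullback j').obj M)).app V'
      (pullRes j' M V V' e s) =
      pullRes i' ((Scheme.Modules.pullback j').obj M) V' (i' ⁻¹ᵁ V') le_rfl (pullRes j' M V V' e s) :=
    ((pullRes_def _ _ _ _ _ _).trans
      (map_sec_self ((Scheme.Modules.pullback i').obj ((Scheme.Modules.pullback j').obj M)) le_rfl _)).symm
  have h2 : ((Scheme.Modules.pullbackPushforwardAdjunction i).unit.app M).app V s =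
      pullRes i M V (i ⁻¹ᵁ V) le_rfl s :=
    ((pullRes_def _ _ _ _ _ _).trans (map_sec_self ((Scheme.Modules.pullback i).obj M) le_rfl _)).symm
  rw [FFormal7.adjunct_app, FFormal7.adjunct_app, h1, h2, ← pullRes_map j ψ.hom]
  show ((Scheme.Modules.pullback j).map ψ.hom).app _ (((Scheme.Modules.pullbackComp j i).inv.app M).app _
    (((Scheme.Modules.pullbackCongr hsq).hom.app M).app _ (((Scheme.Modules.pullbackComp i' j').hom.app M).app _ _))) = _
  refine congrArg (((Scheme.Modules.pullback j).map ψ.hom).app (i' ⁻¹ᵁ V')) ?_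
  refine (congrArg (fun t => ((Scheme.Modules.pullbackComp j i).inv.app M).app (i' ⁻¹ᵁ V')
      (((Scheme.Modules.pullbackCongr hsq).hom.app M).app (i' ⁻¹ᵁ V') t))
      (pullbackComp_pullRes i' j' M V V' (i' ⁻¹ᵁ V') e le_rfl e' s)).trans ?_
  refine (congrArg (((Scheme.Modules.pullbackComp j i).inv.app M).app (i' ⁻¹ᵁ V'))
      ((pullbackCongr_pullRes hsq M V (i' ⁻¹ᵁ V') e' e'' s).trans
        (pullbackComp_pullRes j i M V (i ⁻¹ᵁ V) (i' ⁻¹ᵁ V') le_rfl e₂ e'' s).symm)).trans ?_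
  exact congrArg (fun φ : (Scheme.Modules.pullback j).obj ((Scheme.Modules.pullback i).obj M) ⟶ _ =>
    φ.app (i' ⁻¹ᵁ V') (pullRes j _ (i ⁻¹ᵁ V) (i' ⁻¹ᵁ V') e₂ (pullRes i M V (i ⁻¹ᵁ V) le_rfl s)))
      ((Scheme.Modules.pullbackComp j i).hom_inv_id_app M)

section Restr

variable {T T' : TopCat.{u}} (ι₀ : T' ⟶ T) (hι : Topology.IsOpenEmbedding ι₀)

theorem image_eq {Z Z' : Scheme.{u}} (j : Z' ⟶ Z) [IsOpenImmersion j] (g : Z.toTopCat ⟶ T) (g' : Z'.toTopCat ⟶ T')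
    (hg : Function.Injective g) (hg' : Function.Surjective g') (hj : j.base ≫ g = g' ≫ ι₀) (U : Opens T') :
    j ''ᵁ ((Opens.map g').obj U) = (Opens.map g).obj (hι.isOpenMap.functor.obj U) := by
  have hp : ∀ z, g (j z) = ι₀ (g' z) := fun z => ConcreteCategory.congr_hom hj z
  ext z
  constructor
  · rintro ⟨z', hz', rfl⟩
    exact ⟨g' z', hz', (hp z').symm⟩
  · rintro ⟨t, ht, e⟩
    obtain ⟨z', rfl⟩ := hg' t
    exact ⟨z', ht, hg ((hp z').trans e)⟩

theorem le_preimage {Z Z' : Scheme.{u}} (j : Z' ⟶ Z) (g : Z.toTopCat ⟶ T) (g' : Z'.toTopCat ⟶ T')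
    (hj : j.base ≫ g = g' ≫ ι₀) (U : Opens T') :
    (Opens.map g').obj U ≤ j ⁻¹ᵁ ((Opens.map g).obj (hι.isOpenMap.functor.obj U)) := fun z hz =>
  ⟨g' z, hz, (ConcreteCategory.congr_hom hj z).symm⟩

/-- Restriction of a level to the open. -/
def restrLev {Z Z' : Scheme.{u}} (j : Z' ⟶ Z) (g : Z.toTopCat ⟶ T) (g' : Z'.toTopCat ⟶ T')
    (hj : j.base ≫ g = g' ≫ ι₀) (F : Z.Modules) :
    (Cohom.restrFun hι).obj ((spaceFun g).obj F) ⟶ (spaceFun g').obj ((Scheme.Modules.pullback j).obj F) :=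
  ⟨{ app := fun U => AddCommGrpCat.ofHom (AddMonoidHom.mk'
      (fun s => pullRes j F ((Opens.map g).obj (hι.isOpenMap.functor.obj U.unop)) ((Opens.map g').obj U.unop)
        (le_preimage ι₀ hι j g g' hj U.unop) s)
      (fun s t => BCCoh.pullRes_add j F _ _ _ s t))
     naturality := fun {U U'} φ => by
      ext s
      exact pullRes_res j F (le_preimage ι₀ hι j g g' hj U.unop) (le_preimage ι₀ hι j g g' hj U'.unop)
        ((Opens.map g).map (hι.isOpenMap.functor.map φ.unop)).le ((Opens.map g').map φ.unop).le s }⟩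

theorem isIso_restrLev {Z Z' : Scheme.{u}} (j : Z' ⟶ Z) [IsOpenImmersion j] (g : Z.toTopCat ⟶ T)
    (g' : Z'.toTopCat ⟶ T') (hg : Function.Injective g) (hg' : Function.Surjective g')
    (hj : j.base ≫ g = g' ≫ ι₀) (F : Z.Modules) : IsIso (restrLev ι₀ hι j g g' hj F) := by
  haveI : ∀ U, IsIso ((restrLev ι₀ hι j g g' hj F).hom.app U) := fun U => by
    rw [ConcreteCategory.isIso_iff_bijective]
    have e' := image_eq ι₀ hι j g g' hg hg' hj U.unop
    have hres : Function.Bijective (F.presheaf.map (homOfLE e'.le).op) := by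
      haveI : IsIso (F.presheaf.map (homOfLE e'.le).op) := by
        haveI : IsIso (homOfLE e'.le) := ⟨homOfLE e'.ge, Subsingleton.elim _ _, Subsingleton.elim _ _⟩
        infer_instance
      exact ConcreteCategory.bijective_of_isIso _
    have hR : Function.Bijective (((Scheme.Modules.restrictFunctorIsoPullback j).hom.app F).app ((Opens.map g').obj U.unop)) :=
      (ConcreteCategory.isIso_iff_bijective _).1 (Scheme.Modules.Hom.isIso_iff_isIso_app.1 inferInstance _)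
    have : ⇑((restrLev ι₀ hι j g g' hj F).hom.app U) =
        ⇑(((Scheme.Modules.restrictFunctorIsoPullback j).hom.app F).app ((Opens.map g').obj U.unop)) ∘
          ⇑(F.presheaf.map (homOfLE e'.le).op) :=
      funext fun s => (restrictIso_pullRes j F _ _ (le_preimage ι₀ hι j g g' hj U.unop) e'.le s).symm
    rw [this]
    exact hR.comp hres
  haveI : IsIso (restrLev ι₀ hι j g g' hj F).hom := NatIso.isIso_of_isIso_app _
  exact @isIso_of_reflects_iso _ _ _ _ _ _ (restrLev ι₀ hι j g g' hj F) (sheafToPresheaf _ _)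
    (inferInstanceAs (IsIso (restrLev ι₀ hι j g g' hj F).hom)) _

variable {Zs Zs' : ℕ → Scheme.{u}} {i : ∀ k, Zs k ⟶ Zs (k + 1)} {i' : ∀ k, Zs' k ⟶ Zs' (k + 1)}
  (j : ∀ k, Zs' k ⟶ Zs k) (hsq : ∀ k, i' k ≫ j (k + 1) = j k ≫ i k)
  (g : ∀ k, (Zs k).toTopCat ⟶ T) (hg : ∀ k, (i k).base ≫ g (k + 1) = g k)
  (g' : ∀ k, (Zs' k).toTopCat ⟶ T') (hg' : ∀ k, (i' k).base ≫ g' (k + 1) = g' k)
  (hj : ∀ k, (j k).base ≫ g k = g' k ≫ ι₀)
  {F : ∀ k, (Zs k).Modules} (ψ : ∀ k, (Scheme.Modules.pullback (i k)).obj (F (k + 1)) ≅ F k)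

/-- Restriction to the open is compatible with the transitions. -/
theorem restrLev_levTr (k : ℕ) :
    (Cohom.restrFun hι).map (levTr g hg ψ k) ≫ restrLev ι₀ hι (j k) (g k) (g' k) (hj k) (F k) =
      restrLev ι₀ hι (j (k + 1)) (g (k + 1)) (g' (k + 1)) (hj (k + 1)) (F (k + 1)) ≫
        levTr g' hg' (F := fun k => (Scheme.Modules.pullback (j k)).obj (F k)) (fun k => sqIso (hsq k) (ψ k)) k := by
  refine Sheaf.hom_ext (NatTrans.ext (funext fun U => ?_))
  ext s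
  let O := (Opens.map (g (k + 1))).obj (hι.isOpenMap.functor.obj U.unop)
  let O' := (Opens.map (g' (k + 1))).obj U.unop
  have le : (Opens.map (g k)).obj (hι.isOpenMap.functor.obj U.unop) ≤ i k ⁻¹ᵁ O := fun z hz => by
    rw [← hg k] at hz
    exact hz
  have le' : (Opens.map (g' k)).obj U.unop ≤ i' k ⁻¹ᵁ O' := fun z hz => by
    rw [← hg' k] at hz
    exact hz
  have e₀ := le_preimage ι₀ hι (j k) (g k) (g' k) (hj k) U.unop
  have e₁ := le_preimage ι₀ hι (j (k + 1)) (g (k + 1)) (g' (k + 1)) (hj (k + 1)) U.unop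
  have e₂ : i' k ⁻¹ᵁ O' ≤ j k ⁻¹ᵁ (i k ⁻¹ᵁ O) := by
    show i' k ⁻¹ᵁ O' ≤ (j k ≫ i k) ⁻¹ᵁ O
    rw [← hsq k]
    exact (i' k).preimage_mono e₁
  show pullRes (j k) (F k) _ _ e₀
      (((spacePushIso (i k) (g (k + 1)) (g k) (hg k)).hom.app (F k)).hom.app (op (hι.isOpenMap.functor.obj U.unop))
        ((FFormal7.adjunct (i k) (ψ k).hom).app O s)) =
    ((spacePushIso (i' k) (g' (k + 1)) (g' k) (hg' k)).hom.app _).hom.app U
      ((FFormal7.adjunct (i' k) (sqIso (hsq k) (ψ k)).hom).app O' (pullRes (j (k + 1)) (F (k + 1)) O O' e₁ s))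
  rw [adjunct_sqIso_pullRes (hsq k) (ψ k) O O' e₁ e₂ s]
  refine (congrArg (pullRes (j k) (F k) _ _ e₀) (spacePushIso_app (i k) (g (k + 1)) (g k) (hg k) (F k) _ le _)).trans ?_
  refine Eq.trans ?_ (spacePushIso_app (i' k) (g' (k + 1)) (g' k) (hg' k) _ U.unop le' _).symm
  refine (pullRes_res_left (j k) (F k) e₀ le (le'.trans e₂) _).trans ?_
  refine Eq.trans ?_ (pullRes_res (j k) (F k) e₂ (le'.trans e₂) (le_refl (i k ⁻¹ᵁ O)) le' _)
  exact congrArg (pullRes (j k) (F k) _ _ _) (map_sec_self (F k) (le_refl (i k ⁻¹ᵁ O)) _).symm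

end Restr

end GrothLib.FCoh7
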