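import Groth.Agent.Lib.FCoh7.RpushFF

/-!
# Kernels and stationary images for higher direct images of the levels
-/

set_option autoImplicit false
set_option linter.style.haveILetI false
set_option linter.unusedSectionVars false
set_option maxHeartbeats 800000
universe u

open CategoryTheory CategoryTheory.Limits AlgebraicGeometry Opposite TopologicalSpace

noncomputable section

namespace GrothLib.FCoh7

open GrothLib.BCCoh GrothLib.FormalFn GrothLib.FPush7

variable {A : Type u} [CommRing A] {X : Scheme.{u}} [X.Over (Spec (CommRingCat.of A))] [IsLocallyNoetherian X]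

/-- A map that is, on affine opens, the quotient by `J` is identified with the quotient. -/
theorem exists_iso_of_affine {J : Ideal A} {M N P : X.Modules} {π : M ⟶ N} (hM : Coh.IsCoh M)
    (hπ : FormalSys.IsQuot J π) (hN : N.IsQuasicoherent) (hP : P.IsQuasicoherent) (u : M ⟶ P)
    (hu : ∀ U : X.Opens, IsAffineOpen U → Function.Surjective (u.app U) ∧
      ∀ s : secA (X ↘ Spec (CommRingCat.of A)) M U, u.app U (show Γ(M, U) from s) = 0 ↔
        s ∈ J • (⊤ : Submodule A (secA (X ↘ Spec (CommRingCat.of A)) M U))) :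
    ∃ e : N ≅ P, π ≫ e.hom = u := by
  have h0 : ∀ a ∈ J, Formal.smulMod A M a ≫ u = 0 := fun a ha => by
    refine VA.hom_ext_affine fun U s => ?_
    show u.app U.1 ((Formal.smulMod A M a).app U.1 s) = (0 : M ⟶ P).app U.1 s
    refine Eq.trans ?_ (ConcreteCategory.congr_hom (Scheme.Modules.Hom.zero_app (M := M) (N := P) (U := U.1)) s).symm
    refine ((hu U.1 U.2).2 (show secA (X ↘ Spec (CommRingCat.of A)) M U.1 from (Formal.smulMod A M a).app U.1 s)).2 ?_
    have e : (a • (show secA (X ↘ Spec (CommRingCat.of A)) M U.1 from s)) =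
        (Formal.smulMod A M a).app U.1 s :=
      (Coh.smulAb_app M _ (op U.1) s).symm
    rw [← e]
    exact Submodule.smul_mem_smul ha trivial
  obtain ⟨ψ, hψ⟩ := hπ.exists_desc u h0
  haveI := hN
  haveI := hP
  have hbij : ∀ U : X.Opens, IsAffineOpen U → Function.Bijective (ψ.app U) := fun U hU => by
    obtain ⟨hs, hk⟩ := app_isQuot hM hπ hU
    have hc : ∀ z, ψ.app U (π.app U z) = u.app U z := fun z =>
      ConcreteCategory.congr_hom (congrArg (fun t => Scheme.Modules.Hom.app t U) hψ) z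
    refine ⟨(injective_iff_map_eq_zero _).2 fun w hw => ?_, fun v => ?_⟩
    · obtain ⟨z, rfl⟩ := hs w
      exact (hk z).2 (((hu U hU).2 z).1 ((hc z).symm.trans hw))
    · obtain ⟨z, rfl⟩ := (hu U hU).1 v
      exact ⟨π.app U z, hc z⟩
  haveI : IsIso ψ := QCoh.isIso_of_bijective_on_cover ψ (fun U : X.affineOpens => U.1)
    (iSup_affineOpens_eq_top X) (fun U => U.2) fun U => hbij U.1 U.2
  exact ⟨asIso ψ, hψ⟩

variable [IsNoetherianRing A] (I : Ideal A) [IsProper (X ↘ Spec (CommRingCat.of A))]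

/-- Formal functions for a system of quotients by the powers of an ideal. -/
theorem exists_HH_bound (M : X.Modules) (hM : Coh.IsCoh M) (Q : ℕ → X.Modules) (u : ∀ k, M ⟶ Q k)
    (e : ∀ k, Formal.modPow I (k + 1) M ≅ Q k) (he : ∀ k, Formal.modPowπ I (k + 1) M ≫ (e k).hom = u k) (p : ℕ) :
    ∃ c : ℕ, (∀ k (x : Coh.HH X M p),
        Sheaf.H.map ((SheafOfModules.toSheaf X.ringCatSheaf).map (u (k + c))) p x = 0 →
          x ∈ I ^ (k + 1) • (⊤ : Submodule A (Coh.HH X M p))) ∧
      ∀ k (t : Q (k + c) ⟶ Q k), u (k + c) ≫ t = u k → ∀ y : Coh.HH X (Q (k + c)) p,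
        ∃ x : Coh.HH X M p, Sheaf.H.map ((SheafOfModules.toSheaf X.ringCatSheaf).map (u k)) p x =
          Sheaf.H.map ((SheafOfModules.toSheaf X.ringCatSheaf).map t) p y := by
  obtain ⟨c₁, hc₁⟩ := kernels_adically_small I M hM p
  obtain ⟨c₂, hc₂⟩ := mittag_leffler I M hM p
  refine ⟨c₁ + c₂ + 1, fun k x hx => ?_, fun k t ht y => ?_⟩
  · have h1 : Formal.toHHmodPow I M p (k + (c₁ + c₂ + 1)) x = 0 := by
      have h2 := congrArg (Sheaf.H.map ((SheafOfModules.toSheaf X.ringCatSheaf).map (e (k + (c₁ + c₂ + 1))).inv) p) hx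
      refine Eq.trans ?_ (h2.trans (map_zero _))
      exact (hmap_factor (show u _ ≫ (e _).inv = Formal.modPowπ I (k + (c₁ + c₂ + 1) + 1) M by
        rw [← he, Category.assoc, Iso.hom_inv_id, Category.comp_id]) p x).symm
    exact Submodule.smul_mono_left (Ideal.pow_le_pow_right (by omega))
      (hc₁ (k + (c₁ + c₂ + 1)) (by omega) h1)
  · let m := k + (c₁ + c₂ + 1)
    have hkm : k ≤ m := Nat.le_add_right _ _
    have h1 := hc₂ k m hkm (by omega)
    rw [range_completion_map I M p hkm] at h1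
    obtain ⟨x, hx⟩ := h1.le ⟨Sheaf.H.map ((SheafOfModules.toSheaf X.ringCatSheaf).map (e m).inv) p y, rfl⟩
    refine ⟨x, ?_⟩
    have hsq : (e m).hom ≫ t = Formal2.modPowLE I (Nat.succ_le_succ hkm) M ≫ (e k).hom := by
      haveI := FormalFun.epi_modPowπ I (m + 1) M
      refine (cancel_epi (Formal.modPowπ I (m + 1) M)).1 ?_
      refine (Category.assoc _ _ _).symm.trans ((congrArg (· ≫ t) (he m)).trans (ht.trans ?_))
      refine Eq.trans ?_ (Category.assoc _ _ _)
      exact (he k).symm.trans (congrArg (· ≫ (e k).hom) (Formal2.modPowπ_modPowLE I (Nat.succ_le_succ hkm) M).symm)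
    refine (hmap_factor (he k) p x).symm.trans ?_
    refine (congrArg (Sheaf.H.map ((SheafOfModules.toSheaf X.ringCatSheaf).map (e k).hom) p) hx).trans ?_
    refine (hmap_factor (φ := Formal2.modPowLE I (Nat.succ_le_succ hkm) M) (ψ := (e k).hom)
      (χ := Formal2.modPowLE I (Nat.succ_le_succ hkm) M ≫ (e k).hom) rfl p _).trans ?_
    exact hmap_factor (show (e m).inv ≫ Formal2.modPowLE I (Nat.succ_le_succ hkm) M ≫ (e k).hom = t by
      rw [← hsq, Iso.inv_hom_id_assoc]) p y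

section Rpush

variable {Z S : Scheme.{u}} (f : Z ⟶ S) [IsProper f] [IsLocallyNoetherian S] [HasInjectiveResolutions Z.Modules]
  {V : S.Opens} (hV : IsAffineOpen V) (𝓘 : S.IdealSheafData) (G : Z.Modules) (hG : Coh.IsCoh G)

include hV hG in
/-- Formal functions for higher direct images over an affine open. -/
theorem exists_Rpush_bound (Q : ℕ → Z.Modules) (u : ∀ k, G ⟶ Q k) (hQ : ∀ k, (Q k).IsQuasicoherent)
    (hu : ∀ (k : ℕ) (U : Z.affineOpens), Function.Surjective ((u k).app U.1) ∧ ∀ m : Γ(G, U.1), (u k).app U.1 m = 0 ↔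
      m ∈ ((𝓘.comap f) ^ (k + 1)).ideal U • (⊤ : Submodule Γ(Z, U.1) Γ(G, U.1))) (p : ℕ) :
    ∃ c : ℕ, (∀ k (s : Γ((Coh.Rpush f p).obj G, V)), ((Coh.Rpush f p).map (u (k + c))).app V s = 0 →
        s ∈ ((𝓘 ^ (k + 1)).ideal ⟨V, hV⟩) • (⊤ : Submodule Γ(S, V) Γ((Coh.Rpush f p).obj G, V))) ∧
      ∀ k (t : Q (k + c) ⟶ Q k), u (k + c) ≫ t = u k → ∀ y, ∃ s : Γ((Coh.Rpush f p).obj G, V),
        ((Coh.Rpush f p).map (u k)).app V s = ((Coh.Rpush f p).map t).app V y := by
  haveI := IsLocallyNoetherian.component_noetherian (X := S) ⟨V, hV⟩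
  haveI : IsLocallyNoetherian Z := LocallyOfFiniteType.isLocallyNoetherian f
  let j := (f ⁻¹ᵁ V).ι
  letI : (Wsch f V).Over (Spec (CommRingCat.of Γ(S, V))) := ⟨affBase f hV⟩
  haveI : IsProper (f ∣_ V) := IsZariskiLocalAtTarget.restrict ‹IsProper f› V
  haveI : IsProper (Wsch f V ↘ Spec (CommRingCat.of Γ(S, V))) :=
    inferInstanceAs (IsProper ((f ∣_ V) ≫ hV.isoSpec.hom))
  haveI : IsLocallyNoetherian (Wsch f V) :=
    LocallyOfFiniteType.isLocallyNoetherian (Wsch f V ↘ Spec (CommRingCat.of Γ(S, V)))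
  haveI := hG.1
  have hG' := Cohom.isCoh_restrict G hG j
  let I := 𝓘.ideal ⟨V, hV⟩
  have hpow : ∀ n, (𝓘 ^ (n + 1)).ideal ⟨V, hV⟩ = I ^ (n + 1) := fun n => by
    rw [Scheme.IdealSheafData.ideal_pow]
    rfl
  let u' : ∀ k, G.restrict j ⟶ (Q k).restrict j := fun k => (Scheme.Modules.restrictFunctor j).map (u k)
  have hu' : ∀ (k : ℕ) (U : (Wsch f V).Opens), IsAffineOpen U → Function.Surjective ((u' k).app U) ∧
      ∀ s : secA (affBase f hV) (G.restrict j) U, (u' k).app U (show Γ(G.restrict j, U) from s) = 0 ↔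
        s ∈ I ^ (k + 1) • (⊤ : Submodule Γ(S, V) (secA (affBase f hV) (G.restrict j) U)) := fun k U hU => by
    have hi : IsAffineOpen (img f U) := hU.image_of_isOpenImmersion j
    refine ⟨(hu k ⟨_, hi⟩).1, fun s => ((hu k ⟨_, hi⟩).2 (show Γ(G, img f U) from s)).trans ?_⟩
    rw [← FSchSys.comap_pow, BlowUp.ideal_comap_eq_map _ f ⟨V, hV⟩ ⟨_, hi⟩ (img_le f U), hpow]
    exact (mem_smul_secA_iff f hV G _ U (show Γ(G, img f U) from s)).symm
  have hQ' : ∀ k, ((Q k).restrict j).IsQuasicoherent := fun k => by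
    haveI := hQ k
    infer_instance
  have hiso : ∀ k, ∃ e : Formal.modPow I (k + 1) (G.restrict j) ≅ (Q k).restrict j,
      Formal.modPowπ I (k + 1) (G.restrict j) ≫ e.hom = u' k := fun k =>
    exists_iso_of_affine hG' (FormalSys.IsQuot.modPowπ I (k + 1) (G.restrict j))
      (FormalFun.isCoh_modPow I (k + 1) hG').1 (hQ' k) (u' k) (hu' k)
  choose e he using hiso
  obtain ⟨c, hc1, hc2⟩ := exists_HH_bound I (G.restrict j) hG' (fun k => (Q k).restrict j) u' e he p
  obtain ⟨E, hEs, hEn⟩ := exists_Rpush_equiv_natural f hV p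
  refine ⟨c, fun k s hs => ?_, fun k t ht y => ?_⟩
  · obtain ⟨x, rfl⟩ := (E G hG.1).surjective s
    have hx : Sheaf.H.map ((SheafOfModules.toSheaf _).map (u' (k + c))) p x = 0 :=
      (E (Q (k + c)) (hQ (k + c))).injective ((hEn (u (k + c)) hG.1 (hQ (k + c)) x).trans (hs.trans (map_zero _).symm))
    rw [hpow]
    refine Submodule.smul_induction_on (p := fun z => E G hG.1 z ∈
      I ^ (k + 1) • (⊤ : Submodule Γ(S, V) Γ((Coh.Rpush f p).obj G, V))) (hc1 k x hx) (fun a ha z _ => ?_)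
      fun z z' hz hz' => by rw [map_add]; exact add_mem hz hz'
    exact (hEs G hG.1 a z).symm ▸ Submodule.smul_mem_smul ha trivial
  · obtain ⟨y', rfl⟩ := (E (Q (k + c)) (hQ (k + c))).surjective y
    obtain ⟨x, hx⟩ := hc2 k ((Scheme.Modules.restrictFunctor j).map t)
      (((Scheme.Modules.restrictFunctor j).map_comp _ _).symm.trans (congrArg _ ht)) y'
    exact ⟨E G hG.1 x, (hEn (u k) hG.1 (hQ k) x).symm.trans ((congrArg (E (Q k) (hQ k)) hx).trans
      (hEn t (hQ (k + c)) (hQ k) y'))⟩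

end Rpush

end GrothLib.FCoh7
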