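import Groth.Agent.Lib.FCoh7.SheafifiedLimit
import Groth.Agent.Lib.ARSys.FamilyCriterion
import Groth.Prelude.Def_ARSys
import Mathlib.Topology.Sheaves.SheafCondition.UniqueGluing

/-!
# Mittag-Leffler for a functor given by sheafified presheaves
-/

set_option autoImplicit false
set_option linter.style.haveILetI false
set_option linter.unusedSectionVars false
universe u v v' w w'

open CategoryTheory CategoryTheory.Limits Opposite TopologicalSpace

noncomputable section

namespace GrothLib.FCoh7

/-- A functor applied to a tower. -/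
theorem map_ofOpSequence {A : Type w} [Category.{v} A] {C : Type w'} [Category.{v'} C] (R : A ⥤ C) (L : ℕ → A)
    (t : ∀ k, L (k + 1) ⟶ L k) {k m : ℕ} (hkm : k ≤ m) :
    (Functor.ofOpSequence (X := fun k => R.obj (L k)) (fun k => R.map (t k))).map (homOfLE hkm).op =
      R.map ((Functor.ofOpSequence t).map (homOfLE hkm).op) := by
  let τ : Functor.ofOpSequence (X := fun k => R.obj (L k)) (fun k => R.map (t k)) ⟶ Functor.ofOpSequence t ⋙ R :=
    NatTrans.ofOpSequence (fun k => 𝟙 (R.obj (L k))) fun k =>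
      ((Category.comp_id ((Functor.ofOpSequence (X := fun k => R.obj (L k)) (fun k => R.map (t k))).map
        (homOfLE (Nat.le_add_right k 1)).op)).trans
          (Functor.ofOpSequence_map_homOfLE_succ (X := fun k => R.obj (L k)) (fun k => R.map (t k)) k)).trans
        (((congrArg R.map (Functor.ofOpSequence_map_homOfLE_succ t k)).symm.trans (Category.id_comp _).symm))
  exact (Category.comp_id _).symm.trans ((τ.naturality (homOfLE hkm).op).trans (Category.id_comp _))

variable {T : TopCat.{u}} {A : Type w} [Category.{v} A] {C : Type w'} [Category.{v'} C] [Abelian C]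
  (R : A ⥤ C) (U : C ⥤ CohTop.Ab T) [U.Faithful] [U.PreservesZeroMorphisms]
  (Q : A ⥤ (Opens T)ᵒᵖ ⥤ AddCommGrpCat.{u})
  (Φ : R ⋙ U ≅ Q ⋙ presheafToSheaf (Opens.grothendieckTopology T) AddCommGrpCat.{u})

/-- A map which is zero on sections over a basis is zero. -/
theorem eq_zero_of_basis {F G : CohTop.Ab T} (φ : F ⟶ G) {B : Set (Opens T)} (hB : Opens.IsBasis B)
    (h : ∀ V ∈ B, ∀ s : F.obj.obj (op V), φ.hom.app (op V) s = 0) : φ = 0 := by
  refine Sheaf.hom_ext (NatTrans.ext (funext fun W => ?_))
  ext s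
  choose V hV hpV hVW using fun p : (W.unop : Opens T) => Opens.isBasis_iff_nbhd.1 hB p.2
  refine TopCat.Sheaf.eq_of_locally_eq' G V W.unop (fun p => homOfLE (hVW p))
    (fun p hp => Opens.mem_iSup.2 ⟨⟨p, hp⟩, hpV ⟨p, hp⟩⟩) _ _ fun p => ?_
  refine ((ConcreteCategory.congr_hom (φ.hom.naturality (homOfLE (hVW p)).op) s).symm.trans ?_).trans (map_zero _).symm
  exact h (V p) (hV p) _

include Φ in
/-- Uniformly stationary images on finitely many opens, with sections on a basis spread out from them, give the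
Mittag-Leffler condition. -/
theorem isML_of_sheafified (L : ℕ → A) (t : ∀ k, L (k + 1) ⟶ L k) {ι : Type} [Finite ι] (W : ι → Opens T)
    (hlev : ∀ k i, Function.Bijective ((toSheafify (Opens.grothendieckTopology T) (Q.obj (L k))).app (op (W i))))
    {B : Set (Opens T)} (hB : Opens.IsBasis B)
    (hloc : ∀ V ∈ B, ∃ i, ∀ (m : ℕ) {Z : C} (c : R.obj (L m) ⟶ Z),
      (∀ x, (U.map c).hom.app (op (W i)) x = 0) → ∀ y, (U.map c).hom.app (op V) y = 0)
    (hu : ∀ i, ∃ s₀ : ℕ, ∀ {k m : ℕ} (hkm : k ≤ m), k + s₀ ≤ m → ∀ y : (Q.obj (L m)).obj (op (W i)),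
      ∃ w : (Q.obj (L (m + 1))).obj (op (W i)),
        (Q.map ((Functor.ofOpSequence t).map (homOfLE (Nat.le_succ_of_le hkm)).op)).app (op (W i)) w =
          (Q.map ((Functor.ofOpSequence t).map (homOfLE hkm).op)).app (op (W i)) y) :
    ARSys.IsML (Functor.ofOpSequence (X := fun k => R.obj (L k)) (fun k => R.map (t k))) := by
  classical
  haveI := Fintype.ofFinite ι
  choose s hs using hu
  let S := Functor.ofOpSequence (X := fun k => R.obj (L k)) (fun k => R.map (t k))
  intro k
  refine ⟨Finset.univ.sup s, fun r hr => GrothLib.ARSys.imageSubobject_eq_of_comp_zero _ _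
    (ARSys.tr S (show k + Finset.univ.sup s ≤ k + r by omega)) (GrothLib.ARSys.tr_tr S _ _) ?_⟩
  refine U.map_injective ((eq_zero_of_basis (U.map _) hB fun V hV y => ?_).trans (U.map_zero _ _).symm)
  obtain ⟨i, hi⟩ := hloc V hV
  refine hi _ _ (fun x => ?_) y
  have hsi : s i ≤ Finset.univ.sup s := Finset.le_sup (Finset.mem_univ i)
  have hT : ∀ {a m : ℕ} (h : a ≤ m) (p : (Q.obj (L m)).obj (op (W i))),
      (U.map (S.map (homOfLE h).op)).hom.app (op (W i)) ((secMap R U Q Φ (L m)).app (op (W i)) p) =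
        (secMap R U Q Φ (L a)).app (op (W i))
          ((Q.map ((Functor.ofOpSequence t).map (homOfLE h).op)).app (op (W i)) p) := fun h p =>
    (congrArg (fun φ => (U.map φ).hom.app (op (W i)) ((secMap R U Q Φ (L _)).app (op (W i)) p))
      (map_ofOpSequence R L t h)).trans (secMap_naturality R U Q Φ _ (op (W i)) p)
  have hbij : ∀ m, Function.Bijective ((secMap R U Q Φ (L m)).app (op (W i))) := fun m => by
    have h1 : Function.Bijective ((Φ.inv.app (L m)).hom.app (op (W i))) := by
      haveI : IsIso (Φ.inv.app (L m)).hom := inferInstanceAs (IsIso ((sheafToPresheaf _ _).map (Φ.inv.app (L m))))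
      exact ConcreteCategory.bijective_of_isIso _
    exact h1.comp (hlev m i)
  obtain ⟨p, rfl⟩ := (hbij (k + Finset.univ.sup s)).2 x
  have hstep : ∀ (d m : ℕ), m = k + Finset.univ.sup s + d → ∀ hkm : k ≤ m, ∃ w,
      (Q.map ((Functor.ofOpSequence t).map (homOfLE hkm).op)).app (op (W i)) w =
        (Q.map ((Functor.ofOpSequence t).map (homOfLE (Nat.le_add_right k (Finset.univ.sup s))).op)).app (op (W i)) p := by
    intro d
    induction d with
    | zero => rintro _ rfl _; exact ⟨p, rfl⟩
    | succ d ih =>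
      rintro _ rfl hkm
      obtain ⟨w, hw⟩ := ih (k + Finset.univ.sup s + d) rfl (by omega)
      obtain ⟨w', hw'⟩ := hs i (k := k) (m := k + Finset.univ.sup s + d) (by omega) (by omega) w
      exact ⟨w', hw'.trans hw⟩
  obtain ⟨w, hw⟩ := hstep (r - Finset.univ.sup s) (k + r) (by omega) (by omega)
  have e1 : (U.map (ARSys.shiftMap S (Finset.univ.sup s) k)).hom.app (op (W i))
      ((secMap R U Q Φ (L (k + Finset.univ.sup s))).app (op (W i)) p) =
      (U.map (ARSys.shiftMap S r k)).hom.app (op (W i)) ((secMap R U Q Φ (L (k + r))).app (op (W i)) w) :=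
    (hT (Nat.le_add_right k (Finset.univ.sup s)) p).trans
      ((congrArg ((secMap R U Q Φ (L k)).app (op (W i))) hw.symm).trans (hT (Nat.le_add_right k r) w).symm)
  refine (ConcreteCategory.congr_hom (NatTrans.congr_app (congrArg (fun φ => φ.hom)
    (U.map_comp (ARSys.shiftMap S (Finset.univ.sup s) k) (cokernel.π (ARSys.shiftMap S r k)))) (op (W i))) _).trans ?_
  refine (congrArg ((U.map (cokernel.π (ARSys.shiftMap S r k))).hom.app (op (W i))) e1).trans ?_
  refine (ConcreteCategory.congr_hom (NatTrans.congr_app (congrArg (fun φ => φ.hom)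
    ((U.map_comp _ _).symm.trans ((congrArg U.map (cokernel.condition (ARSys.shiftMap S r k))).trans (U.map_zero _ _)))) (op (W i))) _).trans ?_
  rfl

end GrothLib.FCoh7
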