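import Groth.Agent.Lib.FCoh7.LevelRpush
import Groth.Agent.Lib.FCoh7.BasicLoc
import Groth.Agent.Lib.FCoh7.SheafifiedML

/-!
# Mittag-Leffler for the higher direct images of the levels
-/

set_option autoImplicit false
set_option linter.style.haveILetI false
set_option linter.unusedSectionVars false
set_option backward.isDefEq.respectTransparency false
universe u

open CategoryTheory CategoryTheory.Limits AlgebraicGeometry Opposite TopologicalSpace Abelian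

noncomputable section

namespace GrothLib.FCoh7

open GrothLib.SheafCoh

variable {𝔛 𝔜 : FSch.Sys.{u}} (h𝔛 : 𝔛.IsFormal) (f : 𝔛 ⟶ 𝔜) (h𝔜 : 𝔜.IsFormal)
  [HasInjectiveResolutions (FSch.ModF 𝔛 h𝔛)] (𝔉 : FSch.ModF 𝔛 h𝔛) [FSch.IsCohF 𝔛 h𝔛 𝔉]

/-- A map out of `R^q f_*` of a level vanishing over an affine open vanishes over its basic opens. -/
theorem eq_zero_basicOpen_rpush (hN : 𝔛.IsLocNoethFormal) (hN' : 𝔜.IsLocNoethFormal) (hf : FSch.IsProperHom f)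
    (q : ℕ) {W : (𝔜.X 0).Opens} (hW : IsAffineOpen W) (g : FMod7.Sec 𝔜 h𝔜 W) (m : ℕ) {Z : FSch.ModF 𝔜 h𝔜}
    (c : (FSch.RpushF f h𝔛 h𝔜 q).obj (levObj h𝔛 𝔉 m) ⟶ Z) (hc : ∀ x, c.val.app (op W) x = 0)
    (y : ((FSch.RpushF f h𝔛 h𝔜 q).obj (levObj h𝔛 𝔉 m)).val.obj (op (secBasicOpen h𝔜 g))) :
    c.val.app (op (secBasicOpen h𝔜 g)) y = 0 := by
  haveI := quasiCompact_level h𝔛 h𝔜 f hf m
  haveI := hN.2.2 m
  haveI : ((FSch.levelMor 𝔛 h𝔛 m).pull.obj 𝔉).IsQuasicoherent := (FMod7.isCoh_pullSys (F := 𝔉) m).1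
  haveI : IsGrothendieckAbelian.{u} (𝔛.X m).Modules :=
    SheafCoh.isGrothendieckAbelian_sheafOfModules (R := (𝔛.X m).ringCatSheaf)
  haveI : HasInjectiveResolutions (𝔛.X m).Modules := inferInstance
  obtain ⟨e⟩ := nonempty_rpushF_level_iso h𝔛 f h𝔜 m q ((FSch.levelMor 𝔛 h𝔛 m).pull.obj 𝔉)
  haveI := Cohom.isQuasicoherent_Rpush ((f : FSch.Hom 𝔛 𝔜).app m) ((FSch.levelMor 𝔛 h𝔛 m).pull.obj 𝔉) q
  have h := eq_zero_basicOpen_of_level h𝔜 hN' hW g m _ (e.inv ≫ c) (fun x => hc _)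
    (e.hom.val.app (op (secBasicOpen h𝔜 g)) y)
  refine Eq.trans ?_ h
  exact congrArg (fun z => c.val.app (op (secBasicOpen h𝔜 g)) z)
    (congrArg (fun φ : (FSch.RpushF f h𝔛 h𝔜 q).obj (levObj h𝔛 𝔉 m) ⟶ _ => φ.val.app (op (secBasicOpen h𝔜 g)) y)
      e.hom_inv_id).symm

/-- The transition between two levels. -/
abbrev levMap {k m : ℕ} (hkm : k ≤ m) : levObj h𝔛 𝔉 m ⟶ levObj h𝔛 𝔉 k :=
  (Functor.ofOpSequence (X := levObj h𝔛 𝔉) (FSch.levelTrans 𝔛 h𝔛 𝔉)).map (homOfLE hkm).op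

include h𝔜 in
theorem uniform_cohPre (hN' : 𝔜.IsLocNoethFormal) (hf : FSch.IsProperHom f) (q : ℕ) {W : (𝔜.X 0).Opens}
    (hW : IsAffineOpen W) :
    ∃ s₀ : ℕ, ∀ {k m : ℕ} (hkm : k ≤ m), k + s₀ ≤ m → ∀ y : ((cohPreF h𝔛 f q).obj (levObj h𝔛 𝔉 m)).obj (op W),
      ∃ w : ((cohPreF h𝔛 f q).obj (levObj h𝔛 𝔉 (m + 1))).obj (op W),
        ((cohPreF h𝔛 f q).map (levMap h𝔛 𝔉 (Nat.le_succ_of_le hkm))).app (op W) w =
          ((cohPreF h𝔛 f q).map (levMap h𝔛 𝔉 hkm)).app (op W) y := by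
  obtain ⟨s₀, hs⟩ := uniform_levels_open h𝔛 hN' f hf 𝔉 hW q
  let V := (Opens.map ((f : FSch.Hom 𝔛 𝔜).app 0).base).obj W
  have hmap : ∀ {k m : ℕ} (hkm : k ≤ m), (lvTower h𝔛 𝔉).map (homOfLE hkm).op =
      (SheafOfModules.toSheaf _).map (levMap h𝔛 𝔉 hkm) := by
    intro k m hkm
    let τ : lvTower h𝔛 𝔉 ⟶ Functor.ofOpSequence (X := levObj h𝔛 𝔉) (FSch.levelTrans 𝔛 h𝔛 𝔉) ⋙ SheafOfModules.toSheaf _ :=
      NatTrans.ofOpSequence (fun k => 𝟙 (ModSite.toAb (levObj h𝔛 𝔉 k))) fun k =>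
        ((Category.comp_id _).trans (lvTower_map_succ h𝔛 𝔉 k)).trans
          ((congrArg (SheafOfModules.toSheaf _).map
            (Functor.ofOpSequence_map_homOfLE_succ (X := levObj h𝔛 𝔉) (FSch.levelTrans 𝔛 h𝔛 𝔉) k)).symm.trans (Category.id_comp _).symm)
    exact (Category.comp_id _).symm.trans ((τ.naturality (homOfLE hkm).op).trans (Category.id_comp _))
  refine ⟨s₀, fun {k m} hkm hm y => ?_⟩
  obtain ⟨w, hw⟩ := hs hkm hm (HUext (ModSite.toAb (levObj h𝔛 𝔉 m)) q V y)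
  rw [hmap hkm, hmap (Nat.le_succ_of_le hkm)] at hw
  refine ⟨(HUext (ModSite.toAb (levObj h𝔛 𝔉 (m + 1))) q V).symm w, (HUext (ModSite.toAb (levObj h𝔛 𝔉 k)) q V).injective ?_⟩
  refine ((HUext_cohPreF_map h𝔛 f _ q W _).trans ?_).trans (HUext_cohPreF_map h𝔛 f _ q W y).symm
  exact (congrArg (fun t => Ext.comp t (Ext.mk₀ _) (add_zero q))
    ((HUext (ModSite.toAb (levObj h𝔛 𝔉 (m + 1))) q V).apply_symm_apply w)).trans hw

theorem rpushF_levels_isML (hN : 𝔛.IsLocNoethFormal) (hN' : 𝔜.IsLocNoethFormal) [CompactSpace (𝔜.X 0)]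
    (hf : FSch.IsProperHom f) (q : ℕ) :
    ARSys.IsML (Functor.ofOpSequence (X := fun k => (FSch.RpushF f h𝔛 h𝔜 q).obj (levObj h𝔛 𝔉 k))
      (fun k => (FSch.RpushF f h𝔛 h𝔜 q).map (FSch.levelTrans 𝔛 h𝔛 𝔉 k))) := by
  obtain ⟨Φ⟩ := nonempty_rpushF_natIso h𝔛 f h𝔜 q
  obtain ⟨I, hI, hc⟩ := (isCompact_iff_finite_and_eq_biUnion_affineOpens (X := 𝔜.X 0) (U := ⊤)).1 isCompact_univ
  haveI : Finite I := hI.to_subtype
  let n := Nat.card I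
  let eI : Fin n ≃ I := (Finite.equivFin I).symm
  let W : Fin n → (𝔜.X 0).Opens := fun i => (eI i).1.1
  have hW : ∀ i, IsAffineOpen (W i) := fun i => (eI i).1.2
  let B : Set (Opens (𝔜.X 0).toTopCat) := {D | ∃ (i : Fin n) (g : FMod7.Sec 𝔜 h𝔜 (W i)), D = secBasicOpen h𝔜 g}
  have hB : Opens.IsBasis B := by
    refine Opens.isBasis_iff_nbhd.2 fun {U} x hx => ?_
    have hx' : x ∈ (⊤ : (𝔜.X 0).Opens) := trivial
    rw [hc, Opens.mem_iSup] at hx'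
    obtain ⟨a, ha⟩ := hx'
    obtain ⟨haI, hxa⟩ := Opens.mem_iSup.1 ha
    let i := eI.symm ⟨a, haI⟩
    have hxW : x ∈ 𝔜.lvU h𝔜 0 (W i) := by
      rw [lvU_zero]
      show x ∈ (eI i).1.1
      rw [eI.apply_symm_apply]
      exact hxa
    obtain ⟨b, hb, hxb⟩ := (FFormal7.isAffineOpen_lvU 𝔜 h𝔜 (hW i) 0).exists_basicOpen_le ⟨x, hx⟩ hxW
    obtain ⟨g, rfl⟩ := FMod7.proj_surjective (h := h𝔜) hN' (hW i) 0 b
    exact ⟨_, ⟨i, g, rfl⟩, hxb, hb⟩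
  exact isML_of_sheafified (FSch.RpushF f h𝔛 h𝔜 q) (SheafOfModules.toSheaf _) (cohPreF h𝔛 f q) Φ (levObj h𝔛 𝔉)
    (FSch.levelTrans 𝔛 h𝔛 𝔉) W (fun k i => bijective_toSheafify_cohPre h𝔛 𝔉 h𝔜 f hN hf q k (hW i)) hB
    (by
      rintro D ⟨i, g, rfl⟩
      exact ⟨i, fun m Z c hc y => eq_zero_basicOpen_rpush h𝔛 f h𝔜 𝔉 hN hN' hf q (hW i) g m c hc y⟩)
    (fun i => uniform_cohPre h𝔛 f h𝔜 𝔉 hN' hf q (hW i))

end GrothLib.FCoh7
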