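import Groth.Agent.Lib.FCoh7.RpushFin
import Groth.Agent.Lib.FCoh7.RpushML
import Groth.Agent.Lib.FCoh7.LocPres
import Groth.Agent.Lib.FMod7.Coh
import Groth.Agent.Lib.FMod7.Ideals

/-!
# Higher direct images of coherent modules along proper morphisms of formal schemes are coherent
-/

set_option autoImplicit false
set_option linter.style.haveILetI false
set_option linter.unusedSectionVars false
set_option backward.isDefEq.respectTransparency false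
universe u

open CategoryTheory CategoryTheory.Limits AlgebraicGeometry Opposite TopologicalSpace Abelian

noncomputable section

namespace GrothLib.FCoh7

open GrothLib.SheafCoh

/-- Restriction of sections. -/
def msRes {𝔜 : FSch.Sys.{u}} (h𝔜 : 𝔜.IsFormal) (G : FSch.ModF 𝔜 h𝔜) {W V : (𝔜.X 0).Opens} (hVW : V ≤ W) :
    MSecF h𝔜 G W →+ MSecF h𝔜 G V :=
  (G.val.map (homOfLE hVW).op).hom.toAddMonoidHom

theorem msRes_smul {𝔜 : FSch.Sys.{u}} (h𝔜 : 𝔜.IsFormal) (G : FSch.ModF 𝔜 h𝔜) {W V : (𝔜.X 0).Opens} (hVW : V ≤ W)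
    (b : FMod7.Sec 𝔜 h𝔜 W) (x : MSecF h𝔜 G W) :
    msRes h𝔜 G hVW (b • x) = FMod7.rRes hVW b • msRes h𝔜 G hVW x :=
  PresheafOfModules.map_smul _ _ _ _

theorem msRes_msMap {𝔜 : FSch.Sys.{u}} (h𝔜 : 𝔜.IsFormal) {G G' : FSch.ModF 𝔜 h𝔜} (φ : G ⟶ G')
    {W V : (𝔜.X 0).Opens} (hVW : V ≤ W) (x : MSecF h𝔜 G W) :
    msRes h𝔜 G' hVW (msMap h𝔜 φ W x) = msMap h𝔜 φ V (msRes h𝔜 G hVW x) :=
  (PresheafOfModules.naturality_apply φ.val (homOfLE hVW).op x).symm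

variable {𝔜 : FSch.Sys.{u}} (h𝔜 : 𝔜.IsFormal) {W : (𝔜.X 0).Opens}

/-- Sections over a basic open of a quasi-coherent module on a level are localisations of sections over the affine. -/
theorem localises_level (hW : IsAffineOpen W) (g : FMod7.Sec 𝔜 h𝔜 W) (k : ℕ) (Q : (𝔜.X k).Modules)
    [Q.IsQuasicoherent] {G : FSch.ModF 𝔜 h𝔜} (e : G ≅ (FSch.levelMor 𝔜 h𝔜 k).push.obj Q) :
    (∀ y : MSecF h𝔜 G (secBasicOpen h𝔜 g), ∃ (N : ℕ) (z : MSecF h𝔜 G W),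
      msRes h𝔜 G (secBasicOpen_le h𝔜 g) z = FMod7.rRes (secBasicOpen_le h𝔜 g) g ^ N • y) ∧
    ∀ z : MSecF h𝔜 G W, msRes h𝔜 G (secBasicOpen_le h𝔜 g) z = 0 → ∃ N : ℕ, g ^ N • z = 0 := by
  let hle := secBasicOpen_le h𝔜 g
  let P := (FSch.levelMor 𝔜 h𝔜 k).push.obj Q
  let gm : Γ(𝔜.X k, 𝔜.lvU h𝔜 k W) := FMod7.proj 𝔜 h𝔜 W k g
  have he := lvU_basicOpen h𝔜 g k
  obtain ⟨hL, hS⟩ := QCoh.smulLift_and_smulSep_of_isAffineOpen (FFormal7.isAffineOpen_lvU 𝔜 h𝔜 hW k) Q gm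
  have hinv : ∀ (U : (𝔜.X 0).Opens) (x : MSecF h𝔜 G U), msMap h𝔜 e.inv U (msMap h𝔜 e.hom U x) = x := fun U x =>
    congrArg (fun φ : G ⟶ G => φ.val.app (op U) x) e.hom_inv_id
  constructor
  · intro y
    let y' : MSecF h𝔜 P (secBasicOpen h𝔜 g) := msMap h𝔜 e.hom _ y
    obtain ⟨N, z, hz⟩ := hL (Q.presheaf.map (homOfLE he.ge).op y')
    have key : msRes h𝔜 P hle (show MSecF h𝔜 P W from z) = FMod7.rRes hle g ^ N • y' := by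
      show Q.presheaf.map ((Opens.map (𝔜.gInv h𝔜 k)).map (homOfLE hle)).op z =
        (show Γ(𝔜.X k, 𝔜.lvU h𝔜 k (secBasicOpen h𝔜 g)) from FMod7.proj 𝔜 h𝔜 _ k (FMod7.rRes hle g ^ N)) •
          (show Γ(Q, 𝔜.lvU h𝔜 k (secBasicOpen h𝔜 g)) from y')
      have hd : FMod7.proj 𝔜 h𝔜 (secBasicOpen h𝔜 g) k (FMod7.rRes hle g) =
          (𝔜.X k).presheaf.map ((Opens.map (𝔜.gInv h𝔜 k)).map (homOfLE hle)).op gm := FMod7.proj_res h𝔜 W hle k g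
      rw [map_pow, hd]
      refine ((QCoh.rr_rr ((𝔜.X k).basicOpen_le gm) he.le z).symm.trans ?_)
      refine (congrArg (QCoh.rr (F := Q) he.le) hz).trans ?_
      refine (QCoh.rr_smul he.le _ _).trans (congrArg₂ (· • ·) ?_ ?_)
      · rw [map_pow]
        exact congrArg (· ^ N) (ConcreteCategory.congr_hom ((𝔜.X k).presheaf.map_comp
          (homOfLE ((𝔜.X k).basicOpen_le gm)).op (homOfLE he.le).op) gm).symm
      · exact (QCoh.rr_rr he.ge he.le y').trans (QCoh.rr_self _ _)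
    refine ⟨N, msMap h𝔜 e.inv W z, ?_⟩
    rw [msRes_msMap, key, map_smul, hinv]
  · intro z hz
    let z' : MSecF h𝔜 P W := msMap h𝔜 e.hom W z
    have h0 : Q.presheaf.map (homOfLE ((𝔜.X k).basicOpen_le gm)).op z' = 0 := by
      have h1 : msRes h𝔜 P hle z' = 0 := by rw [msRes_msMap, hz, map_zero]
      refine (QCoh.rr_rr ((Opens.map (𝔜.gInv h𝔜 k)).map (homOfLE hle)).le he.ge _).symm.trans ?_
      exact (congrArg (QCoh.rr (F := Q) he.ge) h1).trans (map_zero _)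
    obtain ⟨N, hN⟩ := hS z' h0
    refine ⟨N, ?_⟩
    have h1 : g ^ N • z' = 0 := by
      show (show Γ(𝔜.X k, 𝔜.lvU h𝔜 k W) from FMod7.proj 𝔜 h𝔜 W k (g ^ N)) • (show Γ(Q, 𝔜.lvU h𝔜 k W) from z') = 0
      rw [map_pow]
      exact hN
    have h2 := congrArg (msMap h𝔜 e.inv W) h1
    rw [map_smul, map_zero, hinv] at h2
    exact h2

/-- Functions on a basic open are approximated by fractions. -/
theorem exists_pow_mul_sub_mem (hN : 𝔜.IsLocNoethFormal) (hW : IsAffineOpen W) (g : FMod7.Sec 𝔜 h𝔜 W) (K : ℕ)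
    (a : FMod7.Sec 𝔜 h𝔜 (secBasicOpen h𝔜 g)) : ∃ (N : ℕ) (b : FMod7.Sec 𝔜 h𝔜 W),
      FMod7.rRes (secBasicOpen_le h𝔜 g) g ^ N * a - FMod7.rRes (secBasicOpen_le h𝔜 g) b ∈
        FMod7.secIdeal 𝔜 h𝔜 (secBasicOpen h𝔜 g) ^ (K + 1) := by
  let hle := secBasicOpen_le h𝔜 g
  let gm : Γ(𝔜.X K, 𝔜.lvU h𝔜 K W) := FMod7.proj 𝔜 h𝔜 W K g
  have he := lvU_basicOpen h𝔜 g K
  have hD : IsAffineOpen (secBasicOpen h𝔜 g) := (FFormal7.isAffineOpen_lvU 𝔜 h𝔜 hW 0).basicOpen _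
  haveI := (FFormal7.isAffineOpen_lvU 𝔜 h𝔜 hW K).isLocalization_basicOpen gm
  obtain ⟨⟨x, s⟩, hxs⟩ := IsLocalization.surj (Submonoid.powers gm)
    ((𝔜.X K).presheaf.map (homOfLE he.ge).op (FMod7.proj 𝔜 h𝔜 _ K a))
  obtain ⟨N, hN'⟩ := s.2
  obtain ⟨b, rfl⟩ := FMod7.proj_surjective (h := h𝔜) hN hW K x
  refine ⟨N, b, (FMod7.ker_proj (h := h𝔜) hN hD K).le ?_⟩
  have hp : ∀ t : FMod7.Sec 𝔜 h𝔜 W, FMod7.proj 𝔜 h𝔜 (secBasicOpen h𝔜 g) K (FMod7.rRes hle t) =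
      (𝔜.X K).presheaf.map ((Opens.map (𝔜.gInv h𝔜 K)).map (homOfLE hle)).op (FMod7.proj 𝔜 h𝔜 W K t) :=
    fun t => FMod7.proj_res h𝔜 W hle K t
  rw [RingHom.mem_ker, map_sub, sub_eq_zero, map_mul, map_pow, hp, hp]
  have hres : ∀ t : Γ(𝔜.X K, 𝔜.lvU h𝔜 K W), (𝔜.X K).presheaf.map ((Opens.map (𝔜.gInv h𝔜 K)).map (homOfLE hle)).op t =
      (𝔜.X K).presheaf.map (homOfLE he.le).op ((𝔜.X K).presheaf.map (homOfLE ((𝔜.X K).basicOpen_le gm)).op t) :=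
    fun t => ConcreteCategory.congr_hom ((𝔜.X K).presheaf.map_comp (homOfLE ((𝔜.X K).basicOpen_le gm)).op
      (homOfLE he.le).op) t
  have hback : (𝔜.X K).presheaf.map (homOfLE he.le).op
      ((𝔜.X K).presheaf.map (homOfLE he.ge).op (FMod7.proj 𝔜 h𝔜 (secBasicOpen h𝔜 g) K a)) = FMod7.proj 𝔜 h𝔜 _ K a :=
    (ConcreteCategory.congr_hom ((𝔜.X K).presheaf.map_comp (homOfLE he.ge).op (homOfLE he.le).op) _).symm.trans
      (ConcreteCategory.congr_hom ((𝔜.X K).presheaf.map_id _) _)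
  rw [hres, hres, ← hback, ← map_pow, ← map_mul]
  refine congrArg ((𝔜.X K).presheaf.map (homOfLE he.le).op) ?_
  refine Eq.trans ?_ hxs
  rw [← hN', map_pow, mul_comm]
  rfl

variable {𝔛 : FSch.Sys.{u}} (h𝔛 : 𝔛.IsFormal) (f : 𝔛 ⟶ 𝔜) [HasInjectiveResolutions (FSch.ModF 𝔛 h𝔛)]
  (𝔉 : FSch.ModF 𝔛 h𝔛) [FSch.IsCohF 𝔛 h𝔛 𝔉]

/-- The projection to a level. -/
abbrev rProj (q k : ℕ) : (FSch.RpushF f h𝔛 h𝔜 q).obj 𝔉 ⟶ (FSch.RpushF f h𝔛 h𝔜 q).obj (levObj h𝔛 𝔉 k) :=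
  (FSch.RpushF f h𝔛 h𝔜 q).map ((FSch.levelMor 𝔛 h𝔛 k).adj.unit.app 𝔉)

theorem rProj_trans (q k : ℕ) :
    rProj h𝔜 h𝔛 f 𝔉 q (k + 1) ≫ (FSch.RpushF f h𝔛 h𝔜 q).map (FSch.levelTrans 𝔛 h𝔛 𝔉 k) = rProj h𝔜 h𝔛 f 𝔉 q k :=
  ((FSch.RpushF f h𝔛 h𝔜 q).map_comp _ _).symm.trans
    (congrArg (FSch.RpushF f h𝔛 h𝔜 q).map (FSch.unit_levelTrans 𝔛 h𝔛 𝔉 k))

theorem eq_zero_of_rProj (hN : 𝔛.IsLocNoethFormal) (hN' : 𝔜.IsLocNoethFormal) (hf : FSch.IsProperHom f) (q : ℕ)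
    (V : (𝔜.X 0).Opens) (x : MSecF h𝔜 ((FSch.RpushF f h𝔛 h𝔜 q).obj 𝔉) V)
    (hx : ∀ k, msMap h𝔜 (rProj h𝔜 h𝔛 f 𝔉 q k) V x = 0) : x = 0 := by
  obtain ⟨e, he⟩ := exists_rpushF_limit_iso h𝔛 f h𝔜 𝔉 hN hN' hf q
  let S := Functor.ofOpSequence (X := fun k => (FSch.RpushF f h𝔛 h𝔜 q).obj (levObj h𝔛 𝔉 k))
    (fun k => (FSch.RpushF f h𝔛 h𝔜 q).map (FSch.levelTrans 𝔛 h𝔛 𝔉 k))
  have hl := isLimitOfPreserves (FMod7.modSec h𝔜 V) (limit.isLimit S)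
  have h0 : msMap h𝔜 e.hom V x = 0 := (Types.isLimitEquivSections hl).injective (Subtype.ext (funext fun k => by
    refine (congrArg (fun φ : (FSch.RpushF f h𝔛 h𝔜 q).obj 𝔉 ⟶ _ => φ.val.app (op V) x) (he k.unop)).trans ?_
    exact (hx k.unop).trans (map_zero ((limit.π S k).val.app (op V)).hom).symm))
  have h1 : msMap h𝔜 e.inv V (msMap h𝔜 e.hom V x) = x :=
    congrArg (fun φ : (FSch.RpushF f h𝔛 h𝔜 q).obj 𝔉 ⟶ (FSch.RpushF f h𝔛 h𝔜 q).obj 𝔉 => φ.val.app (op V) x) e.hom_inv_id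
  rw [← h1, h0, map_zero]

/-- A class on a high level comes, on the lower level, from the limit. -/
theorem exists_rProj_eq (hN : 𝔛.IsLocNoethFormal) (hN' : 𝔜.IsLocNoethFormal) (hf : FSch.IsProperHom f) (q : ℕ)
    (hW : IsAffineOpen W) : ∃ s₀ : ℕ, ∀ (k : ℕ) (y : MSecF h𝔜 ((FSch.RpushF f h𝔛 h𝔜 q).obj (levObj h𝔛 𝔉 (k + s₀))) W),
      ∃ x : MSecF h𝔜 ((FSch.RpushF f h𝔛 h𝔜 q).obj 𝔉) W, msMap h𝔜 (rProj h𝔜 h𝔛 f 𝔉 q k) W x =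
        msMap h𝔜 ((FSch.RpushF f h𝔛 h𝔜 q).map (levMap h𝔛 𝔉 (Nat.le_add_right k s₀))) W y := by
  obtain ⟨Φ⟩ := nonempty_rpushF_natIso h𝔛 f h𝔜 q
  obtain ⟨s₀, hs⟩ := uniform_cohPre h𝔛 f h𝔜 𝔉 hN' hf q hW
  let Q := cohPreF h𝔛 f q
  let S := Functor.ofOpSequence (X := levObj h𝔛 𝔉) (FSch.levelTrans 𝔛 h𝔛 𝔉)
  let T : ∀ {j m : ℕ}, j ≤ m → (Q.obj (levObj h𝔛 𝔉 m)).obj (op W) →+ (Q.obj (levObj h𝔛 𝔉 j)).obj (op W) :=
    fun h => ((Q.map (levMap h𝔛 𝔉 h)).app (op W)).hom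
  have hcomp : ∀ {i j m : ℕ} (h₁ : i ≤ j) (h₂ : j ≤ m) y, T h₁ (T h₂ y) = T (h₁.trans h₂) y := fun {i j m} h₁ h₂ y => by
    have : levMap h𝔛 𝔉 (h₁.trans h₂) = levMap h𝔛 𝔉 h₂ ≫ levMap h𝔛 𝔉 h₁ :=
      (congrArg S.map (Subsingleton.elim _ ((homOfLE h₂).op ≫ (homOfLE h₁).op))).trans (S.map_comp _ _)
    show _ = ((Q.map (levMap h𝔛 𝔉 (h₁.trans h₂))).app (op W)).hom y
    rw [this, Functor.map_comp]
    rfl
  have hsucc : ∀ j, levMap h𝔛 𝔉 (Nat.le_succ j) = FSch.levelTrans 𝔛 h𝔛 𝔉 j := fun j =>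
    Functor.ofOpSequence_map_homOfLE_succ (X := levObj h𝔛 𝔉) (FSch.levelTrans 𝔛 h𝔛 𝔉) j
  let Bs : ℕ → Type u := fun j => Set.range (T (Nat.le_add_right j s₀))
  let us : ∀ j, Bs (j + 1) → Bs j := fun j z => ⟨T (Nat.le_succ j) z.1, by
    obtain ⟨y, hy⟩ := z.2
    exact ⟨T (show j + s₀ ≤ j + 1 + s₀ by omega) y, by rw [← hy, hcomp, hcomp]⟩⟩
  have hus : ∀ j, Function.Surjective (us j) := by
    rintro j ⟨_, y, rfl⟩
    obtain ⟨w, hw⟩ := hs (Nat.le_add_right j s₀) le_rfl y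
    have e : j + s₀ + 1 = j + 1 + s₀ := by omega
    have key : ∀ (m : ℕ) (_ : j + s₀ + 1 = m) (hm : j + 1 ≤ m) (hm' : j ≤ m),
        ∃ w', T hm' w' = T (Nat.le_add_right j s₀) y := by
      rintro m rfl hm hm'
      exact ⟨w, hw⟩
    obtain ⟨w', hw'⟩ := key _ e (Nat.le_add_right _ _) (by omega)
    exact ⟨⟨T (Nat.le_add_right (j + 1) s₀) w', w', rfl⟩, Subtype.ext ((hcomp _ _ w').trans hw')⟩
  refine ⟨s₀, fun k y => ?_⟩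
  have hb : ∀ m, Function.Bijective ((secMap (FSch.RpushF f h𝔛 h𝔜 q) (SheafOfModules.toSheaf _) Q Φ
      (levObj h𝔛 𝔉 m)).app (op W)) := fun m =>
    (ConcreteCategory.bijective_of_isIso ((Φ.inv.app (levObj h𝔛 𝔉 m)).hom.app (op W))).comp
      (bijective_toSheafify_cohPre h𝔛 𝔉 h𝔜 f hN hf q m hW)
  obtain ⟨y', hy'⟩ := (hb (k + s₀)).surjective y
  subst hy'
  obtain ⟨s, hs', hsk⟩ := AdicLim.exists_compatible_family k Bs us hus ⟨_, y', rfl⟩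
  obtain ⟨x, hx⟩ := (ext_lim_open h𝔛 f 𝔉 hN hN' hf q hW).2 (fun j => (s j).1) fun j =>
    (congrArg (fun φ => (Q.map φ).app (op W) (s (j + 1)).1) (hsucc j).symm).trans (congrArg Subtype.val (hs' j))
  refine ⟨(secMap (FSch.RpushF f h𝔛 h𝔜 q) (SheafOfModules.toSheaf _) Q Φ 𝔉).app (op W) x, ?_⟩
  refine (secMap_naturality (FSch.RpushF f h𝔛 h𝔜 q) (SheafOfModules.toSheaf _) Q Φ _ (op W) x).trans ?_
  refine Eq.trans ?_ (secMap_naturality (FSch.RpushF f h𝔛 h𝔜 q) (SheafOfModules.toSheaf _) Q Φ _ (op W) y').symm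
  exact congrArg _ ((hx k).trans (congrArg Subtype.val hsk))

/-- The sections of a level over a basic open are localisations. -/
theorem localises_rpush_level (hN : 𝔛.IsLocNoethFormal) (hf : FSch.IsProperHom f) (q k : ℕ) (hW : IsAffineOpen W)
    (g : FMod7.Sec 𝔜 h𝔜 W) :
    (∀ y : MSecF h𝔜 ((FSch.RpushF f h𝔛 h𝔜 q).obj (levObj h𝔛 𝔉 k)) (secBasicOpen h𝔜 g), ∃ (N : ℕ)
      (z : MSecF h𝔜 ((FSch.RpushF f h𝔛 h𝔜 q).obj (levObj h𝔛 𝔉 k)) W),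
      msRes h𝔜 _ (secBasicOpen_le h𝔜 g) z = FMod7.rRes (secBasicOpen_le h𝔜 g) g ^ N • y) ∧
    ∀ z : MSecF h𝔜 ((FSch.RpushF f h𝔛 h𝔜 q).obj (levObj h𝔛 𝔉 k)) W,
      msRes h𝔜 _ (secBasicOpen_le h𝔜 g) z = 0 → ∃ N : ℕ, g ^ N • z = 0 := by
  haveI := quasiCompact_level h𝔛 h𝔜 f hf k
  haveI := hN.2.2 k
  haveI : ((FSch.levelMor 𝔛 h𝔛 k).pull.obj 𝔉).IsQuasicoherent := (FMod7.isCoh_pullSys (F := 𝔉) k).1
  haveI : IsGrothendieckAbelian.{u} (𝔛.X k).Modules :=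
    SheafCoh.isGrothendieckAbelian_sheafOfModules (R := (𝔛.X k).ringCatSheaf)
  haveI : HasInjectiveResolutions (𝔛.X k).Modules := inferInstance
  obtain ⟨e⟩ := nonempty_rpushF_level_iso h𝔛 f h𝔜 k q ((FSch.levelMor 𝔛 h𝔛 k).pull.obj 𝔉)
  haveI := Cohom.isQuasicoherent_Rpush ((f : FSch.Hom 𝔛 𝔜).app k) ((FSch.levelMor 𝔛 h𝔛 k).pull.obj 𝔉) q
  exact localises_level h𝔜 hW g k _ e

/-- A level is killed by a power of the ideal of definition. -/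
theorem smul_level_eq_zero (hN : 𝔛.IsLocNoethFormal) (hN' : 𝔜.IsLocNoethFormal) (q k : ℕ) (hW : IsAffineOpen W)
    (a : FMod7.Sec 𝔜 h𝔜 W) (ha : a ∈ FMod7.secIdeal 𝔜 h𝔜 W ^ (k + 1))
    (x : MSecF h𝔜 ((FSch.RpushF f h𝔛 h𝔜 q).obj (levObj h𝔛 𝔉 k)) W) : a • x = 0 := by
  haveI : IsGrothendieckAbelian.{u} (𝔛.X k).Modules :=
    SheafCoh.isGrothendieckAbelian_sheafOfModules (R := (𝔛.X k).ringCatSheaf)
  haveI : HasInjectiveResolutions (𝔛.X k).Modules := inferInstance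
  obtain ⟨e⟩ := nonempty_rpushF_level_iso h𝔛 f h𝔜 k q ((FSch.levelMor 𝔛 h𝔛 k).pull.obj 𝔉)
  let Q : (𝔜.X k).Modules :=
    (Coh.Rpush ((f : FSch.Hom 𝔛 𝔜).app k) q).obj ((FSch.levelMor 𝔛 h𝔛 k).pull.obj 𝔉)
  let P := (FSch.levelMor 𝔜 h𝔜 k).push.obj Q
  let x' : MSecF h𝔜 P W := msMap h𝔜 e.hom W x
  have h0 : a • x' = 0 := by
    show (show Γ(𝔜.X k, 𝔜.lvU h𝔜 k W) from FMod7.proj 𝔜 h𝔜 W k a) • (show Γ(Q, 𝔜.lvU h𝔜 k W) from x') = 0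
    rw [show FMod7.proj 𝔜 h𝔜 W k a = 0 from (FMod7.ker_proj (h := h𝔜) hN' hW k).ge ha]
    exact zero_smul _ _
  have h1 : msMap h𝔜 e.inv W x' = x :=
    congrArg (fun φ : (FSch.RpushF f h𝔛 h𝔜 q).obj (levObj h𝔛 𝔉 k) ⟶ _ => φ.val.app (op W) x) e.hom_inv_id
  rw [← h1, ← map_smul, h0, map_zero]

/-- Over an affine open the higher direct image has a finite presentation. -/
theorem exists_presentation_rpushF (hN : 𝔛.IsLocNoethFormal) (hN' : 𝔜.IsLocNoethFormal) (hf : FSch.IsProperHom f)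
    (q : ℕ) (hW : IsAffineOpen W) :
    ∃ P : ((ModSite.restr (𝔜.Osh h𝔜) W).obj ((FSch.RpushF f h𝔛 h𝔜 q).obj 𝔉)).Presentation, P.IsFinite := by
  classical
  haveI := FMod7.isNoetherianRing_Sec (h := h𝔜) hN' hW
  obtain ⟨hfin, c, htop⟩ := rpush_sections_finite h𝔛 f h𝔜 𝔉 hN hN' hf q hW
    (eq_zero_of_rProj h𝔜 h𝔛 f 𝔉 hN hN' hf q W)
  haveI := hfin
  obtain ⟨s₀, hs₀⟩ := exists_rProj_eq h𝔜 h𝔛 f 𝔉 hN hN' hf q hW
  let R := (FSch.RpushF f h𝔛 h𝔜 q).obj 𝔉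
  let M := MSecF h𝔜 R W
  obtain ⟨n, m, hm⟩ := Submodule.fg_iff_exists_fin_generating_family.1
    (Module.Finite.fg_top (R := FMod7.Sec 𝔜 h𝔜 W) (M := M))
  obtain ⟨l, r, hr⟩ := Submodule.fg_iff_exists_fin_generating_family.1
    (IsNoetherian.noetherian (LinearMap.ker (Fintype.linearCombination (FMod7.Sec 𝔜 h𝔜 W) m)))
  have hr' : ∀ k, ∑ i, r k i • m i = 0 := fun k => by
    have hk : r k ∈ LinearMap.ker (Fintype.linearCombination (FMod7.Sec 𝔜 h𝔜 W) m) := hr ▸ Submodule.subset_span ⟨k, rfl⟩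
    rwa [LinearMap.mem_ker, Fintype.linearCombination_apply] at hk
  -- on basic opens
  have hbasic : ∀ g : FMod7.Sec 𝔜 h𝔜 W,
      (Submodule.span (FMod7.Sec 𝔜 h𝔜 (secBasicOpen h𝔜 g))
        (Set.range fun i => msRes h𝔜 R (secBasicOpen_le h𝔜 g) (m i)) = ⊤) ∧
      ∀ y : Fin n → FMod7.Sec 𝔜 h𝔜 (secBasicOpen h𝔜 g),
        ∑ i, y i • msRes h𝔜 R (secBasicOpen_le h𝔜 g) (m i) = 0 → y ∈ Submodule.span (FMod7.Sec 𝔜 h𝔜 (secBasicOpen h𝔜 g))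
          ((fun b : Fin n → FMod7.Sec 𝔜 h𝔜 W => fun i => FMod7.rRes (secBasicOpen_le h𝔜 g) (b i)) ''
            {b | ∑ i, b i • m i = 0}) := by
    intro g
    let D := secBasicOpen h𝔜 g
    let hle := secBasicOpen_le h𝔜 g
    have hD : IsAffineOpen D := (FFormal7.isAffineOpen_lvU 𝔜 h𝔜 hW 0).basicOpen _
    haveI := FMod7.isNoetherianRing_Sec (h := h𝔜) hN' hD
    haveI := FMod7.isAdicComplete_Sec (h := h𝔜) hN' hD
    have hg := isUnit_res_secBasicOpen h𝔜 hN' hW g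
    have hρI : (FMod7.secIdeal 𝔜 h𝔜 W).map (FMod7.rRes hle) ≤ FMod7.secIdeal 𝔜 h𝔜 D :=
      (FMod7.map_secIdeal (h := h𝔜) hN' hW hD hle).le
    let p := fun k => msMap h𝔜 (rProj h𝔜 h𝔛 f 𝔉 q k) W
    let p' := fun k => msMap h𝔜 (rProj h𝔜 h𝔛 f 𝔉 q k) D
    have hres : ∀ k x, p' k (msRes h𝔜 R hle x) = msRes h𝔜 _ hle (p k x) := fun k x =>
      (msRes_msMap h𝔜 _ hle x).symm
    have hlift : ∀ k (y : MSecF h𝔜 R D), ∃ (N : ℕ) (x : M),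
        p' k (msRes h𝔜 R hle x) = FMod7.rRes hle g ^ N • p' k y := fun k y => by
      obtain ⟨N, z, hz⟩ := (localises_rpush_level h𝔜 h𝔛 f 𝔉 hN hf q (k + s₀) hW g).1 (p' (k + s₀) y)
      obtain ⟨x, hx⟩ := hs₀ k z
      refine ⟨N, x, ?_⟩
      rw [hres, hx, msRes_msMap, hz, map_smul]
      refine congrArg (_ • ·) ?_
      refine congrArg (fun φ : R ⟶ (FSch.RpushF f h𝔛 h𝔜 q).obj (levObj h𝔛 𝔉 k) => φ.val.app (op D) y)
        (show rProj h𝔜 h𝔛 f 𝔉 q (k + s₀) ≫ (FSch.RpushF f h𝔛 h𝔜 q).map (levMap h𝔛 𝔉 (Nat.le_add_right k s₀)) =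
          rProj h𝔜 h𝔛 f 𝔉 q k from ?_)
      refine ((FSch.RpushF f h𝔛 h𝔜 q).map_comp _ _).symm.trans (congrArg (FSch.RpushF f h𝔛 h𝔜 q).map ?_)
      let S := Functor.ofOpSequence (X := levObj h𝔛 𝔉) (FSch.levelTrans 𝔛 h𝔛 𝔉)
      let τ : (Functor.const ℕᵒᵖ).obj 𝔉 ⟶ S := NatTrans.ofOpSequence (fun j => (FSch.levelMor 𝔛 h𝔛 j).adj.unit.app 𝔉)
        fun j => (Category.id_comp _).trans ((FSch.unit_levelTrans 𝔛 h𝔛 𝔉 j).symm.trans (congrArg (_ ≫ ·)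
          (Functor.ofOpSequence_map_homOfLE_succ (X := levObj h𝔛 𝔉) (FSch.levelTrans 𝔛 h𝔛 𝔉) j).symm))
      exact (τ.naturality (homOfLE (Nat.le_add_right k s₀)).op).symm.trans (Category.id_comp _)
    have hkill : ∀ k x, p' k (msRes h𝔜 R hle x) = 0 → ∃ N : ℕ, p k (g ^ N • x) = 0 := fun k x hx => by
      rw [hres] at hx
      obtain ⟨N, hN''⟩ := (localises_rpush_level h𝔜 h𝔛 f 𝔉 hN hf q k hW g).2 (p k x) hx
      exact ⟨N, by rw [map_smul]; exact hN''⟩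
    have hsmul' : ∀ (k : ℕ) (a : FMod7.Sec 𝔜 h𝔜 D) (y : MSecF h𝔜 R D),
        a ∈ FMod7.secIdeal 𝔜 h𝔜 D ^ (k + 1) → p' k (a • y) = 0 := fun k a y ha => by
      rw [map_smul]
      exact smul_level_eq_zero h𝔜 h𝔛 f 𝔉 hN hN' q k hD a ha _
    refine ⟨span_res_eq_top (FMod7.rRes hle) g hg hρI (msRes h𝔜 R hle) (msRes_smul h𝔜 R hle) p p' hlift hkill c
      (fun n x hx => htop n x hx) m hm (fun k y hy => ?_) (eq_zero_of_rProj h𝔜 h𝔛 f 𝔉 hN hN' hf q D) hsmul', fun y hy =>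
      relations_res (FMod7.rRes hle) g hg hρI (msRes h𝔜 R hle) (msRes_smul h𝔜 R hle) p p' hkill c
        (fun n x hx => htop n x hx) m hm hsmul' (exists_pow_mul_sub_mem h𝔜 hN' hW g) y hy⟩
    refine (congrArg (fun φ : R ⟶ (FSch.RpushF f h𝔛 h𝔜 q).obj (levObj h𝔛 𝔉 k) => φ.val.app (op D) y)
      (rProj_trans h𝔜 h𝔛 f 𝔉 q k).symm).trans ?_
    exact (congrArg (msMap h𝔜 ((FSch.RpushF f h𝔛 h𝔜 q).map (FSch.levelTrans 𝔛 h𝔛 𝔉 k)) D) hy).trans (map_zero _)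
  -- the basic opens are a basis
  have hbasis : ∀ {V : (𝔜.X 0).Opens} (_ : V ≤ W), ∀ y ∈ V, ∃ g : FMod7.Sec 𝔜 h𝔜 W,
      secBasicOpen h𝔜 g ≤ V ∧ y ∈ secBasicOpen h𝔜 g := by
    intro V hV y hy
    have hy' : y ∈ 𝔜.lvU h𝔜 0 W := (lvU_zero h𝔜 W).ge (hV hy)
    obtain ⟨b, hb, hyb⟩ := (FFormal7.isAffineOpen_lvU 𝔜 h𝔜 hW 0).exists_basicOpen_le ⟨y, hy⟩ hy'
    obtain ⟨g, rfl⟩ := FMod7.proj_surjective (h := h𝔜) hN' hW 0 b
    exact ⟨g, hb, hyb⟩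
  refine FMod7.exists_presentation R (ι := ULift.{u} (Fin n)) (κ := ULift.{u} (Fin l))
    (fun i => m i.down) (fun k i => r k.down i.down) (fun k => ?_) (fun V hV x y hy => ?_) (fun V hV a ha y hy => ?_)
  · exact (Equiv.ulift.sum_comp fun i => r k.down i • m i).trans (hr' k.down)
  · obtain ⟨g, hgV, hyg⟩ := hbasis hV y hy
    refine ⟨secBasicOpen h𝔜 g, hgV, hyg, ?_⟩
    refine Submodule.span_mono ?_ ((hbasic g).1.symm ▸ Submodule.mem_top :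
      msRes h𝔜 R hgV x ∈ Submodule.span _ (Set.range fun i => msRes h𝔜 R (secBasicOpen_le h𝔜 g) (m i)))
    rintro _ ⟨i, rfl⟩
    exact ⟨⟨i⟩, rfl⟩
  · obtain ⟨g, hgV, hyg⟩ := hbasis hV y hy
    refine ⟨secBasicOpen h𝔜 g, hgV, hyg, ?_⟩
    let b : Fin n → FMod7.Sec 𝔜 h𝔜 (secBasicOpen h𝔜 g) := fun i => FMod7.rRes hgV (a ⟨i⟩)
    have hb : ∑ i, b i • msRes h𝔜 R (secBasicOpen_le h𝔜 g) (m i) = 0 := by
      have h1 := congrArg (msRes h𝔜 R hgV) ((Equiv.ulift.symm.sum_comp fun i : ULift.{u} (Fin n) =>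
        a i • FMod7.sres R hV (m i.down)).trans ha)
      refine Eq.trans ?_ (h1.trans (map_zero _))
      refine Eq.trans ?_ (map_sum (msRes h𝔜 R hgV) _ _).symm
      refine Finset.sum_congr rfl fun i _ => ?_
      refine Eq.trans ?_ (msRes_smul h𝔜 R hgV _ _).symm
      exact congrArg (b i • ·) (R.val.map_comp_apply (homOfLE hV).op (homOfLE hgV).op (m i))
    have h2 := (hbasic g).2 b hb
    let L : (Fin n → FMod7.Sec 𝔜 h𝔜 (secBasicOpen h𝔜 g)) →ₗ[FMod7.Sec 𝔜 h𝔜 (secBasicOpen h𝔜 g)]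
        (ULift.{u} (Fin n) → FMod7.Sec 𝔜 h𝔜 (secBasicOpen h𝔜 g)) :=
      LinearMap.funLeft _ _ ULift.down
    let hgW : secBasicOpen h𝔜 g ≤ W := secBasicOpen_le h𝔜 g
    have h3 : Submodule.span (FMod7.Sec 𝔜 h𝔜 (secBasicOpen h𝔜 g))
        ((fun c : Fin n → FMod7.Sec 𝔜 h𝔜 W => fun i => FMod7.rRes hgW (c i)) '' {c | ∑ i, c i • m i = 0}) ≤
        Submodule.comap L (Submodule.span (FMod7.Sec 𝔜 h𝔜 (secBasicOpen h𝔜 g))
          (Set.range fun (k : ULift.{u} (Fin l)) (i : ULift.{u} (Fin n)) => FMod7.rRes hgW (r k.down i.down))) := by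
      rw [Submodule.span_le]
      rintro _ ⟨c, hc, rfl⟩
      have hc' : c ∈ Submodule.span (FMod7.Sec 𝔜 h𝔜 W) (Set.range r) := by
        rw [hr, LinearMap.mem_ker, Fintype.linearCombination_apply]
        exact hc
      obtain ⟨d, rfl⟩ := (Submodule.mem_span_range_iff_exists_fun _).1 hc'
      have e : L (fun i => FMod7.rRes hgW ((∑ k, d k • r k) i)) =
          ∑ k, FMod7.rRes hgW (d k) • fun i : ULift.{u} (Fin n) => FMod7.rRes hgW (r k i.down) := by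
        funext i
        simp [L, map_sum]
      rw [SetLike.mem_coe, Submodule.mem_comap, e]
      exact Submodule.sum_mem _ fun k _ => Submodule.smul_mem _ _ (Submodule.subset_span ⟨⟨k⟩, rfl⟩)
    exact h3 h2

end GrothLib.FCoh7
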