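import Groth.Agent.Lib.FCoh7.RpushSwap
import Groth.Agent.Lib.FCoh7.RpushBound
import Groth.Agent.Lib.FCoh7.RpushCoh
import Groth.Agent.Lib.FCoh7.HF
import Groth.Agent.Lib.FPush7.PushCompl
import Groth.Agent.Lib.FSchSys.Completion

/-!
# Completion commutes with higher direct images of coherent modules along proper morphisms
-/

set_option autoImplicit false
set_option linter.style.haveILetI false
set_option linter.unusedSectionVars false
set_option backward.isDefEq.respectTransparency false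
set_option maxHeartbeats 800000
universe u

open CategoryTheory CategoryTheory.Limits AlgebraicGeometry Opposite TopologicalSpace

noncomputable section

namespace GrothLib.FCoh7

open GrothLib.FMod7 GrothLib.FPush7

/-- A map of modules over a ring is bijective when it is so up to bounded loss on compatible towers. -/
theorem bijective_of_tower {S : Type*} [CommRing S] {M R : Type*} [AddCommGroup M] [AddCommGroup R] [Module S M]
    [Module S R] (J : ℕ → Ideal S) (ψ : M →ₗ[S] R) {G : Type*} [AddCommGroup G] (a : G →+ M)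
    {L : ℕ → Type*} [∀ k, AddCommGroup (L k)] (pr : ∀ k, M →+ L k)
    {P : ℕ → Type*} [∀ k, AddCommGroup (P k)] (π : ∀ k, R →+ P k)
    (hsepM : ∀ x, (∀ k, pr k x = 0) → x = 0)
    (hlim : ∀ m : ℕ → G, (∀ k, pr k (a (m (k + 1))) = pr k (a (m k))) → ∃ x, ∀ k, pr k x = pr k (a (m k)))
    (hpr : ∀ k x, pr (k + 1) x = 0 → pr k x = 0)
    (hsurj : ∀ k x, ∃ g, pr k x = pr k (a g))
    (hJ : ∀ k x, pr k x = 0 → x ∈ J k • (⊤ : Submodule S M))
    (hkill : ∀ k, ∀ s ∈ J k, ∀ y, π k (s • y) = 0)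
    (hsepR : ∀ y, (∀ k, π k y = 0) → y = 0) (hπ : ∀ k y, π (k + 1) y = 0 → π k y = 0)
    (c : ℕ) (hker : ∀ k g, π (k + c) (ψ (a g)) = 0 → pr k (a g) = 0)
    (himg : ∀ k y, ∃ g, π k (ψ (a g)) = π k y) : Function.Bijective ψ := by
  have hprle : ∀ k d x, pr (k + d) x = 0 → pr k x = 0 := fun k d => by
    induction d with
    | zero => exact fun x h => h
    | succ d ih => exact fun x h => ih x (hpr _ x h)
  have hπle : ∀ k d y, π (k + d) y = 0 → π k y = 0 := fun k d => by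
    induction d with
    | zero => exact fun x h => h
    | succ d ih => exact fun x h => ih x (hπ _ x h)
  have hψ : ∀ k x, pr k x = 0 → π k (ψ x) = 0 := fun k x hx => by
    refine Submodule.smul_induction_on (p := fun x => π k (ψ x) = 0) (hJ k x hx) (fun s hs y _ => ?_)
      fun y y' hy hy' => by rw [map_add, map_add, hy, hy', add_zero]
    rw [map_smul]
    exact hkill k s hs _
  refine ⟨(injective_iff_map_eq_zero ψ).2 fun x hx => hsepM x fun k => ?_, fun y => ?_⟩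
  · obtain ⟨g, hg⟩ := hsurj (k + c) x
    have h1 := hψ (k + c) (x - a g) (by rw [map_sub, hg, sub_self])
    rw [map_sub, hx, zero_sub, map_neg, neg_eq_zero] at h1
    have h2 := hker k g h1
    have h3 := hprle k c (x - a g) (by rw [map_sub, hg, sub_self])
    rwa [map_sub, h2, sub_zero] at h3
  · choose g hg using fun k => himg k y
    obtain ⟨x, hx⟩ := hlim (fun k => g (k + c)) fun k => by
      refine sub_eq_zero.1 ?_
      rw [← map_sub, ← map_sub]
      refine hker k _ ?_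
      have h1 : π (k + c) (ψ (a (g (k + 1 + c))) - y) = 0 := by
        rw [show k + 1 + c = k + c + 1 by omega]
        refine hπ (k + c) _ ?_
        rw [map_sub, hg, sub_self]
      rw [map_sub] at h1
      rw [map_sub, map_sub, map_sub, hg, sub_eq_zero]
      exact sub_eq_zero.1 h1
    refine ⟨x, sub_eq_zero.1 (hsepR _ fun k => ?_)⟩
    have h1 := hψ k (x - a (g (k + c))) (by rw [map_sub, hx, sub_self])
    have h2 : π k (ψ (a (g (k + c))) - y) = 0 := hπle k c _ (by rw [map_sub, hg, sub_self])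
    rw [show ψ x - y = ψ (x - a (g (k + c))) + (ψ (a (g (k + c))) - y) by rw [map_sub]; abel, map_add, h1, h2,
      add_zero]

/-- Levels through a natural comparison of functors. -/
theorem exists_level_iso {A B C D : Type*} [Category A] [Category B] [Category C] [Category D] (P : C ⥤ A)
    (Φ : A ⥤ B) (R : C ⥤ D) (Q : D ⥤ B) (θ : ∀ M, Φ.obj (P.obj M) ≅ Q.obj (R.obj M))
    (hθ : ∀ {M N : C} (φ : M ⟶ N), Φ.map (P.map φ) ≫ (θ N).hom = (θ M).hom ≫ Q.map (R.map φ))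
    {F : A} {M₀ : C} (η : F ⟶ P.obj M₀) (L : ℕ → A) (u : ∀ k, F ⟶ L k) (M : ℕ → C) (v : ∀ k, M₀ ⟶ M k)
    (he : ∀ k, ∃ e : L k ≅ P.obj (M k), u k ≫ e.hom = η ≫ P.map (v k)) :
    ∃ ε : ∀ k, Φ.obj (L k) ≅ Q.obj (R.obj (M k)),
      (∀ k, (Φ.map η ≫ (θ M₀).hom) ≫ Q.map (R.map (v k)) = Φ.map (u k) ≫ (ε k).hom) ∧
      ∀ (m k : ℕ) (w : M m ⟶ M k), v m ≫ w = v k → ∃ t : L m ⟶ L k, u m ≫ t = u k ∧
        Φ.map t ≫ (ε k).hom = (ε m).hom ≫ Q.map (R.map w) := by
  choose e he using he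
  refine ⟨fun k => Φ.mapIso (e k) ≪≫ θ (M k), fun k => ?_, fun m k w hw => ⟨(e m).hom ≫ P.map w ≫ (e k).inv, ?_, ?_⟩⟩
  · rw [Category.assoc, ← hθ, ← Category.assoc, ← Φ.map_comp, ← he k, Φ.map_comp, Category.assoc]
    rfl
  · rw [← Category.assoc, he m, Category.assoc, ← P.map_comp_assoc, hw, ← Category.assoc, ← he k, Category.assoc,
      Iso.hom_inv_id, Category.comp_id]
  · simp only [Functor.map_comp, Category.assoc, Iso.trans_hom, Functor.mapIso_hom]
    rw [← Φ.map_comp_assoc (e k).inv, Iso.inv_hom_id, Φ.map_id, Category.id_comp, hθ]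

theorem unit_levMap {𝔛 : FSch.Sys.{u}} (h𝔛 : 𝔛.IsFormal) (𝔉 : FSch.ModF 𝔛 h𝔛) [FSch.IsCohF 𝔛 h𝔛 𝔉]
    {k m : ℕ} (hkm : k ≤ m) :
    (FSch.levelMor 𝔛 h𝔛 m).adj.unit.app 𝔉 ≫ levMap h𝔛 𝔉 hkm = (FSch.levelMor 𝔛 h𝔛 k).adj.unit.app 𝔉 := by
  let S := Functor.ofOpSequence (X := levObj h𝔛 𝔉) (FSch.levelTrans 𝔛 h𝔛 𝔉)
  let τ : (Functor.const ℕᵒᵖ).obj 𝔉 ⟶ S := NatTrans.ofOpSequence (fun j => (FSch.levelMor 𝔛 h𝔛 j).adj.unit.app 𝔉)
    fun j => (Category.id_comp _).trans ((FSch.unit_levelTrans 𝔛 h𝔛 𝔉 j).symm.trans (congrArg (_ ≫ ·)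
      (Functor.ofOpSequence_map_homOfLE_succ (X := levObj h𝔛 𝔉) (FSch.levelTrans 𝔛 h𝔛 𝔉) j).symm))
  exact (τ.naturality (homOfLE hkm).op).symm.trans (Category.id_comp _)

section Lev

variable {X : Scheme.{u}} [IsLocallyNoetherian X] {𝓚 : X.IdealSheafData}
  (hX : (FSch.completionAlong X 𝓚).IsFormal) (F : X.Modules)

theorem exists_lev_iso (k : ℕ) :
    ∃ e : (show ModSite.Mod X.sheaf from lev 𝓚 F k) ≅
        (complMor hX).push.obj (levObj hX ((complMor hX).pull.obj F) k),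
      (show (show ModSite.Mod X.sheaf from F) ⟶ (show ModSite.Mod X.sheaf from lev 𝓚 F k) from levUnit 𝓚 F k) ≫ e.hom =
        (complMor hX).adj.unit.app F ≫ (complMor hX).push.map
          ((FSch.levelMor (FSch.completionAlong X 𝓚) hX k).adj.unit.app ((complMor hX).pull.obj F)) := by
  let L := FSch.levelMor (FSch.completionAlong X 𝓚) hX k
  let π := FSch.realProj (FSch.completionAlong X 𝓚) hX (FSch.complMod 𝓚 F).F (FSch.complMod 𝓚 F).toPush k
  let v := comparison hX F ≫ π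
  let θ := (L.adj.homEquiv _ _).symm v
  haveI : IsIso θ := by
    refine isIso_of_adjunct (complMor hX).adj L.adj
      (Scheme.Modules.pullbackPushforwardAdjunction (FSch.completionToX X 𝓚 k)) (schCmp hX k) (isIso_schCmp hX k) F _ ?_
    refine (congrArg ((complMor hX).adj.homEquiv _ _) ((L.adj.homEquiv _ _).apply_symm_apply _)).trans ?_
    refine ((complMor hX).adj.homEquiv_naturality_right _ _).trans ?_
    exact (congrArg (· ≫ _) ((complMor hX).adj.homEquiv _ _ |>.apply_symm_apply _)).trans (comparisonAdj_proj hX F k)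
  haveI := isIso_schCmp hX k
  let c := (schCmp hX k).app ((FSch.complMod 𝓚 F).F k)
  refine ⟨@asIso (ModSite.Mod X.sheaf) _ _ _ c (isIso_schPushCompare_compl 𝓚 hX k _) ≪≫ ((complMor hX).push.mapIso (L.push.mapIso (asIso θ))).symm, ?_⟩
  have h1 : L.adj.unit.app _ ≫ L.push.map θ = v :=
    (L.adj.homEquiv_unit _ _ _).symm.trans ((L.adj.homEquiv _ _).apply_symm_apply v)
  have h2 : (complMor hX).adj.unit.app F ≫ (complMor hX).push.map (comparison hX F) = comparisonAdj hX F :=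
    ((complMor hX).adj.homEquiv_unit _ _ _).symm.trans (((complMor hX).adj.homEquiv _ _).apply_symm_apply _)
  have h3 : (show (show ModSite.Mod X.sheaf from F) ⟶ _ from levUnit 𝓚 F k) ≫ c =
      ((complMor hX).adj.unit.app F ≫ (complMor hX).push.map (L.adj.unit.app _)) ≫
        (complMor hX).push.map (L.push.map θ) := by
    refine (comparisonAdj_proj hX F k).symm.trans ((congrArg (· ≫ (complMor hX).push.map π) h2.symm).trans
      ((Category.assoc _ _ _).trans (Eq.trans ?_ (Category.assoc _ _ _).symm)))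
    exact congrArg ((complMor hX).adj.unit.app F ≫ ·) (((complMor hX).push.map_comp _ _).symm.trans
      ((congrArg (complMor hX).push.map h1.symm).trans ((complMor hX).push.map_comp _ _)))
  refine ((Category.assoc _ _ _).symm.trans (congrArg (· ≫ _) h3)).trans ?_
  refine (Category.assoc _ _ _).trans ?_
  rw [Iso.symm_hom]
  exact (congrArg (_ ≫ ·) ((complMor hX).push.mapIso (L.push.mapIso (asIso θ))).hom_inv_id).trans (Category.comp_id _)

end Lev

/-- The projections of a limit of a system vanish downwards. -/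
theorem sProj_eq_zero_of_succ {𝔛 : FSch.Sys.{u}} (h : 𝔛.IsFormal) (U : (𝔛.X 0).Opens) (G : ∀ k, (𝔛.X k).Modules)
    (t : ∀ k, G (k + 1) ⟶ (Scheme.Modules.pushforward (𝔛.ι k)).obj (G k)) (k : ℕ) (x : LimSec h U G t)
    (hx : sProj h U G t (k + 1) x = 0) : sProj h U G t k x = 0 := by
  rw [← sTrans_sProj h U G t k x, hx, sTrans_def]
  rw [map_zero]
  exact map_zero _

section Sections

variable {Y : Scheme.{u}} [IsLocallyNoetherian Y] {𝓘 : Y.IdealSheafData}
  (hY : (FSch.completionAlong Y 𝓘).IsFormal) (G : Y.Modules) {R : FSch.ModF (FSch.completionAlong Y 𝓘) hY}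
  (T : ℕ → FSch.ModF (FSch.completionAlong Y 𝓘) hY) (p : ∀ k, R ⟶ T k)
  (P : ℕ → Y.Modules) (uP : ∀ k, G ⟶ P k)
  (ε : ∀ k, (show ModSite.Mod Y.sheaf from P k) ≅ (complMor hY).push.obj (T k))
  (ψ : (FSch.complMod 𝓘 G).realMod hY ⟶ R)

/-- The levels of a map out of a completion on sections. -/
theorem levels_app {V : Y.Opens} (k : ℕ) (x : (show ModSite.Mod Y.sheaf from G) ⟶ (complMor hY).push.obj (T k))
    (u : G ⟶ P k) (e : (show ModSite.Mod Y.sheaf from P k) ⟶ (complMor hY).push.obj (T k))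
    (hx : x = (show (show ModSite.Mod Y.sheaf from G) ⟶ (show ModSite.Mod Y.sheaf from P k) from u) ≫ e)
    (g : Γ(G, V)) : (x.val.app (op V)).hom g = (e.val.app (op V)).hom (u.app V g) := by
  subst hx
  rfl

theorem iso_inv_app {V : Y.Opens} (k : ℕ) (y : Γ(P k, V)) :
    (((ε k).inv).val.app (op V)).hom ((((ε k).hom).val.app (op V)).hom y) = y :=
  congrArg (fun φ : (show ModSite.Mod Y.sheaf from P k) ⟶ (show ModSite.Mod Y.sheaf from P k) =>
    (φ.val.app (op V)).hom y) (ε k).hom_inv_id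

theorem comp_app_msMap {V : Y.Opens} (k : ℕ)
    (a : (show ModSite.Mod Y.sheaf from G) ⟶ (complMor hY).push.obj ((FSch.complMod 𝓘 G).realMod hY)) (g : Γ(G, V)) :
    (((a ≫ (complMor hY).push.map ψ) ≫ (complMor hY).push.map (p k)).val.app (op V)).hom g =
      msMap hY (p k) (FSch.completionToX Y 𝓘 0 ⁻¹ᵁ V) (msMap hY ψ (FSch.completionToX Y 𝓘 0 ⁻¹ᵁ V)
        ((a.val.app (op V)).hom g)) := rfl

/-- A map out of a completion is bijective over an affine open when its levels have bounded loss. -/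
theorem bijective_of_levels (hN : (FSch.completionAlong Y 𝓘).IsLocNoethFormal) (hG : Coh.IsCoh G)
    (hψ : ∀ k, (comparisonAdj hY G ≫ (complMor hY).push.map ψ) ≫ (complMor hY).push.map (p k) =
      (show (show ModSite.Mod Y.sheaf from G) ⟶ (show ModSite.Mod Y.sheaf from P k) from uP k) ≫ (ε k).hom)
    {V : Y.Opens} (hV : IsAffineOpen V) (hW : IsAffineOpen (FSch.completionToX Y 𝓘 0 ⁻¹ᵁ V))
    (hkill : ∀ k, ∀ s ∈ secIdeal (FSch.completionAlong Y 𝓘) hY (FSch.completionToX Y 𝓘 0 ⁻¹ᵁ V) ^ (k + 1),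
      ∀ x : MSecF hY (T k) (FSch.completionToX Y 𝓘 0 ⁻¹ᵁ V), s • x = 0)
    (hsep : ∀ y : MSecF hY R (FSch.completionToX Y 𝓘 0 ⁻¹ᵁ V),
      (∀ k, msMap hY (p k) (FSch.completionToX Y 𝓘 0 ⁻¹ᵁ V) y = 0) → y = 0)
    (hp : ∀ k (y : MSecF hY R (FSch.completionToX Y 𝓘 0 ⁻¹ᵁ V)),
      msMap hY (p (k + 1)) (FSch.completionToX Y 𝓘 0 ⁻¹ᵁ V) y = 0 →
        msMap hY (p k) (FSch.completionToX Y 𝓘 0 ⁻¹ᵁ V) y = 0)
    (c : ℕ) (hker : ∀ k (g : Γ(G, V)), (uP (k + c)).app V g = 0 →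
      g ∈ (𝓘 ^ (k + 1)).ideal ⟨V, hV⟩ • (⊤ : Submodule Γ(Y, V) Γ(G, V)))
    (himg : ∀ k (y : MSecF hY R (FSch.completionToX Y 𝓘 0 ⁻¹ᵁ V)), ∃ g : Γ(G, V),
      (((ε k).hom).val.app (op V)).hom ((uP k).app V g) = msMap hY (p k) (FSch.completionToX Y 𝓘 0 ⁻¹ᵁ V) y) :
    Function.Bijective (msMap hY ψ (FSch.completionToX Y 𝓘 0 ⁻¹ᵁ V)) := by
  let W : ((FSch.completionAlong Y 𝓘).X 0).Opens := FSch.completionToX Y 𝓘 0 ⁻¹ᵁ V
  let 𝔐 := FSch.complMod 𝓘 G
  have h𝔐 : 𝔐.IsCoh := fun k => FormalExist7.isCoh_pullbackMod _ hG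
  let a : Γ(G, V) →+ Mods hY W 𝔐 := ((comparisonAdj hY G).val.app (op V)).hom.toAddMonoidHom
  let π : ∀ k, MSecF hY R W →+ MSecF hY (T k) W := fun k => (msMap hY (p k) W).toAddMonoidHom
  have hEiv : ∀ k (y : Γ(P k, V)), (((ε k).inv).val.app (op V)).hom ((((ε k).hom).val.app (op V)).hom y) = y :=
    fun k y => iso_inv_app hY T P ε k y
  have hβ : ∀ k g, π k (msMap hY ψ W (a g)) = (((ε k).hom).val.app (op V)).hom ((uP k).app V g) := fun k g =>
    (comp_app_msMap hY G T p ψ k (comparisonAdj hY G) g).symm.trans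
      (levels_app hY G T P k _ (uP k) (ε k).hom (hψ k) g)
  have hpr : ∀ k g, mProj hY W 𝔐 k (a g) = (𝔐.F k).presheaf.map
      (homOfLE (FSch.lvU_p (FSch.completionAlong Y 𝓘) hY (FSch.completionToX Y 𝓘) (FSch.completionToX_comm Y 𝓘) k V).ge).op
        ((levUnitM 𝓘 G k).app V g) := fun k g =>
    sections_of_factor hY (FSch.completionToX Y 𝓘) (FSch.completionToX_comm Y 𝓘) 𝔐 G (comparisonAdj hY G) k
      (levUnitM 𝓘 G k) (comparisonAdj_proj hY G k) V g
  refine @bijective_of_tower _ _ (Mods hY W 𝔐) (MSecF hY R W) _ _ _ _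
    (fun k => secIdeal (FSch.completionAlong Y 𝓘) hY W ^ (k + 1)) (msMap hY ψ W) Γ(G, V) _ a
    (fun k => MSec hY W 𝔐.F k) _ (fun k => AddMonoidHom.mk' (mProj hY W 𝔐 k) (sProj_add hY W _ _ k))
    (fun k => MSecF hY (T k) W) _ π
    (fun y hy => section_ext hY W _ _ y 0 fun k => (hy k).trans
      (map_zero (AddMonoidHom.mk' (mProj hY W 𝔐 k) (sProj_add hY W _ _ k))).symm)
    (fun m hm => exists_section hY W 𝔐.F 𝔐.toPush (fun k => mProj hY W 𝔐 k (a (m k))) fun k =>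
      (sTrans_sProj hY W 𝔐.F 𝔐.toPush k _).trans (hm k))
    (fun k y hy => ?_) (fun k y => ?_) (fun k y hy => (mProj_eq_zero_iff hN hW h𝔐 k y).1 hy)
    (fun k s hs y => ((msMap hY (p k) W).map_smul s y).trans (hkill k s hs _)) hsep hp c (fun k g hg => ?_)
    fun k y => ?_
  · exact sProj_eq_zero_of_succ hY W 𝔐.F 𝔐.toPush k y hy
  · obtain ⟨g, hg⟩ := (levUnit_affine 𝓘 G hG k ⟨V, hV⟩).1 ((𝔐.F k).presheaf.map
      (homOfLE (FSch.lvU_p (FSch.completionAlong Y 𝓘) hY (FSch.completionToX Y 𝓘) (FSch.completionToX_comm Y 𝓘) k V).le).op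
        (mProj hY W 𝔐 k y))
    refine ⟨g, ?_⟩
    show mProj hY W 𝔐 k y = mProj hY W 𝔐 k (a g)
    rw [hpr, show (levUnitM 𝓘 G k).app V g = _ from hg, map_le_map_le]
  · have h1 : (uP (k + c)).app V g = 0 := by
      rw [← hEiv (k + c) ((uP (k + c)).app V g), ← hβ, show π (k + c) (msMap hY ψ W (a g)) = 0 from hg]
      exact map_zero (((ε (k + c)).inv).val.app (op V)).hom
    show mProj hY W 𝔐 k (a g) = 0
    rw [hpr, show (levUnitM 𝓘 G k).app V g = 0 from
      ((levUnit_affine 𝓘 G hG k ⟨V, hV⟩).2 g).2 (hker k g h1)]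
    exact map_zero _
  · obtain ⟨g, hg⟩ := himg k y
    exact ⟨g, (hβ k g).trans hg⟩

end Sections

variable {X Y : Scheme.{u}} [IsLocallyNoetherian X] [IsLocallyNoetherian Y] (f : X ⟶ Y) [IsProper f]
  (𝓘 : Y.IdealSheafData)

theorem isProperHom_completionMap (hpc : FSch.PowCompat f (𝓘.comap f) 𝓘) :
    FSch.IsProperHom (FSch.completionMap f (𝓘.comap f) 𝓘 hpc) := by
  refine ⟨FSchSys.isAdicHom_completionMap f 𝓘 hpc, ?_⟩
  haveI : IsClosedImmersion (FSch.completionToX X (𝓘.comap f) 0) :=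
    inferInstanceAs (IsClosedImmersion ((𝓘.comap f) ^ (0 + 1)).subschemeι)
  haveI : IsClosedImmersion (FSch.completionToX Y 𝓘 0) :=
    inferInstanceAs (IsClosedImmersion (𝓘 ^ (0 + 1)).subschemeι)
  haveI : IsProper ((FSch.completionMap f (𝓘.comap f) 𝓘 hpc : FSch.Hom _ _).app 0 ≫ FSch.completionToX Y 𝓘 0) := by
    rw [completionMap_toX f 𝓘 hpc 0]
    infer_instance
  exact IsProper.of_comp _ (FSch.completionToX Y 𝓘 0)

variable [HasInjectiveResolutions X.Modules] (hpc : FSch.PowCompat f (𝓘.comap f) 𝓘)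
  (hX : (FSch.completionAlong X (𝓘.comap f)).IsFormal) (hY : (FSch.completionAlong Y 𝓘).IsFormal)
  [HasInjectiveResolutions (FSch.ModF (FSch.completionAlong X (𝓘.comap f)) hX)]

/-- Completion commutes with higher direct images of coherent modules along proper morphisms. -/
theorem nonempty_rpush_completion_iso (F : X.Modules) (hF : Coh.IsCoh F) (n : ℕ) :
    Nonempty ((complMor hY).pull.obj ((Coh.Rpush f n).obj F) ≅
      (FSch.RpushF (FSch.completionMap f (𝓘.comap f) 𝓘 hpc) hX hY n).obj ((complMor hX).pull.obj F)) := by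
  let G := (Coh.Rpush f n).obj F
  let Φ := FSch.completionMap f (𝓘.comap f) 𝓘 hpc
  let RF := FSch.RpushF Φ hX hY n
  have hNX := Groth.Agent.S3854.result X (𝓘.comap f)
  have hNY := Groth.Agent.S3854.result Y 𝓘
  have hf := isProperHom_completionMap f 𝓘 hpc
  let 𝔉 := (complMor hX).pull.obj F
  haveI : FSch.IsCohF (FSch.completionAlong X (𝓘.comap f)) hX 𝔉 := isCohF_complMor_pull hX F hF
  let R := RF.obj 𝔉
  have hGc : Coh.IsCoh G := Cohom.isCoh_Rpush f F hF n
  have h𝔐 : (FSch.complMod 𝓘 G).IsCoh := fun k => FormalExist7.isCoh_pullbackMod _ hGc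
  have hcmp := isIso_comparison hY G hNY hGc h𝔐
  obtain ⟨θ, hθ⟩ := exists_rpushSwap hX f hpc hY n
  obtain ⟨ε, hε, hεt⟩ := exists_level_iso (A := ModSite.Mod X.sheaf) (B := ModSite.Mod Y.sheaf)
    (complMor hX).push (Coh.Rpush f n) RF (complMor hY).push θ hθ
    ((complMor hX).adj.unit.app F) (fun k => (show ModSite.Mod X.sheaf from lev (𝓘.comap f) F k))
    (fun k => levUnit (𝓘.comap f) F k) (fun k => levObj hX 𝔉 k)
    (fun k => (FSch.levelMor (FSch.completionAlong X (𝓘.comap f)) hX k).adj.unit.app 𝔉)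
    (fun k => exists_lev_iso hX F k)
  let β : (show ModSite.Mod Y.sheaf from G) ⟶ (complMor hY).push.obj R :=
    (Coh.Rpush f n).map ((complMor hX).adj.unit.app F) ≫ (θ 𝔉).hom
  obtain ⟨ψ, hψ⟩ := exists_factor 𝓘 hY G hcmp β
  suffices h : IsIso ψ by exact ⟨@asIso _ _ _ _ (comparison hY G) hcmp ≪≫ @asIso _ _ _ _ ψ h⟩
  refine isIso_of_bijective_nhds ψ fun U x hx => ?_
  obtain ⟨V, hV, -, hxV, hVU⟩ := exists_affine_below (𝓘 := 𝓘) hx (W := ⊤) trivial
  refine ⟨onCompl V, hVU, hxV, ?_⟩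
  haveI : IsClosedImmersion (FSch.completionToX Y 𝓘 0) :=
    inferInstanceAs (IsClosedImmersion (𝓘 ^ (0 + 1)).subschemeι)
  let W : ((FSch.completionAlong Y 𝓘).X 0).Opens := FSch.completionToX Y 𝓘 0 ⁻¹ᵁ V
  have hW : IsAffineOpen W := hV.preimage _
  let 𝔐 := FSch.complMod 𝓘 G
  obtain ⟨c, hc1, hc2⟩ := exists_Rpush_bound f hV 𝓘 F hF (lev (𝓘.comap f) F) (levUnit (𝓘.comap f) F)
    (fun k => isQuasicoherent_lev (𝓘.comap f) F hF k) (levUnit_affine (𝓘.comap f) F hF) n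
  refine bijective_of_levels hY G (fun k => RF.obj (levObj hX 𝔉 k)) (fun k => rProj hY hX Φ 𝔉 n k)
    (fun k => (Coh.Rpush f n).obj (lev (𝓘.comap f) F k)) (fun k => (Coh.Rpush f n).map (levUnit (𝓘.comap f) F k))
    ε ψ hNY hGc (fun k => (congrArg (fun φ : (show ModSite.Mod Y.sheaf from G) ⟶ _ =>
      φ ≫ (complMor hY).push.map (rProj hY hX Φ 𝔉 n k)) hψ).trans (hε k))
    hV hW (fun k s hs y => smul_level_eq_zero hY hX Φ 𝔉 hNX hNY n k hW s hs y)
    (eq_zero_of_rProj hY hX Φ 𝔉 hNX hNY hf n W) (fun k y hy => ?_) c hc1 fun k y => ?_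
  · refine (congrArg (fun φ : R ⟶ RF.obj (levObj hX 𝔉 k) => (φ.val.app (op W)).hom y) (rProj_trans hY hX Φ 𝔉 n k).symm).trans ?_
    exact (congrArg ((RF.map (FSch.levelTrans (FSch.completionAlong X (𝓘.comap f)) hX 𝔉 k)).val.app (op W)).hom hy).trans
      (map_zero _)
  · let m := k + c
    let w : levObj hX 𝔉 m ⟶ levObj hX 𝔉 k := levMap hX 𝔉 (Nat.le_add_right k c)
    have hw := unit_levMap hX 𝔉 (Nat.le_add_right k c)
    obtain ⟨t, ht, htε⟩ := hεt m k w hw
    let y' : MSecF hY (RF.obj (levObj hX 𝔉 m)) W := msMap hY (rProj hY hX Φ 𝔉 n m) W y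
    obtain ⟨g, hg⟩ := hc2 k t ht ((((ε m).inv).val.app (op V)).hom y')
    refine ⟨g, (congrArg (((ε k).hom).val.app (op V)).hom hg).trans ?_⟩
    refine (congrArg (fun φ : (show ModSite.Mod Y.sheaf from (Coh.Rpush f n).obj (lev (𝓘.comap f) F m)) ⟶ _ =>
      (φ.val.app (op V)).hom ((((ε m).inv).val.app (op V)).hom y')) htε).trans ?_
    refine (congrArg ((RF.map w).val.app (op W)).hom (congrArg (fun φ : (complMor hY).push.obj
      (RF.obj (levObj hX 𝔉 m)) ⟶ _ => (φ.val.app (op V)).hom y') (ε m).inv_hom_id)).trans ?_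
    exact congrArg (fun φ : R ⟶ RF.obj (levObj hX 𝔉 k) => (φ.val.app (op W)).hom y)
      ((RF.map_comp _ _).symm.trans (congrArg RF.map hw))

end GrothLib.FCoh7
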