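import Groth.Agent.Lib.FPush7.PushSections
import Groth.Agent.Lib.Cohom.ResolutionCompare
import Groth.Agent.Lib.BCCoh.RpushAffine
import Groth.Agent.Lib.FormalFn.Push
import Groth.Agent.Lib.VA.VeryAmple

/-!
# Formal functions for higher direct images over an affine open
-/

set_option autoImplicit false
set_option linter.style.haveILetI false
set_option linter.unusedSectionVars false
set_option backward.isDefEq.respectTransparency false
set_option maxHeartbeats 800000
universe u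

open CategoryTheory CategoryTheory.Limits AlgebraicGeometry Opposite TopologicalSpace Abelian

noncomputable section

namespace GrothLib.FCoh7

open GrothLib.Cohom GrothLib.BCCoh GrothLib.FPush7

section Natural

variable {X S : Scheme.{u}} {M N : X.Modules} {I : FlRes M} {J : FlRes N}

theorem coc_app₂ (φ : I.cocomplex ⟶ J.cocomplex) {p : ℕ} {W : X.Opens} (z : cocycles I p W) :
    Cocyc.Coc J.cocomplex p ((φ.f p).app W z.1) := by
  have h : (I.cocomplex.d p (p + 1)).app W z.1 = 0 := z.2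
  change (J.cocomplex.d p (p + 1)).app W ((φ.f p).app W z.1) = 0
  rw [← ConcreteCategory.comp_apply, ← Scheme.Modules.Hom.comp_app, φ.comm,
    Scheme.Modules.Hom.comp_app, ConcreteCategory.comp_apply, h, map_zero]

/-- Classes of cocycles are natural in the module. -/
theorem cocClass_app₂ (g : M ⟶ N) (φ : I.cocomplex ⟶ J.cocomplex) (hφ : I.ι ≫ φ.f 0 = g ≫ J.ι) (p : ℕ)
    (W : X.Opens) (z : cocycles I p W) :
    cocClass J p W ⟨(φ.f p).app W z.1, coc_app₂ φ z⟩ =
      (cocClass I p W z).comp (Ext.mk₀ ((QCoh.toAbFun X).map g)) (add_zero p) := by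
  let θ : abCx I ⟶ abCx J := ((QCoh.toAbFun X).mapHomologicalComplex _).map φ
  have e : liftCoc J p W ⟨(φ.f p).app W z.1, coc_app₂ φ z⟩ =
      liftCoc I p W z ≫ ClassChain.zMap₂ θ p := by
    apply equalizer.hom_ext
    rw [liftCoc_ι, Category.assoc, kernel.lift_ι, ← Category.assoc, liftCoc_ι]
    apply (sectionsEquiv W (Coh.toAb (J.cocomplex.X p))).injective
    rw [sectionsEquiv_comp, Equiv.apply_symm_apply]
    erw [Equiv.apply_symm_apply]
    rfl
  have e0 : ClassChain.zMap₂ θ 0 ≫ (z0 J).inv = (z0 I).inv ≫ (QCoh.toAbFun X).map g := by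
    rw [Iso.comp_inv_eq, Category.assoc, Iso.eq_inv_comp]
    apply equalizer.hom_ext
    rw [Category.assoc, kernel.lift_ι, ← Category.assoc, z0_hom_ι, Category.assoc, z0_hom_ι]
    exact ((QCoh.toAbFun X).map_comp _ _).symm.trans
      ((congrArg (QCoh.toAbFun X).map hφ).trans ((QCoh.toAbFun X).map_comp _ _))
  rw [cocClass_apply, e, ClassChain.mapCls_naturality (abCx_exact I) (abCx_exact J), cocClass_apply,
    Ext.comp_assoc_of_third_deg_zero, Ext.mk₀_comp_mk₀, e0,
    Ext.comp_assoc_of_third_deg_zero, Ext.mk₀_comp_mk₀]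

/-- Classes of sections of the homology of a direct image are natural. -/
theorem hcls_app (f : X ⟶ S) (φ : I.cocomplex ⟶ J.cocomplex) (p : ℕ) (V : S.Opens)
    (z : Γ(I.cocomplex.X p, f ⁻¹ᵁ V)) (hz : Cocyc.Coc I.cocomplex p z) :
    (HomologicalComplex.homologyMap (((Scheme.Modules.pushforward f).mapHomologicalComplex _).map φ) p).app V
        (Cocyc.hcls (pushCx f I.cocomplex) p (V := V) z hz) =
      Cocyc.hcls (pushCx f J.cocomplex) p (V := V) ((φ.f p).app _ z) (coc_app₂ φ ⟨z, hz⟩) := by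
  let ψ : pushCx f I.cocomplex ⟶ pushCx f J.cocomplex :=
    ((Scheme.Modules.pushforward f).mapHomologicalComplex _).map φ
  have h1 := congrArg (fun t ↦ t.app V (Cocyc.cyc (pushCx f I.cocomplex) p (V := V) z hz))
    (HomologicalComplex.homologyπ_naturality ψ p)
  refine h1.trans (congrArg ((pushCx f J.cocomplex).homologyπ p |>.app V) ?_)
  refine (Cocyc.cyc_eq (pushCx f J.cocomplex) p (V := V) _ (coc_app₂ φ ⟨z, hz⟩) ?_).symm
  have h2 := congrArg (fun t ↦ t.app V (Cocyc.cyc (pushCx f I.cocomplex) p (V := V) z hz))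
    (HomologicalComplex.cyclesMap_i ψ p)
  exact h2.trans (congrArg ((ψ.f p).app V) (Cocyc.iCycles_cyc (pushCx f I.cocomplex) p (V := V) z hz))

end Natural

variable {X S : Scheme.{u}} (f : X ⟶ S) {V : S.Opens} (hV : IsAffineOpen V) [QuasiCompact f] [QuasiSeparated f]

/-- The group of cohomology of the restriction to the preimage. -/
abbrev preHH (V : S.Opens) (M : X.Modules) (p : ℕ) : Type u :=
  Coh.HH ((f ⁻¹ᵁ V : X.Opens) : Scheme.{u}) (M.restrict (f ⁻¹ᵁ V).ι) p

theorem image_top_preimage (V : S.Opens) :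
    (f ⁻¹ᵁ V).ι ''ᵁ (⊤ : ((f ⁻¹ᵁ V : X.Opens) : Scheme.{u}).Opens) = f ⁻¹ᵁ V := by simp

theorem coc_emb {M : X.Modules} (I : FlRes M) (p : ℕ)
    (w : cocycles (I.restrict (f ⁻¹ᵁ V).ι) p (⊤ : ((f ⁻¹ᵁ V : X.Opens) : Scheme.{u}).Opens)) :
    Cocyc.Coc (pushCx f I.cocomplex) p (W := V)
      (Cocyc.rs (image_top_preimage f V).ge
        (show Γ(I.cocomplex.X p, (f ⁻¹ᵁ V).ι ''ᵁ ⊤) from w.1)) :=
  Cocyc.Coc.rs (K := I.cocomplex) (z := (show Γ(I.cocomplex.X p, (f ⁻¹ᵁ V).ι ''ᵁ ⊤) from w.1)) w.2 _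

/-- The class of a cocycle over the preimage. -/
def preCls {M : X.Modules} (I : FlRes M) (p : ℕ) :
    cocycles (I.restrict (f ⁻¹ᵁ V).ι) p (⊤ : ((f ⁻¹ᵁ V : X.Opens) : Scheme.{u}).Opens) →+ preHH f V M p :=
  (HEquivTop (Coh.toAb (M.restrict (f ⁻¹ᵁ V).ι)) p).symm.toAddMonoidHom.comp
    (cocClass (I.restrict (f ⁻¹ᵁ V).ι) p ⊤)

theorem preCls_surjective {M : X.Modules} (I : FlRes M) (p : ℕ) :
    Function.Surjective (preCls f (V := V) I p) :=
  (HEquivTop (Coh.toAb (M.restrict (f ⁻¹ᵁ V).ι)) p).symm.surjective.comp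
    (cocClass_surjective (I.restrict (f ⁻¹ᵁ V).ι) p ⊤)

include hV in
/-- The comparison on sections over an affine open, with its value on classes of cocycles. -/
theorem exists_homology_equiv' (M : X.Modules) [M.IsQuasicoherent] (I : FlRes M) (p : ℕ) :
    ∃ e : preHH f V M p ≃+ Γ((pushCx f I.cocomplex).homology p, V),
      (∀ w, e (preCls f I p w) = Cocyc.hcls (pushCx f I.cocomplex) p (V := V) _ (coc_emb f I p w)) ∧
      ∀ (a : Γ(S, V)) x, letI := modHH (A := Γ(S, V)) (affBase f hV) (M.restrict (f ⁻¹ᵁ V).ι) p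
        e (a • x) = a • e x := by
  classical
  let X' : Scheme.{u} := (f ⁻¹ᵁ V : X.Opens)
  let j : X' ⟶ X := (f ⁻¹ᵁ V).ι
  letI := modHH (A := Γ(S, V)) (affBase f hV) (M.restrict j) p
  let I' := I.restrict j
  have hW : j ''ᵁ (⊤ : X'.Opens) = f ⁻¹ᵁ V := image_top_preimage f V
  let emb : Γ(I'.cocomplex.X p, (⊤ : X'.Opens)) →+ Γ(I.cocomplex.X p, f ⁻¹ᵁ V) :=
    (Cocyc.rs hW.ge : Γ(I.cocomplex.X p, j ''ᵁ ⊤) →+ _)
  have hemb : ∀ w : cocycles I' p (⊤ : X'.Opens),
      Cocyc.Coc (pushCx f I.cocomplex) p (W := V) (emb w.1) := fun w ↦ coc_emb f I p w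
  let toV : cocycles I' p (⊤ : X'.Opens) →+ Γ((pushCx f I.cocomplex).homology p, V) :=
    AddMonoidHom.mk' (fun w ↦ Cocyc.hcls (pushCx f I.cocomplex) p (V := V) (emb w.1) (hemb w)) fun w w' => by
      refine Eq.trans ?_ (Cocyc.hcls_add (pushCx f I.cocomplex) p (V := V) _ _ (hemb w) (hemb w'))
      simp only [AddSubgroup.coe_add, map_add]
  let E : cocycles I' p ⊤ →+ Coh.HH X' (M.restrict j) p := preCls f I p
  have hE : Function.Surjective E := preCls_surjective f I p
  have hE0 : ∀ w, E w = 0 ↔ Cocyc.Bdy I'.cocomplex p w.1 := fun w => by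
    rw [← cocClass_eq_zero_iff I' p ⊤ w]
    exact (HEquivTop (Coh.toAb (M.restrict j)) p).symm.map_eq_zero_iff
  have hV0 : ∀ w, toV w = 0 ↔ Cocyc.Bdy I'.cocomplex p w.1 := fun w => by
    constructor
    · intro h
      have h1 := Cocyc.bdy_of_hcls_eq_zero (localises_pushCx f I p) hV (emb w.1) (hemb w) h
      have h2 : Cocyc.Bdy I.cocomplex p (emb w.1) := h1
      have h3 := Cocyc.Bdy.rs h2 hW.le
      have h4 : Cocyc.rs hW.le (emb w.1) = (show Γ(I.cocomplex.X p, j ''ᵁ ⊤) from w.1) :=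
        (Cocyc.rs_rs hW.ge hW.le _).trans (Cocyc.rs_self _ _)
      rw [h4] at h3
      exact h3
    · intro h
      exact Cocyc.hcls_eq_zero_of_bdy (pushCx f I.cocomplex) p (V := V) _ (hemb w)
        (Cocyc.Bdy.rs (K := I.cocomplex) (z := (show Γ(I.cocomplex.X p, j ''ᵁ ⊤) from w.1)) h hW.ge)
  have hsurj : Function.Surjective toV := fun t => by
    obtain ⟨z, hz, rfl⟩ := Cocyc.exists_hcls_eq (localises_pushCx f I p) hV t
    refine ⟨⟨Cocyc.rs hW.le (show Γ(I.cocomplex.X p, f ⁻¹ᵁ V) from z),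
      Cocyc.Coc.rs (K := I.cocomplex) (z := (show Γ(I.cocomplex.X p, f ⁻¹ᵁ V) from z)) hz hW.le⟩, ?_⟩
    have e : emb (Cocyc.rs hW.le (show Γ(I.cocomplex.X p, f ⁻¹ᵁ V) from z)) = z :=
      (Cocyc.rs_rs hW.le hW.ge _).trans (Cocyc.rs_self _ _)
    simp only [toV, AddMonoidHom.mk'_apply, e]
  let g : Coh.HH X' (M.restrict j) p →+ Γ((pushCx f I.cocomplex).homology p, V) :=
    AddMonoidHom.liftOfSurjective E hE ⟨toV, fun w hw => (hV0 w).2 ((hE0 w).1 hw)⟩
  have hg : ∀ w, g (E w) = toV w := fun w =>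
    AddMonoidHom.liftOfRightInverse_comp_apply _ _ _ _ _
  have hgb : Function.Bijective g := by
    refine ⟨(injective_iff_map_eq_zero _).2 fun x hx => ?_, fun t => ?_⟩
    · obtain ⟨w, rfl⟩ := hE x
      rw [hg] at hx
      exact (hE0 w).2 ((hV0 w).1 hx)
    · obtain ⟨w, rfl⟩ := hsurj t
      exact ⟨E w, hg w⟩
  refine ⟨AddEquiv.ofBijective g hgb, fun w => hg w, fun a x => ?_⟩
  obtain ⟨z, rfl⟩ := hE x
  show g (a • E z) = a • g (E z)
  let r : Γ(X', ⊤) := Coh.toGlobal (affBase f hV) a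
  have hc : r • z.1 ∈ cocycles I' p ⊤ := Cocyc.coc_smul _ p _ z.2
  have hEs : E ⟨r • z.1, hc⟩ = a • E z := by
    apply (HEquivTop (Coh.toAb (M.restrict j)) p).injective
    refine ((HEquivTop (Coh.toAb (M.restrict j)) p).apply_symm_apply _).trans ?_
    have e : (X'.presheaf.map (homOfLE (le_top : (⊤ : X'.Opens) ≤ ⊤)).op r : Γ(X', ⊤)) = r := by
      rw [show (homOfLE (le_top : (⊤ : X'.Opens) ≤ ⊤)).op = 𝟙 (op (⊤ : X'.Opens)) from rfl,
        X'.presheaf.map_id]
      rfl
    have h' : X'.presheaf.map (homOfLE (le_top : (⊤ : X'.Opens) ≤ ⊤)).op r • z.1 ∈ cocycles I' p ⊤ := by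
      rw [e]; exact hc
    have hs := cocClass_smul I' p ⊤ r z h'
    rw [show (⟨_, h'⟩ : cocycles I' p ⊤) = ⟨r • z.1, hc⟩ from Subtype.ext (by simp only [e])] at hs
    refine hs.trans ?_
    have hz : cocClass I' p ⊤ z = HEquivTop (Coh.toAb (M.restrict j)) p (E z) :=
      ((HEquivTop (Coh.toAb (M.restrict j)) p).apply_symm_apply _).symm
    rw [hz]
    exact Ext.comp_assoc_of_third_deg_zero (C := AbSheaf X') (Ext.mk₀ freeTopIso.hom)
      (show Ext.{u} _ (Coh.toAb (M.restrict j)) p from E z) (Ext.mk₀ (Coh.smulAb (M.restrict j) r)) (zero_add p)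
  rw [← hEs, hg, hg]
  refine Eq.trans ?_ (Cocyc.hcls_smul (pushCx f I.cocomplex) p (V := V) a (emb z.1) (hemb z))
  simp only [toV, AddMonoidHom.mk'_apply]
  congr 1
  change Cocyc.rs hW.ge (((j.appIso ⊤).inv r) • (show Γ(I.cocomplex.X p, j ''ᵁ ⊤) from z.1)) = f.app V a • _
  rw [Cocyc.rs]
  erw [Scheme.Modules.map_smul]
  congr 1
  rw [toGlobal_affBase f hV a, ← ConcreteCategory.comp_apply, ← Functor.map_comp]
  convert ConcreteCategory.id_apply (f.app V a)
  exact X.presheaf.map_id _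

include hV in
/-- Sections of higher direct images over an affine open, linearly and naturally. -/
theorem exists_Rpush_equiv_natural [HasInjectiveResolutions X.Modules] (p : ℕ) :
    ∃ e : ∀ M : X.Modules, M.IsQuasicoherent → (preHH f V M p ≃+ Γ((Coh.Rpush f p).obj M, V)),
      (∀ (M : X.Modules) hM (a : Γ(S, V)) x,
        letI := modHH (A := Γ(S, V)) (affBase f hV) (M.restrict (f ⁻¹ᵁ V).ι) p
        e M hM (a • x) = a • e M hM x) ∧
      ∀ {M N : X.Modules} (φ : M ⟶ N) hM hN x,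
        e N hN (Sheaf.H.map ((SheafOfModules.toSheaf _).map
          ((Scheme.Modules.restrictFunctor (f ⁻¹ᵁ V).ι).map φ)) p x) =
            ((Coh.Rpush f p).map φ).app V (e M hM x) := by
  have h : ∀ (M : X.Modules) (_ : M.IsQuasicoherent), ∃ e : preHH f V M p ≃+
      Γ((pushCx f (FlRes.ofInjective (injectiveResolution M)).cocomplex).homology p, V),
      (∀ w, e (preCls f _ p w) = Cocyc.hcls _ p (V := V) _ (coc_emb f _ p w)) ∧
      ∀ (a : Γ(S, V)) x, letI := modHH (A := Γ(S, V)) (affBase f hV) (M.restrict (f ⁻¹ᵁ V).ι) p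
        e (a • x) = a • e x := fun M hM =>
    haveI := hM
    exists_homology_equiv' f hV M (FlRes.ofInjective (injectiveResolution M)) p
  choose e he hs using h
  let i := fun M : X.Modules => (rpushIso f M p).symm
  let ei : ∀ M : X.Modules, Γ((pushCx f (injectiveResolution M).cocomplex).homology p, V) ≃+
      Γ((Coh.Rpush f p).obj M, V) := fun M =>
    { toFun := (i M).hom.app V
      invFun := (i M).inv.app V
      left_inv := fun t => by
        rw [← ConcreteCategory.comp_apply, ← Scheme.Modules.Hom.comp_app, Iso.hom_inv_id]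
        exact ConcreteCategory.id_apply t
      right_inv := fun t => by
        rw [← ConcreteCategory.comp_apply, ← Scheme.Modules.Hom.comp_app, Iso.inv_hom_id]
        exact ConcreteCategory.id_apply t
      map_add' := map_add _ }
  refine ⟨fun M hM => (e M hM).trans (ei M), fun M hM a x => ?_, fun {M N} φ hM hN x => ?_⟩
  · letI := modHH (A := Γ(S, V)) (affBase f hV) (M.restrict (f ⁻¹ᵁ V).ι) p
    show (i M).hom.app V (e M hM (a • x)) = a • (i M).hom.app V (e M hM x)
    rw [hs]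
    exact (QCoh.appLinear (i M).hom V).map_smul a (e M hM x)
  · let R := injectiveResolution M
    let R' := injectiveResolution N
    let ψ := InjectiveResolution.desc φ R' R
    have hψ : R.ι.f 0 ≫ ψ.f 0 = φ ≫ R'.ι.f 0 := InjectiveResolution.desc_commutes_zero φ R' R
    let j := (f ⁻¹ᵁ V).ι
    let ψ' : ((FlRes.ofInjective R).restrict j).cocomplex ⟶ ((FlRes.ofInjective R').restrict j).cocomplex :=
      ((Scheme.Modules.restrictFunctor j).mapHomologicalComplex _).map ψ
    have hψ' : ((FlRes.ofInjective R).restrict j).ι ≫ ψ'.f 0 =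
        (Scheme.Modules.restrictFunctor j).map φ ≫ ((FlRes.ofInjective R').restrict j).ι :=
      ((Scheme.Modules.restrictFunctor j).map_comp _ _).symm.trans
        ((congrArg _ hψ).trans ((Scheme.Modules.restrictFunctor j).map_comp _ _))
    obtain ⟨w, rfl⟩ := preCls_surjective f (FlRes.ofInjective R) p x
    let w' : cocycles ((FlRes.ofInjective R').restrict j) p (⊤ : ((f ⁻¹ᵁ V : X.Opens) : Scheme.{u}).Opens) :=
      ⟨(ψ'.f p).app ⊤ w.1, coc_app₂ ψ' w⟩
    have hcl : Sheaf.H.map ((SheafOfModules.toSheaf _).map ((Scheme.Modules.restrictFunctor j).map φ)) p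
        (preCls f (FlRes.ofInjective R) p w) = preCls f (FlRes.ofInjective R') p w' := by
      apply (HEquivTop _ p).injective
      refine (FormalFn.HEquivTop_map _ p _).trans ?_
      refine (congrArg (fun t : Ext.{u} _ _ p => t.comp (Ext.mk₀ _) (add_zero p))
        ((HEquivTop _ p).apply_symm_apply (cocClass _ p ⊤ w))).trans ?_
      refine Eq.trans ?_ ((HEquivTop _ p).apply_symm_apply (cocClass _ p ⊤ w')).symm
      exact (cocClass_app₂ _ ψ' hψ' p ⊤ w).symm
    show (i N).hom.app V (e N hN _) = ((Coh.Rpush f p).map φ).app V ((i M).hom.app V (e M hM _))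
    rw [hcl, he, he]
    have hnat := InjectiveResolution.isoRightDerivedObj_inv_naturality φ R R' ψ hψ (Scheme.Modules.pushforward f) p
    refine Eq.trans ?_ (congrArg (fun t => Scheme.Modules.Hom.app t V
      (Cocyc.hcls (pushCx f (FlRes.ofInjective R).cocomplex) p (V := V) _ (coc_emb f _ p w))) hnat).symm
    refine congrArg ((i N).hom.app V) ?_
    refine Eq.trans ?_ (hcls_app (I := FlRes.ofInjective R) (J := FlRes.ofInjective R') f ψ p V _
      (coc_emb f _ p w)).symm
    congr 1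
    exact (Cocyc.app_rs (ψ.f p) (image_top_preimage f V).ge _).symm

end GrothLib.FCoh7
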