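import Groth.Agent.Lib.ModSupp25.Restr
import Groth.Agent.Lib.SheafCoh.ModGroth
import Groth.Prelude.Def_DerComp
import Mathlib.CategoryTheory.Abelian.RightDerived

/-!
# The action of local functions on higher direct images

A morphism of modules which is, over the preimage of an open `W`, a morphism followed by multiplication by a function
on `W` induces on higher direct images, over `W`, the induced morphism followed by multiplication by the function.
-/

set_option autoImplicit false
set_option linter.style.haveILetI false
set_option linter.unusedSectionVars false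
set_option backward.isDefEq.respectTransparency false
universe u

open CategoryTheory CategoryTheory.Limits Opposite TopologicalSpace

noncomputable section

namespace GrothLib.FCoh7

/-- A natural endomorphism of the identity acts on homology by itself. -/
theorem homologyMap_endNat {C : Type*} [Category C] [Abelian C] (τ : 𝟭 C ⟶ 𝟭 C)
    {K L : CochainComplex C ℕ} (g g' : K ⟶ L) (hg : ∀ i, g.f i = τ.app (K.X i) ≫ g'.f i) (i : ℕ) :
    HomologicalComplex.homologyMap g i = τ.app (K.homology i) ≫ HomologicalComplex.homologyMap g' i := by
  rw [← cancel_epi (K.homologyπ i), HomologicalComplex.homologyπ_naturality]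
  have h1 : K.homologyπ i ≫ τ.app (K.homology i) = τ.app (K.cycles i) ≫ K.homologyπ i := τ.naturality _
  rw [reassoc_of% h1, HomologicalComplex.homologyπ_naturality, ← Category.assoc]
  refine congrArg (· ≫ L.homologyπ i) ?_
  rw [← cancel_mono (L.iCycles i), HomologicalComplex.cyclesMap_i, Category.assoc, HomologicalComplex.cyclesMap_i,
    hg, ← Category.assoc, ← Category.assoc]
  exact congrArg (· ≫ g'.f i) (τ.naturality (K.iCycles i))

variable {X Y : TopCat.{u}} {O : Sheaf (Opens.grothendieckTopology X) CommRingCat.{u}}
  {O' : Sheaf (Opens.grothendieckTopology Y) CommRingCat.{u}} (f : ModSite.RMor O O')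
  {V : Opens X} {W : Opens Y} (hfn : ∀ U, U ≤ W → f.fn.obj U ≤ V)

/-- A morphism over `V` gives a morphism of direct images over `W`. -/
def pushHom {A B : ModSite.Mod O} (g : (ModSite.restr O V).obj A ⟶ (ModSite.restr O V).obj B) :
    (ModSite.restr O' W).obj (f.push.obj A) ⟶ (ModSite.restr O' W).obj (f.push.obj B) :=
  ⟨PresheafOfModules.homMk
    { app := fun Z => AddCommGrpCat.ofHom
        (g.val.app (op (Over.mk (homOfLE (hfn Z.unop.left Z.unop.hom.le))))).hom.toAddMonoidHom
      naturality := fun {Z Z'} i => by
        ext x
        let i' : Over.mk (homOfLE (hfn Z'.unop.left Z'.unop.hom.le)) ⟶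
            Over.mk (homOfLE (hfn Z.unop.left Z.unop.hom.le)) := Over.homMk (f.fn.map i.unop.left)
        exact PresheafOfModules.naturality_apply g.val i'.op x }
    fun Z r x => (g.val.app (op (Over.mk (homOfLE (hfn Z.unop.left Z.unop.hom.le))))).hom.map_smul _ x⟩

theorem pushHom_add {A B : ModSite.Mod O} (g g' : (ModSite.restr O V).obj A ⟶ (ModSite.restr O V).obj B) :
    pushHom f hfn (g + g') = pushHom f hfn g + pushHom f hfn g' := by
  apply (SheafOfModules.toSheaf _).map_injective
  ext Z x
  rfl

theorem pushHom_zero (A B : ModSite.Mod O) :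
    pushHom f hfn (0 : (ModSite.restr O V).obj A ⟶ (ModSite.restr O V).obj B) = 0 := by
  apply (SheafOfModules.toSheaf _).map_injective
  ext Z x
  rfl

theorem pushHom_comp {A B C : ModSite.Mod O} (g : (ModSite.restr O V).obj A ⟶ (ModSite.restr O V).obj B)
    (g' : (ModSite.restr O V).obj B ⟶ (ModSite.restr O V).obj C) :
    pushHom f hfn (g ≫ g') = pushHom f hfn g ≫ pushHom f hfn g' := by
  apply (SheafOfModules.toSheaf _).map_injective
  ext Z x
  rfl

theorem pushHom_restr {A B : ModSite.Mod O} (g : A ⟶ B) :
    pushHom f hfn ((ModSite.restr O V).map g) = (ModSite.restr O' W).map (f.push.map g) := by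
  apply (SheafOfModules.toSheaf _).map_injective
  ext Z x
  rfl

variable (a : O'.obj.obj (op W)) (b : O.obj.obj (op V))

/-- The function on `V` is the image of the function on `W`. -/
def IsImage : Prop := ∀ (U : Opens Y) (hU : U ≤ W),
  O.obj.map (homOfLE (hfn U hU)).op b = f.sharp.hom.app (op U) (O'.obj.map (homOfLE hU).op a)

theorem pushHom_smulEnd (hab : IsImage f hfn a b) (A : ModSite.Mod O) :
    pushHom f hfn (_root_.DerComp.smulEnd (_root_.DerComp.GSec.ofSect O V b) ((ModSite.restr O V).obj A)) =
      _root_.DerComp.smulEnd (_root_.DerComp.GSec.ofSect O' W a) ((ModSite.restr O' W).obj (f.push.obj A)) := by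
  apply (SheafOfModules.toSheaf _).map_injective
  ext Z x
  exact congrArg (fun r : O.obj.obj (op (f.fn.obj Z.unop.left)) =>
    (show (ModSite.ringSh O).obj.obj (op (f.fn.obj Z.unop.left)) from r) •
      (show A.val.obj (op (f.fn.obj Z.unop.left)) from x)) (hab Z.unop.left Z.unop.hom.le)

/-- Restriction of an injective resolution. -/
def restrRes {N : ModSite.Mod O} (I : InjectiveResolution N) : InjectiveResolution ((ModSite.restr O V).obj N) :=
  haveI := ModSupp25.preservesFiniteLimits_restr O V
  haveI := ModSupp25.preservesFiniteColimits_restr O V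
  haveI : (ModSite.restr O V).PreservesHomology := Functor.preservesHomologyOfExact _
  { cocomplex := ((ModSite.restr O V).mapHomologicalComplex _).obj I.cocomplex
    injective := fun n => ModSupp25.injective_restr O V (I.cocomplex.X n)
    ι := (HomologicalComplex.singleMapHomologicalComplex (ModSite.restr O V) (ComplexShape.up ℕ) 0).inv.app N ≫
      ((ModSite.restr O V).mapHomologicalComplex _).map I.ι }

/-- Multiplication by a global section as a natural endomorphism of the identity. -/
def smulNat {Z : TopCat.{u}} {R : Sheaf (Opens.grothendieckTopology Z) CommRingCat.{u}} {U : Opens Z}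
    (r : R.obj.obj (op U)) : 𝟭 (ModSite.Mod (R.over U)) ⟶ 𝟭 _ where
  app A := _root_.DerComp.smulEnd (_root_.DerComp.GSec.ofSect R U r) A
  naturality _ _ g := (_root_.DerComp.smulEnd_comm _ g).symm

variable [HasInjectiveResolutions (ModSite.Mod O)]

include hfn in
/-- Higher direct images over `W` of a morphism which over `V` is another one followed by a function. -/
theorem restr_rpush_map_eq_smul (hab : IsImage f hfn a b) {N M : ModSite.Mod O} (φ ε : N ⟶ M)
    (hφ : (ModSite.restr O V).map φ =
      _root_.DerComp.smulEnd (_root_.DerComp.GSec.ofSect O V b) ((ModSite.restr O V).obj N) ≫ (ModSite.restr O V).map ε)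
    (n : ℕ) :
    (ModSite.restr O' W).map ((f.Rpush n).map φ) =
      _root_.DerComp.smulEnd (_root_.DerComp.GSec.ofSect O' W a) ((ModSite.restr O' W).obj ((f.Rpush n).obj N)) ≫
        (ModSite.restr O' W).map ((f.Rpush n).map ε) := by
  haveI := ModSupp25.preservesFiniteLimits_restr O' W
  haveI := ModSupp25.preservesFiniteColimits_restr O' W
  haveI : (ModSite.restr O' W).PreservesHomology := Functor.preservesHomologyOfExact _
  let τ := smulNat (R := O') a
  let τV := smulNat (R := O) b
  let I := injectiveResolution N
  let J := injectiveResolution M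
  let φ' := InjectiveResolution.desc φ J I
  let ε' := InjectiveResolution.desc ε J I
  let K := (f.push.mapHomologicalComplex (ComplexShape.up ℕ)).obj I.cocomplex
  let L := (f.push.mapHomologicalComplex (ComplexShape.up ℕ)).obj J.cocomplex
  let P := (ModSite.restr O' W).mapHomologicalComplex (ComplexShape.up ℕ)
  let PV := (ModSite.restr O V).mapHomologicalComplex (ComplexShape.up ℕ)
  let σ : PV.obj I.cocomplex ⟶ PV.obj I.cocomplex :=
    { f := fun i => τV.app _
      comm' := fun i j _ => (τV.naturality _).symm }
  let σW : P.obj K ⟶ P.obj K :=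
    { f := fun i => τ.app _
      comm' := fun i j _ => (τ.naturality _).symm }
  -- the homotopy over `V`
  have hh : Homotopy (PV.map φ') (σ ≫ PV.map ε') := by
    refine InjectiveResolution.descHomotopy ((ModSite.restr O V).map φ) (I := restrRes (V := V) I) (J := restrRes (V := V) J)
      _ _ ?_ ?_
    · refine HomologicalComplex.from_single_hom_ext ?_
      simp [restrRes, PV, φ', ← Functor.map_comp, InjectiveResolution.desc_commutes_zero]
    · refine HomologicalComplex.from_single_hom_ext ?_
      simp only [restrRes, PV, σ, HomologicalComplex.comp_f, Category.assoc]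
      rw [hφ]
      simp [ε', smulNat, τV, HomologicalComplex.single_map_f_self]
      refine (Category.assoc _ _ _).symm.trans ((congrArg (· ≫ _) (_root_.DerComp.smulEnd_comm _ _).symm).trans
        ((Category.assoc _ _ _).trans (congrArg (_ ≫ ·) ?_)))
      exact ((ModSite.restr O V).map_comp _ _).symm.trans ((congrArg (ModSite.restr O V).map
        (InjectiveResolution.desc_commutes_zero ε J I)).trans ((ModSite.restr O V).map_comp _ _))
  -- its push to `W`
  have hW : Homotopy (P.map ((f.push.mapHomologicalComplex _).map φ'))
      (σW ≫ P.map ((f.push.mapHomologicalComplex _).map ε')) :=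
    { hom := fun i j => pushHom f hfn (hh.hom i j)
      zero := fun i j hij => (congrArg (pushHom f hfn) (hh.zero i j hij)).trans (pushHom_zero f hfn _ _)
      comm := fun i => by
        have e := congrArg (pushHom f hfn) (hh.comm i)
        rw [pushHom_add, pushHom_add] at e
        refine (pushHom_restr f hfn (φ'.f i)).symm.trans (e.trans ?_)
        refine congrArg₂ (· + ·) (congrArg₂ (· + ·) ?_ ?_) ?_
        · exact (pushHom_comp f hfn _ _).trans (congrArg (· ≫ _) (pushHom_restr f hfn _))
        · exact (pushHom_comp f hfn _ _).trans (congrArg (_ ≫ ·) (pushHom_restr f hfn _))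
        · exact (pushHom_comp f hfn _ _).trans
            (congrArg₂ (· ≫ ·) (pushHom_smulEnd f hfn a b hab _) (pushHom_restr f hfn _)) }
  -- homology
  let c : ∀ C : CochainComplex (ModSite.Mod O') ℕ, (P.obj C).homology n ≅ (ModSite.restr O' W).obj (C.homology n) :=
    fun C => (C.sc n).mapHomologyIso (ModSite.restr O' W)
  have hc : ∀ {C D : CochainComplex (ModSite.Mod O') ℕ} (g : C ⟶ D),
      (ModSite.restr O' W).map (HomologicalComplex.homologyMap g n) =
        (c C).inv ≫ HomologicalComplex.homologyMap (P.map g) n ≫ (c D).hom := fun {C D} g => by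
    rw [Iso.eq_inv_comp]
    exact (ShortComplex.mapHomologyIso_hom_naturality ((HomologicalComplex.shortComplexFunctor _ _ n).map g)
      (ModSite.restr O' W)).symm
  have hR : ∀ (ψ : N ⟶ M) (ψ' : I.cocomplex ⟶ J.cocomplex) (_ : I.ι.f 0 ≫ ψ'.f 0 = ψ ≫ J.ι.f 0),
      (f.Rpush n).map ψ = (I.isoRightDerivedObj f.push n).hom ≫
        HomologicalComplex.homologyMap ((f.push.mapHomologicalComplex _).map ψ') n ≫
          (J.isoRightDerivedObj f.push n).inv := fun ψ ψ' h => by
    rw [← Category.assoc, Iso.eq_comp_inv]
    exact InjectiveResolution.isoRightDerivedObj_hom_naturality ψ I J ψ' h f.push n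
  rw [hR φ φ' (InjectiveResolution.desc_commutes_zero φ J I), hR ε ε' (InjectiveResolution.desc_commutes_zero ε J I)]
  simp only [Functor.map_comp, hc, Category.assoc]
  rw [Homotopy.homologyMap_eq hW n, homologyMap_endNat τ (σW ≫ P.map ((f.push.mapHomologicalComplex _).map ε'))
    (P.map ((f.push.mapHomologicalComplex _).map ε')) (fun i => rfl) n]
  have hnat : ∀ {A B : ModSite.Mod (O'.over W)} (g : A ⟶ B), g ≫ τ.app B = τ.app A ≫ g := fun g => τ.naturality g
  rw [Category.assoc, reassoc_of% hnat (c K).inv]
  refine (Category.assoc _ _ _).symm.trans ((congrArg (· ≫ _) (hnat ((ModSite.restr O' W).map (I.isoRightDerivedObj f.push n).hom))).trans ?_)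
  exact Category.assoc _ _ _

end GrothLib.FCoh7
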