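import Groth.Agent.Lib.FCoh7.AdicML
import Groth.Agent.Lib.FCoh7.LimTopo

/-!
# The limit of the cohomology of an adic system of coherent modules is finite, with the adic topology
-/

set_option autoImplicit false
set_option linter.style.haveILetI false
set_option linter.unusedSectionVars false
set_option maxHeartbeats 3200000
universe u

open CategoryTheory CategoryTheory.Limits AlgebraicGeometry Opposite TopologicalSpace Abelian

noncomputable section

namespace GrothLib.FCoh7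

open GrothLib.UnifVanish7 GrothLib.Cohom

variable {A : Type u} [CommRing A] [IsNoetherianRing A] {J : Ideal A} [IsAdicComplete J A] {Xs : ℕ → Scheme.{u}}
  [hX : ∀ k, (Xs k).Over (Spec (CommRingCat.of A))]
  {i : (k : ℕ) → (Xs k ⟶ Xs (k + 1))}
  {p : (k : ℕ) → (Xs k ⟶ Spec (CommRingCat.of (A ⧸ J ^ (k + 1))))}
  (g : ∀ k, (Xs k).toTopCat ⟶ (Xs 0).toTopCat) (hg : ∀ k, (i k).base ≫ g (k + 1) = g k) (hg0 : g 0 = 𝟙 _)
  {F : (k : ℕ) → (Xs k).Modules} (ψ : ∀ k, (Scheme.Modules.pullback (i k)).obj (F (k + 1)) ≅ F k)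
  (h : IsAdicSys J i p) (hp : IsProper (p 0)) (hF : ∀ k, Coh.IsCoh (F k))
  (hh : ∀ k, IsHomeomorph (g k)) (q : ℕ)
  {M : ℕ → Type u} [∀ k, AddCommGroup (M k)] [∀ k, Module A (M k)] (T : ∀ k, M (k + 1) →ₗ[A] M k)
  (e : ∀ k, M k ≃+ Sheaf.H (levSh g (F := F) k) q)
  (heT : ∀ k w, e k (T k w) = Sheaf.H.map (levTr g hg ψ k) q (e (k + 1) w))
  (hes : ∀ k (b : A) w, e k (b • w) = Sheaf.H.map (levSm g (F := F) b k) q (e k w))
  {L : Type u} [AddCommGroup L] [Module A L] (π : ∀ k, L →ₗ[A] M k)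
  (hπ : ∀ k x, T k (π (k + 1) x) = π k x) (hsep : ∀ x, (∀ k, π k x = 0) → x = 0)

include hg0 h hp hF hh heT hes hπ hsep in
/-- A module with compatible projections to the cohomology of the levels of an adic system, injective on the limit, is
finite, and the kernels of the projections are small. -/
theorem finite_and_topology_of_tower : Module.Finite A L ∧
    ∃ c : ℕ, ∀ n : ℕ, LinearMap.ker (π (c + n)) ≤ J ^ n • (⊤ : Submodule A L) := by
  haveI := isProper_over h hp 0
  obtain ⟨r, a, hspan⟩ := Submodule.fg_iff_exists_fin_generating_family.1 (IsNoetherian.noetherian J)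
  have haJ : ∀ j, a j ∈ J := fun j => hspan ▸ Submodule.subset_span ⟨j, rfl⟩
  let t : Fin r → ∀ k, P ψ k ⟶ P ψ (k + 1) := fun j k => step h hp hF ψ k (haJ j)
  obtain ⟨d, hd⟩ := exists_generated_HH A r q (P ψ) (isCoh_P h hp hF ψ) t
    (fun j l k => step_comm h hp hF ψ k (haJ j) (haJ l)) 0 fun k _ => jointlyEpi_step h hp hF ψ a haJ hspan k
  haveI : ∀ k, Module.Finite A (Coh.HH (Xs 0) (P ψ k) q) := fun k =>
    ProjCoh.moduleFinite_HH A _ (isCoh_P h hp hF ψ k) q
  haveI hiso := fun k => isIso_pieceMap g hg ψ h hp hF k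
  haveI : ∀ k, IsIso (pieceH g hg hg0 ψ k) := fun k => inferInstance
  let ι₀ : ∀ k, Coh.HH (Xs 0) (P ψ k) q →+ Sheaf.H (levSh g (F := F) (k + 1)) q := fun k =>
    (Sheaf.H.map (levSeq g hg ψ k).f q).comp (Sheaf.H.map (inv (pieceH g hg hg0 ψ k)) q)
  have hlin : ∀ k (b : A), (spaceFun (g (k + 1))).map (Formal.smulMod A (Kr ψ k) b) ≫ pieceH g hg hg0 ψ k =
      pieceH g hg hg0 ψ k ≫ Coh.smulAb (P ψ k) (Coh.toGlobal (Xs 0 ↘ Spec (CommRingCat.of A)) b) := fun k b => by
    refine Eq.trans ?_ (congrArg (pieceH g hg hg0 ψ k ≫ ·) (toAbFun_smulMod (P ψ k) b))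
    refine (Category.assoc _ _ _).symm.trans ((congrArg (· ≫ (spaceIdIso (g 0) hg0).hom.app (P ψ k))
      (pieceMap_smul g hg ψ h hp hF b k)).trans ?_)
    exact (Category.assoc _ _ _).trans ((congrArg (pieceMap g hg ψ k ≫ ·)
      ((spaceIdIso (g 0) hg0).hom.naturality (Formal.smulMod A (P ψ k) b))).trans (Category.assoc _ _ _).symm)
  have hι₀ : ∀ k (b : A) z, ι₀ k (b • z) = Sheaf.H.map (levSm g (F := F) b (k + 1)) q (ι₀ k z) := fun k b z => by
    show Sheaf.H.map _ q (Sheaf.H.map _ q (Sheaf.H.map (Coh.smulAb (P ψ k) _) q z)) =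
      Sheaf.H.map _ q (Sheaf.H.map _ q (Sheaf.H.map _ q z))
    rw [← Sheaf.H.map_comp_apply, ← Sheaf.H.map_comp_apply, ← Sheaf.H.map_comp_apply, ← Sheaf.H.map_comp_apply]
    refine congrArg (fun φ => Sheaf.H.map φ q z) ?_
    rw [← cancel_epi (pieceH g hg hg0 ψ k), ← Category.assoc]
    refine (congrArg (· ≫ _) (hlin k b).symm).trans ?_
    simp only [Category.assoc, IsIso.hom_inv_id_assoc]
    exact (seqSm g hg ψ h b k).comm₁₂
  let ι : ∀ k, Coh.HH (Xs 0) (P ψ k) q →ₗ[A] M (k + 1) := fun k =>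
    { toFun := fun z => (e (k + 1)).symm (ι₀ k z)
      map_add' := fun x y => by simp
      map_smul' := fun b z => by
        apply (e (k + 1)).injective
        rw [AddEquiv.apply_symm_apply, hι₀, RingHom.id_apply, hes, AddEquiv.apply_symm_apply] }
  have hιe : ∀ k z, e (k + 1) (ι k z) = ι₀ k z := fun k z => (e (k + 1)).apply_symm_apply _
  have hstepι : ∀ j k z, Sheaf.H.map (levC g hg ψ h hp hF (k + 1) (haJ j)) q (ι₀ k z) =
      ι₀ (k + 1) (hhMap A (t j k) q z) := fun j k z => by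
    show Sheaf.H.map _ q (Sheaf.H.map _ q (Sheaf.H.map _ q z)) =
      Sheaf.H.map _ q (Sheaf.H.map _ q (Sheaf.H.map ((QCoh.toAbFun (Xs 0)).map (t j k)) q z))
    rw [← Sheaf.H.map_comp_apply, ← Sheaf.H.map_comp_apply, ← Sheaf.H.map_comp_apply, ← Sheaf.H.map_comp_apply]
    refine congrArg (fun φ => Sheaf.H.map φ q z) ?_
    have hs : (seqC g hg ψ h hp hF k (haJ j)).τ₁ ≫ pieceH g hg hg0 ψ (k + 1) =
        pieceH g hg hg0 ψ k ≫ (QCoh.toAbFun (Xs 0)).map (t j k) := by
      refine (Category.assoc _ _ _).symm.trans ((congrArg (· ≫ (spaceIdIso (g 0) hg0).hom.app (P ψ (k + 1)))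
        (pieceMap_step g hg ψ h hp hF k (haJ j))).trans ?_)
      exact (Category.assoc _ _ _).trans ((congrArg (pieceMap g hg ψ k ≫ ·)
        ((spaceIdIso (g 0) hg0).hom.naturality (t j k))).trans (Category.assoc _ _ _).symm)
    rw [← cancel_epi (pieceH g hg hg0 ψ k), ← Category.assoc (pieceH g hg hg0 ψ k) ((QCoh.toAbFun (Xs 0)).map (t j k)),
      ← hs]
    simp only [Category.assoc, IsIso.hom_inv_id_assoc]
    exact (seqC g hg ψ h hp hF k (haJ j)).comm₁₂.symm
  have hT0 : ∀ k z, Sheaf.H.map (levTr g hg ψ k) q (ι₀ k z) = 0 := fun k z => by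
    refine (Sheaf.H.map_comp_apply _ _ _).symm.trans ?_
    rw [(levSeq g hg ψ k).zero, H_map_eq_comp, Ext.mk₀_zero, Ext.comp_zero]
  have hsm : ∀ j k (w : M (k + 1)), e (k + 1) (a j • w) =
      Sheaf.H.map (levC g hg ψ h hp hF k (haJ j)) q (e k (T k w)) := fun j k w => by
    rw [hes, ← levTr_levC g hg ψ h hp hF k (haJ j), Sheaf.H.map_comp_apply, heT]
  haveI : Module.Finite A (M 0) := by
    haveI : Module.Finite A (Coh.HH (Xs 0) (F 0) q) := ProjCoh.moduleFinite_HH A _ (hF 0) q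
    let c := (spaceIdIso (g 0) hg0).app (F 0)
    let l : Coh.HH (Xs 0) (F 0) q →ₗ[A] M 0 :=
      { toFun := fun z => (e 0).symm (Sheaf.H.map c.inv q z)
        map_add' := fun x y => by simp
        map_smul' := fun b z => by
          apply (e 0).injective
          rw [AddEquiv.apply_symm_apply, RingHom.id_apply, hes, AddEquiv.apply_symm_apply]
          show Sheaf.H.map c.inv q (Sheaf.H.map (Coh.smulAb (F 0) _) q z) = _
          rw [← Sheaf.H.map_comp_apply, ← Sheaf.H.map_comp_apply]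
          refine congrArg (fun φ => Sheaf.H.map φ q z) ?_
          exact (congrArg (· ≫ c.inv) (toAbFun_smulMod (F 0) b).symm).trans
            ((spaceIdIso (g 0) hg0).inv.naturality (Formal.smulMod A (F 0) b)) }
    refine Module.Finite.of_surjective l fun w => ⟨Sheaf.H.map c.hom q (e 0 w), ?_⟩
    show (e 0).symm (Sheaf.H.map c.inv q (Sheaf.H.map c.hom q (e 0 w))) = w
    rw [← Sheaf.H.map_comp_apply, c.hom_inv_id, Sheaf.H.map_id_apply, AddEquiv.symm_apply_apply]
  refine finite_and_topology a T π ι (fun j k => hhMap A (t j k) q) hspan hπ hsep ?_ ?_ ?_ ?_ ?_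
    (fun j l k => LinearMap.ext fun x => hhMap_comm A (step_comm h hp hF ψ k (haJ j) (haJ l)) q x) d hd
  · intro k w hw
    have h0 : Sheaf.H.map (levTr g hg ψ k) q (e (k + 1) w) = 0 := by rw [← heT, hw, map_zero]
    obtain ⟨y, hy⟩ := Ext.covariant_sequence_exact₂ _ (levSeq_shortExact g hg ψ h hp hF hh k)
      (show Ext.{u} _ (levSeq g hg ψ k).X₂ q from e (k + 1) w) h0
    refine ⟨Sheaf.H.map (pieceH g hg hg0 ψ k) q y, (e (k + 1)).injective ?_⟩
    rw [hιe]
    show Sheaf.H.map _ q (Sheaf.H.map _ q (Sheaf.H.map _ q y)) = _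
    have hinv : Sheaf.H.map (inv (pieceH g hg hg0 ψ k)) q (Sheaf.H.map (pieceH g hg hg0 ψ k) q y) = y :=
      (Sheaf.H.map_comp_apply _ _ _).symm.trans
        ((congrArg (fun φ => Sheaf.H.map φ q y) (IsIso.hom_inv_id _)).trans (Sheaf.H.map_id_apply y))
    exact (congrArg (Sheaf.H.map (levSeq g hg ψ k).f q) hinv).trans hy
  · intro k z
    exact (e k).injective (by rw [heT, hιe, hT0, map_zero])
  · intro j k w z hwz
    exact (e (k + 1 + 1)).injective (by rw [hsm, hwz, hιe, hιe, hstepι])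
  · intro j k w hw
    exact (e (k + 1)).injective (by rw [hsm, hw, map_zero, map_zero, map_zero])
  · intro j w
    refine (e 0).injective ?_
    rw [hes, levSm, smulMod_eq_zero h (haJ j), Functor.map_zero, H_map_eq_comp, Ext.mk₀_zero, Ext.comp_zero, map_zero]

end GrothLib.FCoh7
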