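import Groth.Agent.Lib.FCoh7.RpushFormal
import Groth.Agent.Lib.FCoh7.UniformOpen
import Groth.Agent.Lib.FCoh7.TowerFin
import Groth.Agent.Lib.FCoh7.SemiLin
import Groth.Agent.Lib.ModSupp25.Subterminal

/-!
# Sections of higher direct images of coherent modules along proper morphisms of formal schemes over affine opens
-/

set_option autoImplicit false
set_option linter.style.haveILetI false
set_option linter.unusedSectionVars false
set_option backward.isDefEq.respectTransparency false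
universe u

open CategoryTheory CategoryTheory.Limits AlgebraicGeometry Opposite TopologicalSpace Abelian

noncomputable section

namespace GrothLib.FCoh7

open GrothLib.UnifVanish7 GrothLib.Cohom GrothLib.SheafCoh

section Rep

variable {X Y : TopCat.{u}} {O : Sheaf (Opens.grothendieckTopology X) CommRingCat.{u}}
  {O' : Sheaf (Opens.grothendieckTopology Y) CommRingCat.{u}} (f : ModSite.RMor O O')
  [HasInjectiveResolutions (ModSite.Mod O)]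
  {V : Opens X} {W : Opens Y} (hfn : ∀ U, U ≤ W → f.fn.obj U ≤ V)
  (a : O'.obj.obj (op W)) (b : O.obj.obj (op V))

/-- Every module receives a map which is invertible over `V` and one which is that map times the function there; on higher
direct images the second is the first times the function. -/
theorem exists_smul_rep (hab : IsImage f hfn a b) (M : ModSite.Mod O) (n : ℕ) :
    ∃ (P : ModSite.Mod O) (ε φ : P ⟶ M),
      (∀ U : Opens X, U ≤ V → Function.Bijective (ε.val.app (op U))) ∧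
      (∀ (U : Opens X) (hU : U ≤ V) (x : P.val.obj (op U)), φ.val.app (op U) x =
        (show (ModSite.ringSh O).obj.obj (op U) from O.obj.map (homOfLE hU).op b) • ε.val.app (op U) x) ∧
      ∀ y : ((f.Rpush n).obj P).val.obj (op W), ((f.Rpush n).map φ).val.app (op W) y =
        (show (ModSite.ringSh O').obj.obj (op W) from a) • ((f.Rpush n).map ε).val.app (op W) y := by
  let adj := ModSite.extZeroAdj O V
  have hsub : ∀ U : Opens X, Subsingleton (U ⟶ V) := fun _ => inferInstance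
  haveI := ModSupp25.isIso_extZero_unit O V hsub
  haveI := ModSupp25.isIso_restr_counit O V hsub M
  let σ := _root_.DerComp.smulEnd (_root_.DerComp.GSec.ofSect O V b) ((ModSite.restr O V).obj M)
  let ε := adj.counit.app M
  let φ := (ModSite.extZero O V).map σ ≫ ε
  have hφ : (ModSite.restr O V).map φ = _root_.DerComp.smulEnd (_root_.DerComp.GSec.ofSect O V b)
      ((ModSite.restr O V).obj ((ModSite.extZero O V).obj ((ModSite.restr O V).obj M))) ≫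
        (ModSite.restr O V).map ε := by
    have h1 : (ModSite.restr O V).map ((ModSite.extZero O V).map σ) =
        _root_.DerComp.smulEnd (_root_.DerComp.GSec.ofSect O V b) _ := by
      rw [← cancel_epi (adj.unit.app ((ModSite.restr O V).obj M))]
      exact ((adj.unit.naturality σ).symm.trans (_root_.DerComp.smulEnd_comm _ _))
    exact ((ModSite.restr O V).map_comp _ _).trans (congrArg (· ≫ _) h1)
  refine ⟨_, ε, φ, fun U hU => ?_, fun U hU x => ?_, fun y => ?_⟩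
  · haveI : IsIso (((ModSite.restr O V).map ε).val.app (op (Over.mk (homOfLE hU)))) :=
      inferInstanceAs (IsIso ((SheafOfModules.evaluation _ (op (Over.mk (homOfLE hU)))).map ((ModSite.restr O V).map ε)))
    exact ConcreteCategory.bijective_of_isIso (((ModSite.restr O V).map ε).val.app (op (Over.mk (homOfLE hU))))
  · exact (congrArg (fun ψ : (ModSite.restr O V).obj _ ⟶ (ModSite.restr O V).obj M =>
      ψ.val.app (op (Over.mk (homOfLE hU))) x) hφ).trans ((ε.val.app (op U)).hom.map_smul _ x)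
  · refine (congrArg (fun ψ : (ModSite.restr O' W).obj ((f.Rpush n).obj _) ⟶ (ModSite.restr O' W).obj ((f.Rpush n).obj M) =>
      ψ.val.app (op (Over.mk (𝟙 W))) y) (restr_rpush_map_eq_smul f hfn a b hab φ ε hφ n)).trans ?_
    refine (((f.Rpush n).map ε).val.app (op W)).hom.map_smul _ y |>.trans ?_
    exact congrArg (fun r : O'.obj.obj (op W) => (show (ModSite.ringSh O').obj.obj (op W) from r) •
      ((f.Rpush n).map ε).val.app (op W) y) (ConcreteCategory.congr_hom (O'.obj.map_id (op W)) a)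

end Rep

theorem toGlobal_spec {Z : Scheme.{u}} {R : CommRingCat.{u}} {B : Type u} [CommRing B] (s : Z ⟶ Spec R)
    (φ : CommRingCat.of B ⟶ R) (b : B) :
    Coh.toGlobal (s ≫ Spec.map φ) b = s.appTop ((Scheme.ΓSpecIso R).inv (φ b)) := by
  have h : (Scheme.ΓSpecIso (CommRingCat.of B)).inv ≫ (Spec.map φ).appTop = φ ≫ (Scheme.ΓSpecIso R).inv :=
    (Scheme.ΓSpecIso_inv_naturality φ).symm
  have h' := ConcreteCategory.congr_hom h b
  show (s ≫ Spec.map φ).appTop.hom ((Scheme.ΓSpecIso (CommRingCat.of B)).inv.hom b) = _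
  rw [Scheme.Hom.comp_appTop]
  exact congrArg (fun z => s.appTop z) h'

theorem toGlobal_resLE {X Y : Scheme.{u}} (f : X ⟶ Y) (W : Y.Opens) (V : X.Opens) (e : V ≤ f ⁻¹ᵁ W) {B : Type u}
    [CommRing B] (φ : B →+* Γ(Y, W)) (b : B) :
    Coh.toGlobal (f.resLE W V e ≫ W.toSpecΓ ≫ Spec.map (CommRingCat.ofHom φ)) b =
      V.topIso.inv (f.appLE W V e (φ b)) := by
  rw [← Category.assoc, resLE_toSpecΓ, Category.assoc, ← Spec.map_comp, toGlobal_spec,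
    Scheme.Opens.toSpecΓ_appTop]
  simp

/-- Sections over an open of the base of a module on a formal scheme. -/
abbrev MSecF {𝔜 : FSch.Sys.{u}} (h𝔜 : 𝔜.IsFormal) (G : FSch.ModF 𝔜 h𝔜) (W : (𝔜.X 0).Opens) : Type u :=
  G.val.obj (op W)

instance moduleMSecF {𝔜 : FSch.Sys.{u}} (h𝔜 : 𝔜.IsFormal) (G : FSch.ModF 𝔜 h𝔜) (W : (𝔜.X 0).Opens) :
    Module (FMod7.Sec 𝔜 h𝔜 W) (MSecF h𝔜 G W) :=
  inferInstanceAs (Module ((ModSite.ringSh (𝔜.Osh h𝔜)).obj.obj (op W)) (G.val.obj (op W)))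

/-- A map of modules on sections. -/
def msMap {𝔜 : FSch.Sys.{u}} (h𝔜 : 𝔜.IsFormal) {G G' : FSch.ModF 𝔜 h𝔜} (φ : G ⟶ G') (W : (𝔜.X 0).Opens) :
    MSecF h𝔜 G W →ₗ[FMod7.Sec 𝔜 h𝔜 W] MSecF h𝔜 G' W :=
  (φ.val.app (op W)).hom

variable {𝔛 𝔜 : FSch.Sys.{u}} (h𝔛 : 𝔛.IsFormal) (f : 𝔛 ⟶ 𝔜) (h𝔜 : 𝔜.IsFormal)

/-- A function on an open of the base on a level over the preimage. -/
theorem proj_sharp (W : (𝔜.X 0).Opens) (k : ℕ) (b : FMod7.Sec 𝔜 h𝔜 W) :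
    (𝔛.OshProj h𝔛 k).hom.app (op ((f : FSch.Hom 𝔛 𝔜).app 0 ⁻¹ᵁ W)) ((FSch.Hom.sharp f h𝔛 h𝔜).hom.app (op W) b) =
      ((f : FSch.Hom 𝔛 𝔜).app k).appLE (𝔜.lvU h𝔜 k W) (𝔛.lvU h𝔛 k ((f : FSch.Hom 𝔛 𝔜).app 0 ⁻¹ᵁ W))
        (FSch.Hom.lvU_preimage f h𝔛 h𝔜 k W).ge (FMod7.proj 𝔜 h𝔜 W k b) :=
  ConcreteCategory.congr_hom (congrArg (fun φ : 𝔜.Osh h𝔜 ⟶ _ => φ.hom.app (op W))
    (FSch.Hom.sharp_proj f h𝔛 h𝔜 k)) b

variable [HasInjectiveResolutions (FSch.ModF 𝔛 h𝔛)] (𝔉 : FSch.ModF 𝔛 h𝔛) [FSch.IsCohF 𝔛 h𝔛 𝔉]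

set_option maxHeartbeats 800000 in
/-- Over an affine open of the base, sections of `R^q f_*` of a coherent module are a finite module, and classes vanishing
on a high level are small. -/
theorem rpush_sections_finite (hN : 𝔛.IsLocNoethFormal) (hN' : 𝔜.IsLocNoethFormal) (hf : FSch.IsProperHom f)
    (q : ℕ) {W : (𝔜.X 0).Opens} (hW : IsAffineOpen W)
    (hsep : ∀ x : MSecF h𝔜 ((FSch.RpushF f h𝔛 h𝔜 q).obj 𝔉) W, (∀ k, msMap h𝔜
      ((FSch.RpushF f h𝔛 h𝔜 q).map ((FSch.levelMor 𝔛 h𝔛 k).adj.unit.app 𝔉)) W x = 0) → x = 0) :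
    Module.Finite (FMod7.Sec 𝔜 h𝔜 W) (MSecF h𝔜 ((FSch.RpushF f h𝔛 h𝔜 q).obj 𝔉) W) ∧
    ∃ c : ℕ, ∀ (n : ℕ) (x : MSecF h𝔜 ((FSch.RpushF f h𝔛 h𝔜 q).obj 𝔉) W),
      msMap h𝔜 ((FSch.RpushF f h𝔛 h𝔜 q).map ((FSch.levelMor 𝔛 h𝔛 (c + n)).adj.unit.app 𝔉)) W x = 0 →
        x ∈ FMod7.secIdeal 𝔜 h𝔜 W ^ n • (⊤ : Submodule (FMod7.Sec 𝔜 h𝔜 W) _) := by
  obtain ⟨Φ⟩ := nonempty_rpushF_natIso h𝔛 f h𝔜 q
  obtain ⟨inst, p, had, hp, hpq⟩ := exists_adicSys (h𝔜 := h𝔜) hN' hW h𝔛 f hf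
  haveI := FMod7.isNoetherianRing_Sec (h := h𝔜) hN' hW
  haveI := FMod7.isAdicComplete_Sec (h := h𝔜) hN' hW
  let V := (f : FSch.Hom 𝔛 𝔜).app 0 ⁻¹ᵁ W
  let 𝔛' := 𝔛.restrictOpen h𝔛 V
  have h' : 𝔛'.IsFormal := FSchSys.isFormal_restrictOpen h𝔛 V
  let ψ := (FMod7.pullSys h𝔛 𝔉).e
  let F' : ∀ k, (𝔛'.X k).Modules := fun k =>
    (Scheme.Modules.pullback (𝔛.lvU h𝔛 k V).ι).obj ((FMod7.pullSys h𝔛 𝔉).F k)
  have hsq : ∀ k, 𝔛'.ι k ≫ (𝔛.lvU h𝔛 (k + 1) V).ι = (𝔛.lvU h𝔛 k V).ι ≫ 𝔛.ι k :=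
    fun k => Scheme.Hom.resLE_comp_ι _ _
  let ψ' : ∀ k, (Scheme.Modules.pullback (𝔛'.ι k)).obj (F' (k + 1)) ≅ F' k := fun k => sqIso (hsq k) (ψ k)
  have hj : ∀ k, (𝔛.lvU h𝔛 k V).ι.base ≫ 𝔛.gInv h𝔛 k = 𝔛'.gInv h' k ≫ (𝔛.lvU h𝔛 0 V).ι.base :=
    fun k => FSch.Hom.base_gInv (𝔛.restrictOpenι h𝔛 V) h' h𝔛 k
  have hι : Topology.IsOpenEmbedding (𝔛.lvU h𝔛 0 V).ι.base := (𝔛.lvU h𝔛 0 V).ι.isOpenEmbedding
  obtain ⟨c⟩ := Cohom.nonempty_comparison_restrFun hι (⊤ : Opens (𝔛'.X 0).toTopCat) q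
  have e : hι.isOpenMap.functor.obj (⊤ : Opens (𝔛'.X 0).toTopCat) = V := by
    have : (Opens.map (𝔛.gInv h𝔛 0)).obj V = V := by rw [gInv_zero]; rfl
    refine Eq.trans ?_ this
    ext z
    exact ⟨fun ⟨t, _, ht⟩ => ht ▸ t.2, fun hz => ⟨⟨z, hz⟩, trivial, rfl⟩⟩
  let α : ∀ k, (Cohom.restrFun hι).obj (ModSite.toAb (levObj h𝔛 𝔉 k)) ≅ levSh (𝔛'.gInv h') (F := F') k := fun k =>
    haveI := isIso_restrLev (𝔛.lvU h𝔛 0 V).ι.base hι (𝔛.lvU h𝔛 k V).ι (𝔛.gInv h𝔛 k) (𝔛'.gInv h' k)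
      (isHomeomorph_gInv h𝔛 k).injective (isHomeomorph_gInv h' k).surjective (hj k) ((FMod7.pullSys h𝔛 𝔉).F k)
    asIso (restrLev (𝔛.lvU h𝔛 0 V).ι.base hι (𝔛.lvU h𝔛 k V).ι (𝔛.gInv h𝔛 k) (𝔛'.gInv h' k) (hj k)
      ((FMod7.pullSys h𝔛 𝔉).F k))
  have hα : ∀ k, (Cohom.restrFun hι).map ((SheafOfModules.toSheaf _).map (FSch.levelTrans 𝔛 h𝔛 𝔉 k)) ≫ (α k).hom =
      (α (k + 1)).hom ≫ levTr (𝔛'.gInv h') (𝔛'.ι_base_gInv h') ψ' k := fun k =>
    (congrArg (fun t => (Cohom.restrFun hι).map t ≫ (α k).hom) (toAb_levelTrans h𝔛 𝔉 k)).trans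
      (restrLev_levTr (𝔛.lvU h𝔛 0 V).ι.base hι (fun k => (𝔛.lvU h𝔛 k V).ι) hsq (𝔛.gInv h𝔛)
        (𝔛.ι_base_gInv h𝔛) (𝔛'.gInv h') (𝔛'.ι_base_gInv h') hj ψ k)
  -- the comparison on the cohomology presheaves
  let ext : ∀ M : FSch.ModF 𝔛 h𝔛, ((cohPreF h𝔛 f q).obj M).obj (op W) ≃+
      Sheaf.H ((Cohom.restrFun hι).obj (ModSite.toAb M)) q := fun M =>
    (HUext (ModSite.toAb M) q V).trans ((Cohom.extPrecompIso (eqToIso (congrArg Cohom.freeFun.obj e)) (ModSite.toAb M) q).trans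
      ((c.equiv (ModSite.toAb M) trivial).trans (Cohom.HEquivTop _ q).symm))
  have hext : ∀ {M N : FSch.ModF 𝔛 h𝔛} (φ : M ⟶ N) s, ext N (((cohPreF h𝔛 f q).map φ).app (op W) s) =
      Sheaf.H.map ((Cohom.restrFun hι).map ((SheafOfModules.toSheaf _).map φ)) q (ext M s) := fun {M N} φ s => by
    show (Cohom.HEquivTop _ q).symm (c.equiv _ trivial (Cohom.extPrecompIso _ _ q (HUext _ q V _))) = _
    rw [show HUext (ModSite.toAb N) q V (((cohPreF h𝔛 f q).map φ).app (op W) s) =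
      (HUext (ModSite.toAb M) q V s).comp (Ext.mk₀ ((SheafOfModules.toSheaf _).map φ)) (add_zero q) from
        HUext_cohPreF_map h𝔛 f φ q W s]
    refine (congrArg (fun z => (Cohom.HEquivTop _ q).symm (c.equiv _ trivial z))
      (Ext.comp_assoc_of_third_deg_zero (Ext.mk₀ _) (HUext (ModSite.toAb M) q V s) (Ext.mk₀ _) (zero_add q)).symm).trans ?_
    rw [c.naturality _ trivial trivial]
    exact (Ext.comp_assoc_of_third_deg_zero _ _ _ (zero_add q)).symm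
  -- the sheafification map
  let u : ∀ M : FSch.ModF 𝔛 h𝔛, ((cohPreF h𝔛 f q).obj M).obj (op W) →+ MSecF h𝔜 ((FSch.RpushF f h𝔛 h𝔜 q).obj M) W :=
    fun M => ((Φ.inv.app M).hom.app (op W)).hom.comp
      ((toSheafify (Opens.grothendieckTopology (𝔜.X 0).toTopCat) ((cohPreF h𝔛 f q).obj M)).app (op W)).hom
  have hu : ∀ {M N : FSch.ModF 𝔛 h𝔛} (φ : M ⟶ N) s, u N (((cohPreF h𝔛 f q).map φ).app (op W) s) =
      msMap h𝔜 ((FSch.RpushF f h𝔛 h𝔜 q).map φ) W (u M s) := fun {M N} φ s => by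
    refine Eq.trans ?_ (ConcreteCategory.congr_hom (congrArg (fun ψ => ψ.hom.app (op W))
      (Φ.inv.naturality φ)) ((toSheafify _ ((cohPreF h𝔛 f q).obj M)).app (op W) s))
    exact congrArg ((Φ.inv.app N).hom.app (op W)) (ConcreteCategory.congr_hom (NatTrans.congr_app
      (toSheafify_naturality (Opens.grothendieckTopology (𝔜.X 0).toTopCat) ((cohPreF h𝔛 f q).map φ)) (op W)) s)
  have hub : ∀ k, Function.Bijective (u (levObj h𝔛 𝔉 k)) := fun k =>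
    (ConcreteCategory.bijective_of_isIso ((Φ.inv.app (levObj h𝔛 𝔉 k)).hom.app (op W))).comp
      (bijective_toSheafify_cohPre h𝔛 𝔉 h𝔜 f hN hf q k hW)
  let E : ∀ k, MSecF h𝔜 ((FSch.RpushF f h𝔛 h𝔜 q).obj (levObj h𝔛 𝔉 k)) W ≃+
      Sheaf.H (levSh (𝔛'.gInv h') (F := F') k) q := fun k =>
    (AddEquiv.ofBijective (u (levObj h𝔛 𝔉 k)) (hub k)).symm.trans ((ext _).trans (hIso (α k) q))
  have hEu : ∀ k s, E k (u (levObj h𝔛 𝔉 k) s) = Sheaf.H.map (α k).hom q (ext _ s) := fun k s =>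
    congrArg (fun z => Sheaf.H.map (α k).hom q (ext _ z))
      ((AddEquiv.ofBijective (u (levObj h𝔛 𝔉 k)) (hub k)).symm_apply_apply s)
  -- semilinearity
  have hEs : ∀ k (b : FMod7.Sec 𝔜 h𝔜 W) w,
      E k (b • w) = Sheaf.H.map (levSm (𝔛'.gInv h') (F := F') b k) q (E k w) := fun k b w => by
    obtain ⟨s, rfl⟩ := (hub k).surjective w
    let bV : (𝔛.Osh h𝔛).obj.obj (op V) := (FSch.Hom.sharp f h𝔛 h𝔜).hom.app (op W) b
    have hab : IsImage (FSch.homMor f h𝔛 h𝔜) (V := V) (fun U hU => ((Opens.map _).map (homOfLE hU)).le) b bV :=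
      fun U hU => (ConcreteCategory.congr_hom ((FSch.Hom.sharp f h𝔛 h𝔜).hom.naturality (homOfLE hU).op) b).symm
    obtain ⟨P, ε, φ, hεb, hφ, hR⟩ := exists_smul_rep (FSch.homMor f h𝔛 h𝔜) _ b bV hab (levObj h𝔛 𝔉 k) q
    have hfnV : ∀ U : Opens (𝔛'.X 0).toTopCat, hι.isOpenMap.functor.obj U ≤ V := fun U =>
      le_of_le_of_eq (hι.isOpenMap.functor.map (homOfLE le_top)).le e
    haveI hεi : IsIso ((Cohom.restrFun hι).map ((SheafOfModules.toSheaf _).map ε)) := by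
      haveI : ∀ U, IsIso (((Cohom.restrFun hι).map ((SheafOfModules.toSheaf _).map ε)).hom.app U) := fun U => by
        rw [ConcreteCategory.isIso_iff_bijective]
        exact hεb _ (hfnV U.unop)
      haveI : IsIso ((Cohom.restrFun hι).map ((SheafOfModules.toSheaf _).map ε)).hom := NatIso.isIso_of_isIso_app _
      exact @isIso_of_reflects_iso _ _ _ _ _ _ _ (sheafToPresheaf _ _) this _
    have hσ : (Cohom.restrFun hι).map ((SheafOfModules.toSheaf _).map φ) ≫ (α k).hom =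
        (Cohom.restrFun hι).map ((SheafOfModules.toSheaf _).map ε) ≫ (α k).hom ≫
          levSm (𝔛'.gInv h') (F := F') b k := by
      refine Sheaf.hom_ext (NatTrans.ext (funext fun U => ?_))
      ext x
      let O := hι.isOpenMap.functor.obj U.unop
      let jk := (𝔛.lvU h𝔛 k V).ι
      let Q := (FMod7.pullSys h𝔛 𝔉).F k
      let U' := (Opens.map (𝔛'.gInv h' k)).obj U.unop
      let O' := (Opens.map (𝔛.gInv h𝔛 k)).obj O
      let m : Γ(Q, O') := ε.val.app (op O) x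
      let r : Γ(𝔛.X k, O') := (𝔛.OshProj h𝔛 k).hom.app (op O) ((𝔛.Osh h𝔛).obj.map (homOfLE (hfnV U.unop)).op bV)
      have le := le_preimage (𝔛.lvU h𝔛 0 V).ι.base hι jk (𝔛.gInv h𝔛 k) (𝔛'.gInv h' k) (hj k) U.unop
      show BCCoh.pullRes jk Q O' U' le (φ.val.app (op O) x) =
        (show Γ(𝔛'.X k, U') from Coh.resTop (𝔛'.X k) (op U') (Coh.toGlobal (𝔛'.X k ↘ Spec (CommRingCat.of _)) b)) •
          (show Γ((Scheme.Modules.pullback jk).obj Q, U') from BCCoh.pullRes jk Q O' U' le m)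
      refine (congrArg (BCCoh.pullRes jk Q O' U' le) (hφ O (hfnV U.unop) x)).trans ?_
      refine (BCCoh.pullRes_smul jk Q O' U' le r m).trans (congrArg (· • (show Γ((Scheme.Modules.pullback jk).obj Q, U')
        from BCCoh.pullRes jk Q O' U' le m)) ?_)
      have hr : r = (𝔛.X k).presheaf.map ((Opens.map (𝔛.gInv h𝔛 k)).map (homOfLE (hfnV U.unop))).op
          (((f : FSch.Hom 𝔛 𝔜).app k).appLE (𝔜.lvU h𝔜 k W) (𝔛.lvU h𝔛 k V)
            (FSch.Hom.lvU_preimage f h𝔛 h𝔜 k W).ge (FMod7.proj 𝔜 h𝔜 W k b)) :=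
        (ConcreteCategory.congr_hom ((𝔛.OshProj h𝔛 k).hom.naturality (homOfLE (hfnV U.unop)).op) bV).trans
          (congrArg _ (proj_sharp h𝔛 f h𝔜 W k b))
      have hstr : (𝔛'.X k ↘ Spec (CommRingCat.of (FMod7.Sec 𝔜 h𝔜 W))) =
          ((f : FSch.Hom 𝔛 𝔜).app k).resLE (𝔜.lvU h𝔜 k W) (𝔛.lvU h𝔛 k V) (FSch.Hom.lvU_preimage f h𝔛 h𝔜 k W).ge ≫
            (𝔜.lvU h𝔜 k W).toSpecΓ ≫ Spec.map (CommRingCat.ofHom (FMod7.proj 𝔜 h𝔜 W k)) :=
        (had.struct k).trans (hpq k)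
      rw [hr, hstr]
      refine Eq.trans ?_ (congrArg (Coh.resTop (𝔛'.X k) (op U')) (toGlobal_resLE _ _ _ _ _ b)).symm
      have hC : (𝔛.X k).presheaf.map ((Opens.map (𝔛.gInv h𝔛 k)).map (homOfLE (hfnV U.unop))).op ≫
          jk.appLE O' U' le =
          (𝔛.lvU h𝔛 k V).topIso.inv ≫ (𝔛'.X k).presheaf.map (homOfLE (le_top : U' ≤ ⊤)).op := by
        rw [Scheme.Hom.map_appLE]
        simp [jk, Scheme.Opens.topIso_inv, ← Functor.map_comp, Scheme.Opens.ι_appLE]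
        exact (congrArg (𝔛.X k).presheaf.map (Subsingleton.elim _ _)).trans ((𝔛.X k).presheaf.map_comp _ _)
      exact ConcreteCategory.congr_hom hC _
    obtain ⟨t, rfl⟩ : ∃ t, ((cohPreF h𝔛 f q).map ε).app (op W) t = s := by
      refine ⟨(ext P).symm (Sheaf.H.map (inv ((Cohom.restrFun hι).map ((SheafOfModules.toSheaf _).map ε))) q (ext _ s)),
        (ext _).injective ?_⟩
      rw [hext, AddEquiv.apply_symm_apply, ← Sheaf.H.map_comp_apply, IsIso.inv_hom_id, Sheaf.H.map_id_apply]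
    have hb : b • u _ (((cohPreF h𝔛 f q).map ε).app (op W) t) = u _ (((cohPreF h𝔛 f q).map φ).app (op W) t) := by
      rw [hu, hu]
      exact (hR (u P t)).symm
    rw [hb, hEu, hEu, hext, hext]
    refine (Sheaf.H.map_comp_apply _ _ _).symm.trans ((congrArg (fun φ => Sheaf.H.map φ q (ext P t)) hσ).trans ?_)
    exact (Sheaf.H.map_comp_apply _ _ _).trans (Sheaf.H.map_comp_apply _ _ _)
  have hET : ∀ k w, E k (msMap h𝔜 ((FSch.RpushF f h𝔛 h𝔜 q).map (FSch.levelTrans 𝔛 h𝔛 𝔉 k)) W w) =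
      Sheaf.H.map (levTr (𝔛'.gInv h') (𝔛'.ι_base_gInv h') ψ' k) q (E (k + 1) w) := fun k w => by
    obtain ⟨s, rfl⟩ := (hub (k + 1)).surjective w
    rw [← hu, hEu, hEu, hext]
    refine (Sheaf.H.map_comp_apply _ _ _).symm.trans ((congrArg (fun φ => Sheaf.H.map φ q (ext _ s)) (hα k)).trans ?_)
    exact Sheaf.H.map_comp_apply _ _ _
  let M : ℕ → Type u := fun k => MSecF h𝔜 ((FSch.RpushF f h𝔛 h𝔜 q).obj (levObj h𝔛 𝔉 k)) W
  let π : ∀ k, MSecF h𝔜 ((FSch.RpushF f h𝔛 h𝔜 q).obj 𝔉) W →ₗ[FMod7.Sec 𝔜 h𝔜 W] M k :=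
    fun k => msMap h𝔜 ((FSch.RpushF f h𝔛 h𝔜 q).map ((FSch.levelMor 𝔛 h𝔛 k).adj.unit.app 𝔉)) W
  let T : ∀ k, M (k + 1) →ₗ[FMod7.Sec 𝔜 h𝔜 W] M k :=
    fun k => msMap h𝔜 ((FSch.RpushF f h𝔛 h𝔜 q).map (FSch.levelTrans 𝔛 h𝔛 𝔉 k)) W
  have hπ : ∀ k x, T k (π (k + 1) x) = π k x := fun k x =>
    congrArg (fun ψ : (FSch.RpushF f h𝔛 h𝔜 q).obj 𝔉 ⟶ _ => ψ.val.app (op W) x)
      (((FSch.RpushF f h𝔛 h𝔜 q).map_comp _ _).symm.trans
        (congrArg (FSch.RpushF f h𝔛 h𝔜 q).map (FSch.unit_levelTrans 𝔛 h𝔛 𝔉 k)))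
  have hF' : ∀ k, Coh.IsCoh (F' k) := fun k => FormalExist7.isCoh_pullbackMod _ (FMod7.isCoh_pullSys k)
  have key := @finite_and_topology_of_tower (FMod7.Sec 𝔜 h𝔜 W) _ _ (FMod7.secIdeal 𝔜 h𝔜 W) _ 𝔛'.X inst 𝔛'.ι p
    (𝔛'.gInv h') (𝔛'.ι_base_gInv h') (gInv_zero h') F' ψ' had hp hF' (isHomeomorph_gInv h') q
    M (fun k => inferInstance) (fun k => inferInstance) T E hET hEs
    (MSecF h𝔜 ((FSch.RpushF f h𝔛 h𝔜 q).obj 𝔉) W) _ _ π hπ hsep
  exact key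

end GrothLib.FCoh7
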