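import Groth.Prelude.Def_Coh
import Groth.Prelude.Def_FSch6
import Groth.Agent.Lib.LocZ.Excision
import Groth.Agent.Lib.ColimCoh.RpushNat
import Groth.Agent.Lib.SheafCoh.Derived
import Groth.Agent.Lib.FMod7.ComplFlat
import Groth.Agent.Lib.FSchSys.Completion
import Groth.Agent.Lib.SiteDer.ModGen

/-!
# Higher direct images and direct images from completions
-/

set_option autoImplicit false
set_option linter.style.haveILetI false
set_option linter.unusedSectionVars false
set_option backward.isDefEq.respectTransparency false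
universe u

open CategoryTheory CategoryTheory.Limits AlgebraicGeometry Opposite TopologicalSpace

noncomputable section

namespace GrothLib.FCoh7

/-- Direct image of sheaves along a closed embedding keeps epimorphisms. -/
theorem isLocallySurjective_push_of_isClosedEmbedding {T T' : TopCat.{u}} (φ : T ⟶ T')
    (hφ : Topology.IsClosedEmbedding φ) {F G : CohTop.Ab T} (g : F ⟶ G) [Epi g] :
    Sheaf.IsLocallySurjective ((CohTop.push φ).map g) := by
  have : Sheaf.IsLocallySurjective g := (Sheaf.isLocallySurjective_iff_epi' AddCommGrpCat.{u} g).2 inferInstance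
  refine ⟨fun {U} s y hy => ?_⟩
  by_cases hyr : y ∈ Set.range φ
  · obtain ⟨x, rfl⟩ := hyr
    obtain ⟨W, i, ⟨t, ht⟩, hxW⟩ := (Presheaf.imageSieve_mem (Opens.grothendieckTopology T) g.hom s) x hy
    obtain ⟨W', hW'o, hW'⟩ := hφ.isInducing.isOpen_iff.1 W.isOpen
    have hle : (Opens.map φ).obj (U ⊓ ⟨W', hW'o⟩) ≤ W := fun z hz => (Set.ext_iff.1 hW' z).1 hz.2
    refine ⟨U ⊓ ⟨W', hW'o⟩, homOfLE inf_le_left, ?_, hy, (Set.ext_iff.1 hW' x).2 hxW⟩
    exact (Presheaf.imageSieve g.hom s).downward_closed (show Presheaf.imageSieve g.hom s i from ⟨t, ht⟩)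
      (homOfLE hle)
  · let W : Opens T' := ⟨(Set.range φ)ᶜ, hφ.isClosed_range.isOpen_compl⟩
    have hbot : (Opens.map φ).obj (U ⊓ W) = ⊥ :=
      Opens.ext (Set.eq_empty_iff_forall_notMem.2 fun z hz => hz.2 ⟨z, rfl⟩)
    refine ⟨U ⊓ W, homOfLE inf_le_left, ⟨0, ?_⟩, hy, hyr⟩
    have hT : IsZero (G.obj.obj (op (⊥ : Opens T))) :=
      (TopCat.Sheaf.isTerminalOfEmpty (G : TopCat.Sheaf AddCommGrpCat.{u} T)).isZero
    haveI : Subsingleton (((CohTop.push φ).obj G).obj.obj (op (U ⊓ W))) :=
      AddCommGrpCat.subsingleton_of_isZero (hT.of_iso (eqToIso (congrArg (fun V => G.obj.obj (op V)) hbot)))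
    exact Subsingleton.elim _ _

section Swap

variable {X : Scheme.{u}} [IsLocallyNoetherian X] {𝓚 : X.IdealSheafData}
  (hX : (FSch.completionAlong X 𝓚).IsFormal)

theorem isClosedEmbedding_toX :
    Topology.IsClosedEmbedding (FSch.completionToX X 𝓚 0).base :=
  haveI : IsClosedImmersion (FSch.completionToX X 𝓚 0) :=
    inferInstanceAs (IsClosedImmersion (𝓚 ^ (0 + 1)).subschemeι)
  (FSch.completionToX X 𝓚 0).isClosedEmbedding

instance additive_complPush : (FMod7.complMor hX).push.Additive := by
  haveI := preservesBinaryBiproducts_of_preservesBinaryProducts (FMod7.complMor hX).push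
  exact Functor.additive_of_preservesBinaryBiproducts _

instance preservesFiniteLimits_complPush : PreservesFiniteLimits (FMod7.complMor hX).push := by
  have : PreservesLimitsOfSize.{0, 0} (FMod7.complMor hX).push :=
    (FMod7.complMor hX).adj.rightAdjoint_preservesLimits
  exact PreservesLimitsOfSize.preservesFiniteLimits.{0, 0} _

instance preservesEpimorphisms_complPush : (FMod7.complMor hX).push.PreservesEpimorphisms := by
  refine ⟨fun {M N} g _ => ?_⟩
  apply Functor.epi_of_epi_map (SheafOfModules.toSheaf _)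
  haveI : Epi ((SheafOfModules.toSheaf _).map g) := QCoh.toSheaf_map_epi g
  exact (Sheaf.isLocallySurjective_iff_epi' AddCommGrpCat.{u} ((SheafOfModules.toSheaf _).map ((FMod7.complMor hX).push.map g))).1
    (isLocallySurjective_push_of_isClosedEmbedding (FSch.completionToX X 𝓚 0).base isClosedEmbedding_toX
      ((SheafOfModules.toSheaf _).map g))

instance preservesHomology_complPush : (FMod7.complMor hX).push.PreservesHomology :=
  Functor.preservesHomology_of_preservesEpis_and_kernels _

instance preservesFiniteColimits_complPush : PreservesFiniteColimits (FMod7.complMor hX).push :=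
  (FMod7.complMor hX).push.preservesFiniteColimits_of_preservesHomology

theorem injective_complPush (J : FSch.ModF (FSch.completionAlong X 𝓚) hX) (_ : Injective J) :
    Injective ((FMod7.complMor hX).push.obj J) := by
  haveI : PreservesFiniteLimits (FMod7.complMor hX).pull := FMod7.isFlat_complMor hX
  exact Injective.injective_of_adjoint (FMod7.complMor hX).adj J

variable {Y : Scheme.{u}} [IsLocallyNoetherian Y] {𝓘 : Y.IdealSheafData} (f : X ⟶ Y)
  (hpc : FSch.PowCompat f 𝓚 𝓘) (hY : (FSch.completionAlong Y 𝓘).IsFormal)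
  [HasInjectiveResolutions X.Modules] [HasInjectiveResolutions (FSch.ModF (FSch.completionAlong X 𝓚) hX)]

/-- The square of direct images of a completed morphism. -/
abbrev complPushSq :
    (FMod7.complMor hX).push ⋙ Scheme.Modules.pushforward f ≅
      FSch.pushF (FSch.completionMap f 𝓚 𝓘 hpc) hX hY ⋙ (FMod7.complMor hY).push :=
  FSch.schPushSq (FSch.completionMap f 𝓚 𝓘 hpc) hX hY f
    (FSch.completionToX X 𝓚) (FSch.completionToX_comm X 𝓚) (FSch.completionToX Y 𝓘) (FSch.completionToX_comm Y 𝓘)
    (FSch.completionMap_sq f 𝓚 𝓘 hpc)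

/-- Higher direct images commute with the direct images from completions. -/
theorem exists_rpushSwap (n : ℕ) :
    ∃ θ : ∀ M : FSch.ModF (FSch.completionAlong X 𝓚) hX,
        ((show ModSite.Mod Y.sheaf from (Coh.Rpush f n).obj ((FMod7.complMor hX).push.obj M)) ≅
          (FMod7.complMor hY).push.obj ((FSch.RpushF (FSch.completionMap f 𝓚 𝓘 hpc) hX hY n).obj M)),
      ∀ {M N : FSch.ModF (FSch.completionAlong X 𝓚) hX} (φ : M ⟶ N),
        (show (show ModSite.Mod Y.sheaf from _) ⟶ (show ModSite.Mod Y.sheaf from _) from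
            (Coh.Rpush f n).map ((FMod7.complMor hX).push.map φ)) ≫ (θ N).hom =
          (θ M).hom ≫ (FMod7.complMor hY).push.map
            ((FSch.RpushF (FSch.completionMap f 𝓚 𝓘 hpc) hX hY n).map φ) := by
  haveI : (Scheme.Modules.pushforward f).Additive := by
    haveI := preservesBinaryBiproducts_of_preservesBinaryProducts (Scheme.Modules.pushforward f)
    exact Functor.additive_of_preservesBinaryBiproducts _
  let P := LocZ.rightDerivedPreExactIso (FMod7.complMor hX).push (injective_complPush hX)
    (Scheme.Modules.pushforward f) n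
  refine ⟨fun M => P.app M ≪≫ SheafCoh.rightDerivedPostExactIso _
    (FSch.pushF (FSch.completionMap f 𝓚 𝓘 hpc) hX hY) (FMod7.complMor hY).push (complPushSq hX f hpc hY) M n,
    fun {M N} φ => ?_⟩
  refine ((Category.assoc _ _ _).symm.trans (congrArg (· ≫ _) (P.hom.naturality φ))).trans
    ((Category.assoc _ _ _).trans ((congrArg (P.hom.app M ≫ ·) ?_).trans (Category.assoc _ _ _).symm))
  exact ColimCoh.rightDerivedPostExactIso_naturality _ (FSch.pushF (FSch.completionMap f 𝓚 𝓘 hpc) hX hY)
    (FMod7.complMor hY).push (complPushSq hX f hpc hY) φ n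

end Swap

end GrothLib.FCoh7
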